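import Mathlib
import Groth.Prelude.Def_PBC

/-!
# Ind-étale algebras: concrete directed presentations

From `EtPBC.IsIndEtale A B` we extract a concrete filtered system of étale `A`-algebras with
compatible maps to `B`, jointly surjective and with the usual "equal in the colimit iff equal at a
later stage" property.  We also give a "flatness via stages" criterion.
-/

set_option autoImplicit false
universe u
open CategoryTheory Limits TensorProduct

namespace Groth.Agent.Lead.IndEt

/-- Equational criterion for flatness, transported along "stages". -/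
theorem flat_of_stages {R M : Type u} [CommRing R] [AddCommGroup M] [Module R M]
    (H : ∀ {l : ℕ} (f : Fin l → R) (x : Fin l → M), ∑ i, f i • x i = 0 →
      ∃ (R' : Type u) (_ : CommRing R') (M' : Type u) (_ : AddCommGroup M') (_ : Module R' M')
        (_ : Module.Flat R' M') (ρ : R' →+* R) (ψ : M' →+ M)
        (_ : ∀ (r : R') (m : M'), ψ (r • m) = ρ r • ψ m) (f' : Fin l → R') (x' : Fin l → M'),
        (∀ i, ρ (f' i) = f i) ∧ (∀ i, ψ (x' i) = x i) ∧ ∑ i, f' i • x' i = 0) :
    Module.Flat R M := by
  rw [Module.Flat.iff_forall_isTrivialRelation]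
  intro l f x h
  obtain ⟨R', _, M', _, _, _, ρ, ψ, hψ, f', x', hf, hx, h'⟩ := H f x h
  obtain ⟨k, a, y, hxy, hfa⟩ := Module.Flat.isTrivialRelation_of_sum_smul_eq_zero h'
  refine ⟨k, fun i j => ρ (a i j), fun j => ψ (y j), ?_, ?_⟩
  · intro i
    rw [← hx i, hxy i, map_sum]
    exact Finset.sum_congr rfl fun j _ => hψ _ _
  · intro j
    have := congrArg ρ (hfa j)
    rw [map_sum, map_zero] at this
    rw [← this]
    exact Finset.sum_congr rfl fun i _ => by rw [map_mul, hf i]

/-- A concrete filtered presentation of `B` by `A`-algebras. -/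
structure Pres (A B : Type u) [CommRing A] [CommRing B] [Algebra A B] where
  J : Type u
  [cat : SmallCategory J]
  [filt : IsFiltered J]
  obj : J → Type u
  [ring : ∀ j, CommRing (obj j)]
  [alg : ∀ j, Algebra A (obj j)]
  map : ∀ {i j : J}, (i ⟶ j) → obj i →ₐ[A] obj j
  ι : ∀ j, obj j →ₐ[A] B
  map_id : ∀ (j : J) (x : obj j), map (𝟙 j) x = x
  map_comp : ∀ {i j k : J} (f : i ⟶ j) (g : j ⟶ k) (x : obj i), map (f ≫ g) x = map g (map f x)
  ι_map : ∀ {i j : J} (f : i ⟶ j) (x : obj i), ι j (map f x) = ι i x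
  surj : ∀ b : B, ∃ (j : J) (x : obj j), ι j x = b
  inj : ∀ (j : J) (x y : obj j), ι j x = ι j y → ∃ (k : J) (f : j ⟶ k), map f x = map f y

attribute [instance] Pres.cat Pres.filt Pres.ring Pres.alg

variable {A B : Type u} [CommRing A] [CommRing B] [Algebra A B]

theorem exists_pres (h : EtPBC.IsIndEtale A B) :
    ∃ P : Pres A B, ∀ j, Algebra.Etale A (P.obj j) := by
  obtain ⟨J, hJ, hF, D, c, hc, het, ⟨e⟩⟩ := h
  let c2 : Cocone D := c.extend e.hom
  have hc2 : IsColimit c2 := IsColimit.ofIsoColimit hc (Cocones.ext e (fun j => rfl))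
  haveI : PreservesColimitsOfShape J (forget CommRingCat.{u}) :=
    PreservesFilteredColimitsOfSize.preserves_filtered_colimits J
  have hc3 : IsColimit ((Under.forget _).mapCocone c2) := isColimitOfPreserves (Under.forget _) hc2
  letI alg : ∀ j, Algebra A (D.obj j).right := fun j => (D.obj j).hom.hom.toAlgebra
  refine ⟨{ J := J, cat := hJ, filt := hF, obj := fun j => (D.obj j).right,
            ring := fun j => inferInstance, alg := alg,
            map := fun {i j} f => ⟨(D.map f).right.hom, fun r => ?_⟩,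
            ι := fun j => ⟨(c2.ι.app j).right.hom, fun r => ?_⟩,
            map_id := ?_, map_comp := ?_, ι_map := ?_, surj := ?_, inj := ?_ }, het⟩
  · have := Under.w (D.map f)
    exact congrArg (fun g => g.hom r) this
  · have := Under.w (c2.ι.app j)
    exact congrArg (fun g => g.hom r) this
  · intro j x
    show (D.map (𝟙 j)).right.hom x = x
    rw [D.map_id]; rfl
  · intro i j k f g x
    show (D.map (f ≫ g)).right.hom x = (D.map g).right.hom ((D.map f).right.hom x)
    rw [D.map_comp]; rfl
  · intro i j f x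
    have := c2.w f
    exact congrArg (fun g => g.right.hom x) this
  · intro b
    obtain ⟨j, y, hy⟩ := Concrete.isColimit_exists_rep (D ⋙ Under.forget _) hc3 b
    exact ⟨j, y, hy⟩
  · intro j x y hxy
    obtain ⟨k, f, g, hfg⟩ := Concrete.isColimit_exists_of_rep_eq (D ⋙ Under.forget _) hc3 x y hxy
    refine ⟨IsFiltered.coeq f g, f ≫ IsFiltered.coeqHom f g, ?_⟩
    show (D.map (f ≫ IsFiltered.coeqHom f g)).right.hom x
      = (D.map (f ≫ IsFiltered.coeqHom f g)).right.hom y
    conv_rhs => rw [IsFiltered.coeq_condition f g]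
    rw [D.map_comp, D.map_comp]
    show (D.map (IsFiltered.coeqHom f g)).right.hom ((D.map f).right.hom x)
      = (D.map (IsFiltered.coeqHom f g)).right.hom ((D.map g).right.hom y)
    exact congrArg _ hfg

variable (P : Pres A B)

lemma exists_common {α : Type*} (Q : α → P.J → Prop)
    (hmono : ∀ a (i j : P.J), (i ⟶ j) → Q a i → Q a j) (hex : ∀ a, ∃ j, Q a j) (s : Finset α) :
    ∃ j, ∀ a ∈ s, Q a j := by
  classical
  induction s using Finset.induction_on with
  | empty => exact ⟨Nonempty.some IsFiltered.nonempty, by simp⟩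
  | insert a s ha ih =>
    obtain ⟨j1, h1⟩ := ih
    obtain ⟨j2, h2⟩ := hex a
    refine ⟨IsFiltered.max j1 j2, fun b hb => ?_⟩
    rcases Finset.mem_insert.mp hb with rfl | hb
    · exact hmono _ _ _ (IsFiltered.rightToMax j1 j2) h2
    · exact hmono _ _ _ (IsFiltered.leftToMax j1 j2) (h1 b hb)

lemma exists_lift_family {l : ℕ} (x : Fin l → B) :
    ∃ (j : P.J) (x' : Fin l → P.obj j), ∀ i, P.ι j (x' i) = x i := by
  obtain ⟨j, hj⟩ := exists_common P (fun (i : Fin l) j => ∃ x' : P.obj j, P.ι j x' = x i)
    (fun a i j f ⟨x', hx'⟩ => ⟨P.map f x', by rw [P.ι_map, hx']⟩)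
    (fun a => let ⟨j, x', h⟩ := P.surj (x a); ⟨j, x', h⟩) Finset.univ
  choose x' hx' using fun i => hj i (Finset.mem_univ i)
  exact ⟨j, x', hx'⟩

theorem flat (het : ∀ j, Algebra.Etale A (P.obj j)) : Module.Flat A B := by
  apply flat_of_stages
  intro l f x h
  obtain ⟨j, x', hx'⟩ := exists_lift_family P x
  have hz : P.ι j (∑ i, f i • x' i) = P.ι j 0 := by
    rw [map_sum, map_zero, ← h]
    exact Finset.sum_congr rfl fun i _ => by rw [map_smul, hx']
  obtain ⟨k, g, hg⟩ := P.inj j _ _ hz
  haveI := het k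
  refine ⟨A, inferInstance, P.obj k, inferInstance, inferInstance, inferInstance, RingHom.id A,
    (P.ι k).toLinearMap.toAddMonoidHom, ?_, f, fun i => P.map g (x' i), fun i => rfl,
    fun i => ?_, ?_⟩
  · intro r m
    show P.ι k (r • m) = r • P.ι k m
    rw [map_smul]
  · show P.ι k (P.map g (x' i)) = x i
    rw [P.ι_map, hx']
  · rw [map_zero, map_sum] at hg
    rw [← hg]
    exact Finset.sum_congr rfl fun i _ => by rw [map_smul]

/-- `lmul'` commutes with algebra maps. -/
lemma lmul'_map {S S' : Type u} [CommRing S] [CommRing S'] [Algebra A S] [Algebra A S']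
    (φ : S →ₐ[A] S') (t : S ⊗[A] S) :
    Algebra.TensorProduct.lmul' A (Algebra.TensorProduct.map φ φ t)
      = φ (Algebra.TensorProduct.lmul' A t) := by
  induction t using TensorProduct.induction_on with
  | zero => simp
  | tmul a b => simp
  | add a b ha hb => simp [ha, hb]

lemma I_T {i j : P.J} (f : i ⟶ j) (t : P.obj i ⊗[A] P.obj i) :
    Algebra.TensorProduct.map (P.ι j) (P.ι j)
      (Algebra.TensorProduct.map (P.map f) (P.map f) t)
      = Algebra.TensorProduct.map (P.ι i) (P.ι i) t := by
  induction t using TensorProduct.induction_on with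
  | zero => simp
  | tmul a b => simp [P.ι_map]
  | add a b ha hb => simp [ha, hb]

lemma exists_lift_tensor (t : B ⊗[A] B) :
    ∃ (j : P.J) (t' : P.obj j ⊗[A] P.obj j),
      Algebra.TensorProduct.map (P.ι j) (P.ι j) t' = t := by
  induction t using TensorProduct.induction_on with
  | zero => exact ⟨Nonempty.some IsFiltered.nonempty, 0, map_zero _⟩
  | tmul a b =>
    obtain ⟨j1, a', ha⟩ := P.surj a
    obtain ⟨j2, b', hb⟩ := P.surj b
    refine ⟨IsFiltered.max j1 j2, P.map (IsFiltered.leftToMax j1 j2) a' ⊗ₜ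
      P.map (IsFiltered.rightToMax j1 j2) b', ?_⟩
    simp [P.ι_map, ha, hb]
  | add s t hs ht =>
    obtain ⟨j1, s', hs'⟩ := hs
    obtain ⟨j2, t', ht'⟩ := ht
    refine ⟨IsFiltered.max j1 j2,
      Algebra.TensorProduct.map (P.map (IsFiltered.leftToMax j1 j2))
        (P.map (IsFiltered.leftToMax j1 j2)) s' +
      Algebra.TensorProduct.map (P.map (IsFiltered.rightToMax j1 j2))
        (P.map (IsFiltered.rightToMax j1 j2)) t', ?_⟩
    rw [map_add, I_T, I_T, hs', ht']

lemma exists_lift_family_tensor {l : ℕ} (f : Fin l → B ⊗[A] B) :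
    ∃ (j : P.J) (f' : Fin l → P.obj j ⊗[A] P.obj j),
      ∀ i, Algebra.TensorProduct.map (P.ι j) (P.ι j) (f' i) = f i := by
  obtain ⟨j, hj⟩ := exists_common P
    (fun (i : Fin l) j => ∃ t' : P.obj j ⊗[A] P.obj j,
      Algebra.TensorProduct.map (P.ι j) (P.ι j) t' = f i)
    (fun a i j g ⟨t', ht'⟩ =>
      ⟨Algebra.TensorProduct.map (P.map g) (P.map g) t', by rw [I_T, ht']⟩)
    (fun a => exists_lift_tensor P (f a)) Finset.univ
  choose f' hf' using fun i => hj i (Finset.mem_univ i)
  exact ⟨j, f', hf'⟩

theorem flat_lmul' (het : ∀ j, Algebra.Etale A (P.obj j)) :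
    (Algebra.TensorProduct.lmul' A (S := B)).toRingHom.Flat := by
  letI : Algebra (B ⊗[A] B) B := (Algebra.TensorProduct.lmul' A (S := B)).toRingHom.toAlgebra
  show Module.Flat (B ⊗[A] B) B
  apply flat_of_stages
  intro l f x h
  obtain ⟨j1, x1, hx1⟩ := exists_lift_family P x
  obtain ⟨j2, f2, hf2⟩ := exists_lift_family_tensor P f
  obtain ⟨j, x', f', hx', hf'⟩ : ∃ (j : P.J) (x' : Fin l → P.obj j)
      (f' : Fin l → P.obj j ⊗[A] P.obj j), (∀ i, P.ι j (x' i) = x i) ∧
      ∀ i, Algebra.TensorProduct.map (P.ι j) (P.ι j) (f' i) = f i := by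
    refine ⟨IsFiltered.max j1 j2, fun i => P.map (IsFiltered.leftToMax j1 j2) (x1 i),
      fun i => Algebra.TensorProduct.map (P.map (IsFiltered.rightToMax j1 j2))
        (P.map (IsFiltered.rightToMax j1 j2)) (f2 i), fun i => ?_, fun i => ?_⟩
    · rw [P.ι_map, hx1]
    · rw [I_T, hf2]
  have hz : P.ι j (∑ i, Algebra.TensorProduct.lmul' A (f' i) * x' i) = P.ι j 0 := by
    rw [map_sum, map_zero, ← h]
    refine Finset.sum_congr rfl fun i _ => ?_
    rw [map_mul, ← lmul'_map, hf', hx']
    rfl
  obtain ⟨k, g, hg⟩ := P.inj j _ _ hz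
  haveI := het k
  letI : Algebra (P.obj k ⊗[A] P.obj k) (P.obj k) :=
    (Algebra.TensorProduct.lmul' A (S := P.obj k)).toRingHom.toAlgebra
  have hflat : Module.Flat (P.obj k ⊗[A] P.obj k) (P.obj k) :=
    Algebra.WeaklyEtale.flat_lmul' A (P.obj k)
  refine ⟨P.obj k ⊗[A] P.obj k, inferInstance, P.obj k, inferInstance, inferInstance, hflat,
    (Algebra.TensorProduct.map (P.ι k) (P.ι k)).toRingHom, (P.ι k).toLinearMap.toAddMonoidHom,
    ?_, fun i => Algebra.TensorProduct.map (P.map g) (P.map g) (f' i),
    fun i => P.map g (x' i), fun i => ?_, fun i => ?_, ?_⟩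
  · intro r m
    show P.ι k (Algebra.TensorProduct.lmul' A r * m)
      = Algebra.TensorProduct.lmul' A (Algebra.TensorProduct.map (P.ι k) (P.ι k) r) * P.ι k m
    rw [map_mul, lmul'_map]
  · show Algebra.TensorProduct.map (P.ι k) (P.ι k)
      (Algebra.TensorProduct.map (P.map g) (P.map g) (f' i)) = f i
    rw [I_T, hf']
  · show P.ι k (P.map g (x' i)) = x i
    rw [P.ι_map, hx']
  · show ∑ i, Algebra.TensorProduct.lmul' A
      (Algebra.TensorProduct.map (P.map g) (P.map g) (f' i)) * P.map g (x' i) = 0
    rw [map_zero, map_sum] at hg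
    rw [← hg]
    refine Finset.sum_congr rfl fun i _ => ?_
    rw [map_mul, lmul'_map]

/-- Conversely, a concrete presentation by étale algebras gives `IsIndEtale`. -/
theorem isIndEtale_of_pres (het : ∀ j, Algebra.Etale A (P.obj j)) : EtPBC.IsIndEtale A B := by
  let D : P.J ⥤ Under (CommRingCat.of A) :=
    { obj := fun j => Under.mk (CommRingCat.ofHom (algebraMap A (P.obj j)))
      map := fun {i j} f => Under.homMk (CommRingCat.ofHom (P.map f).toRingHom)
        (by ext r; exact (P.map f).commutes r)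
      map_id := fun j => by
        ext x; exact P.map_id j x
      map_comp := fun f g => by
        ext x; exact P.map_comp f g x }
  let c : Cocone D :=
    { pt := Under.mk (CommRingCat.ofHom (algebraMap A B))
      ι := { app := fun j => Under.homMk (CommRingCat.ofHom (P.ι j).toRingHom)
               (by ext r; exact (P.ι j).commutes r)
             naturality := fun i j f => by
               ext x; exact P.ι_map f x } }
  have hc : IsColimit c := by
    haveI : PreservesColimitsOfShape P.J (forget CommRingCat.{u}) :=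
      PreservesFilteredColimitsOfSize.preserves_filtered_colimits P.J
    haveI : ReflectsColimit (D ⋙ Under.forget _) (forget CommRingCat.{u}) :=
      reflectsColimit_of_reflectsIsomorphisms _ _
    haveI : IsConnected P.J := IsFiltered.isConnected P.J
    haveI : CreatesColimitsOfShape P.J (Under.forget (CommRingCat.of A)) := inferInstance
    haveI : CreatesColimit D (Under.forget (CommRingCat.of A)) :=
      CreatesColimitsOfShape.CreatesColimit
    haveI : ReflectsColimit D (Under.forget (CommRingCat.of A)) :=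
      CreatesColimit.toReflectsColimit
    apply isColimitOfReflects (Under.forget _)
    apply isColimitOfReflects (forget CommRingCat.{u})
    refine Types.FilteredColimit.isColimitOf' _ _ ?_ ?_
    · intro b
      obtain ⟨j, x, hx⟩ := P.surj b
      exact ⟨j, x, hx.symm⟩
    · intro j x y hxy
      exact P.inj j x y hxy
  refine ⟨P.J, inferInstance, inferInstance, D, c, hc, fun j => ?_, ⟨Iso.refl _⟩⟩
  show @Algebra.Etale A (P.obj j) _ _ (algebraMap A (P.obj j)).toAlgebra
  rw [toAlgebra_algebraMap]
  exact het j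

theorem weaklyEtale (h : EtPBC.IsIndEtale A B) : Algebra.WeaklyEtale A B := by
  obtain ⟨P, het⟩ := exists_pres h
  exact ⟨flat P het, flat_lmul' P het⟩

end Groth.Agent.Lead.IndEt
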