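import Mathlib
import Groth.Prelude.Def_CAlgX

/-!
McCoy's theorem for the `m × m` minors of an `n × m` matrix: `M.mulVecLin` is injective iff
the annihilator of the ideal of maximal minors is zero.
-/

set_option autoImplicit false

namespace Groth.Agent.Lib.Lead.McCoy

open Matrix

variable {R : Type*} [CommRing R]

theorem injective_of_annihilator {m n : ℕ} (M : Matrix (Fin n) (Fin m) R)
    (h : (CAlgX.minorIdeal M m).annihilator = ⊥) :
    Function.Injective (Matrix.mulVecLin M) := by
  rw [injective_iff_map_eq_zero]
  intro x hx
  have hx' : M *ᵥ x = 0 := by simpa using hx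
  ext j
  have hmem : x j ∈ (CAlgX.minorIdeal M m).annihilator := by
    unfold CAlgX.minorIdeal
    rw [Submodule.mem_annihilator_span]
    rintro ⟨_, ⟨f, g⟩, rfl⟩
    simp only [smul_eq_mul]
    by_cases hg : Function.Injective g
    · have hgb : Function.Bijective g := Finite.injective_iff_bijective.mp hg
      let e : Fin m ≃ Fin m := Equiv.ofBijective g hgb
      have hN : (M.submatrix f g) *ᵥ (x ∘ g) = 0 := by
        ext i
        have h1 := congrFun hx' (f i)
        simp only [Matrix.mulVec, dotProduct, Pi.zero_apply] at h1 ⊢
        rw [← h1]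
        exact Equiv.sum_comp e (fun l => M (f i) l * x l)
      have h2 : (M.submatrix f g).det • (x ∘ g) = 0 := by
        have h3 := congrArg (fun v => (M.submatrix f g).adjugate *ᵥ v) hN
        simp only [Matrix.mulVec_mulVec, Matrix.adjugate_mul, Matrix.mulVec_zero,
          Matrix.smul_mulVec, Matrix.one_mulVec] at h3
        exact h3
      have h4 := congrFun h2 (e.symm j)
      have h5 : g (e.symm j) = j := e.apply_symm_apply j
      simp only [Pi.smul_apply, Function.comp_apply, h5, smul_eq_mul, Pi.zero_apply] at h4
      rw [mul_comm]; exact h4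
    · rw [Function.not_injective_iff] at hg
      obtain ⟨a, b, hab, hne⟩ := hg
      rw [det_zero_of_column_eq hne (fun k => by simp [submatrix_apply, hab]), mul_zero]
  rw [h] at hmem
  simpa using hmem

theorem annihilator_of_injective {m n : ℕ} (M : Matrix (Fin n) (Fin m) R)
    (hinj : Function.Injective (Matrix.mulVecLin M)) :
    (CAlgX.minorIdeal M m).annihilator = ⊥ := by
  rw [eq_bot_iff]
  intro a ha
  rw [Submodule.mem_bot]
  unfold CAlgX.minorIdeal at ha
  rw [Submodule.mem_annihilator_span] at ha
  have key : ∀ d r, r + d = m → ∀ (f : Fin r → Fin n) (g : Fin r → Fin m),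
      a * det (M.submatrix f g) = 0 := by
    intro d
    induction d with
    | zero =>
      intro r hr f g
      obtain rfl : r = m := by simpa using hr
      exact ha ⟨_, ⟨(f, g), rfl⟩⟩
    | succ d ih =>
      intro r hr f g
      have ih' := ih (r + 1) (by omega)
      have hns : ¬ Function.Surjective g := by
        intro hs
        have h1 := Fintype.card_le_of_surjective g hs
        simp only [Fintype.card_fin] at h1
        omega
      obtain ⟨c₀, hc₀⟩ : ∃ c₀, ∀ k, g k ≠ c₀ := by
        by_contra hcon
        push_neg at hcon
        exact hns hcon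
      let c : Fin (r + 1) → Fin m := Fin.cons c₀ g
      let x : Fin m → R := fun l => ∑ k : Fin (r + 1),
        if c k = l then a * ((-1) ^ (k : ℕ) * det (M.submatrix f (c ∘ k.succAbove))) else 0
      have hMx : M *ᵥ x = 0 := by
        ext i
        simp only [Matrix.mulVec, dotProduct, Pi.zero_apply]
        have h1 : ∀ l, M i l * x l = ∑ k : Fin (r + 1), if c k = l then
            M i (c k) * (a * ((-1) ^ (k : ℕ) * det (M.submatrix f (c ∘ k.succAbove)))) else 0 := by
          intro l
          simp only [x, Finset.mul_sum]
          refine Finset.sum_congr rfl fun k _ => ?_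
          split_ifs with hk
          · rw [hk]
          · simp
        simp_rw [h1]
        rw [Finset.sum_comm]
        simp only [Finset.sum_ite_eq, Finset.mem_univ, if_true]
        have h2 := ih' (Fin.cons i f) c
        rw [det_succ_row_zero, Finset.mul_sum] at h2
        rw [← h2]
        refine Finset.sum_congr rfl fun k _ => ?_
        have h3 : ((M.submatrix (Fin.cons i f) c).submatrix Fin.succ k.succAbove) =
            M.submatrix f (c ∘ k.succAbove) := by
          ext p q
          simp [submatrix_apply]
        rw [h3]
        simp only [submatrix_apply, Fin.cons_zero]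
        ring
      have hx0 : x = 0 := by
        apply hinj
        simp [Matrix.mulVecLin_apply, hMx]
      have h6 := congrFun hx0 c₀
      simp only [x, Pi.zero_apply] at h6
      rw [Fin.sum_univ_succ] at h6
      have h4 : ∀ k : Fin r, c k.succ ≠ c₀ := fun k => by simp [c, hc₀ k]
      have h5 : c ∘ (0 : Fin (r + 1)).succAbove = g := by
        ext k
        simp [c]
      simp only [h4, if_false, Finset.sum_const_zero, add_zero, h5] at h6
      simpa [c] using h6
  have h7 := key m 0 (by simp) Fin.elim0 Fin.elim0
  simpa [det_isEmpty] using h7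

theorem minorIdeal_eq_bot_of_lt {m n : ℕ} (M : Matrix (Fin n) (Fin m) R) {r : ℕ} (hr : m < r) :
    CAlgX.minorIdeal M r = ⊥ := by
  unfold CAlgX.minorIdeal
  rw [Ideal.span_eq_bot]
  rintro _ ⟨⟨f, g⟩, rfl⟩
  have hg : ¬ Function.Injective g := by
    intro hg
    have h1 := Fintype.card_le_of_injective g hg
    simp only [Fintype.card_fin] at h1
    omega
  rw [Function.not_injective_iff] at hg
  obtain ⟨a, b, hab, hne⟩ := hg
  exact det_zero_of_column_eq hne (fun k => by simp [submatrix_apply, hab])

theorem matrixRank_eq {m n : ℕ} (M : Matrix (Fin n) (Fin m) R)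
    (h : CAlgX.minorIdeal M m ≠ ⊥) : CAlgX.matrixRank M = m := by
  unfold CAlgX.matrixRank
  apply IsGreatest.csSup_eq
  refine ⟨h, ?_⟩
  intro r hr
  by_contra hlt
  push_neg at hlt
  exact hr (minorIdeal_eq_bot_of_lt M hlt)

theorem injective_iff [Nontrivial R] {m n : ℕ} (M : Matrix (Fin n) (Fin m) R) :
    Function.Injective (Matrix.mulVecLin M) ↔
      CAlgX.matrixRank M = m ∧ (CAlgX.detIdeal M).annihilator = ⊥ := by
  constructor
  · intro hinj
    have hann := annihilator_of_injective M hinj
    have hne : CAlgX.minorIdeal M m ≠ ⊥ := by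
      intro h0
      rw [h0, Submodule.annihilator_bot] at hann
      exact top_ne_bot hann
    have hrk := matrixRank_eq M hne
    refine ⟨hrk, ?_⟩
    unfold CAlgX.detIdeal
    rw [hrk]
    exact hann
  · rintro ⟨hrk, hann⟩
    unfold CAlgX.detIdeal at hann
    rw [hrk] at hann
    exact injective_of_annihilator M hann

theorem annihilator_eq_bot_iff [IsNoetherianRing R] [Nontrivial R] (I : Ideal R) :
    I.annihilator = ⊥ ↔ (I = ⊤ ∨ ∃ a ∈ I, IsRegular a) := by
  constructor
  · intro hann
    right
    by_contra hcon
    push_neg at hcon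
    have hsub : (I : Set R) ⊆ ⋃ p ∈ associatedPrimes R R, (p : Set R) := by
      rw [biUnion_associatedPrimes_eq_compl_nonZeroDivisors]
      intro a ha hnz
      exact hcon a ha (isRegular_iff_mem_nonZeroDivisors.mpr hnz)
    obtain ⟨p, hp, hIp⟩ := (I.subset_union_prime_finite (associatedPrimes.finite R R) (f := id)
      0 0 fun _ h _ _ ↦ h.1).1 hsub
    rw [AssociatedPrimes.mem_iff, isAssociatedPrime_iff] at hp
    obtain ⟨hprime, y, rfl⟩ := hp
    have hy : y ∈ I.annihilator := by
      rw [Submodule.mem_annihilator]
      intro a ha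
      have h1 := hIp ha
      simp only [id] at h1
      rw [Submodule.mem_colon_singleton, Submodule.mem_bot] at h1
      rw [smul_eq_mul, mul_comm]
      simpa using h1
    rw [hann, Submodule.mem_bot] at hy
    subst hy
    apply hprime.ne_top
    rw [eq_top_iff]
    intro r _
    rw [Submodule.mem_colon_singleton]
    simp
  · intro h
    have hreg : ∃ a ∈ I, IsRegular a := by
      rcases h with h | h
      · exact ⟨1, h ▸ Submodule.mem_top, isRegular_one⟩
      · exact h
    obtain ⟨a, ha, hreg⟩ := hreg
    rw [eq_bot_iff]
    intro y hy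
    rw [Submodule.mem_annihilator] at hy
    have h1 := hy a ha
    rw [smul_eq_mul] at h1
    rw [Submodule.mem_bot]
    exact hreg.right (by simpa using h1)

end Groth.Agent.Lib.Lead.McCoy
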