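import Mathlib
import Groth.Prelude.Def_EtGlue

/-!
# Formal glueing of modules (Beauville–Laszlo), elementary part (lead)
-/

set_option autoImplicit false
universe u
open TensorProduct

namespace Groth.Agent.Lead.Glue

variable {R R' : Type u} [CommRing R] [CommRing R'] [Algebra R R'] {f : R}

/-! ### Ring level consequences of `QuotPowBijective` -/

theorem Qs (hq : EtGlue.QuotPowBijective R R' f) (n : ℕ) (r' : R') :
    ∃ (r : R) (s' : R'), r' = algebraMap R R' r + algebraMap R R' f ^ n * s' := by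
  rcases Nat.eq_zero_or_pos n with rfl | hn
  · exact ⟨0, r', by simp⟩
  obtain ⟨x, hx⟩ := (hq n hn).2 (Ideal.Quotient.mk _ r')
  obtain ⟨r, rfl⟩ := Ideal.Quotient.mk_surjective x
  rw [Ideal.quotientMap_mk, Ideal.Quotient.eq, Ideal.map_span, Set.image_singleton,
    Ideal.mem_span_singleton'] at hx
  obtain ⟨a, ha⟩ := hx
  rw [map_pow] at ha
  exact ⟨r, -a, by linear_combination ha⟩

theorem Qi (hq : EtGlue.QuotPowBijective R R' f) (n : ℕ) (r : R) (s' : R')
    (h : algebraMap R R' r = algebraMap R R' f ^ n * s') : ∃ s : R, r = f ^ n * s := by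
  rcases Nat.eq_zero_or_pos n with rfl | hn
  · exact ⟨r, by simp⟩
  have h0 : Ideal.quotientMap (Ideal.map (algebraMap R R') (Ideal.span {f ^ n}))
      (algebraMap R R') Ideal.le_comap_map (Ideal.Quotient.mk _ r) = 0 := by
    rw [Ideal.quotientMap_mk, Ideal.Quotient.eq_zero_iff_mem, Ideal.map_span,
      Set.image_singleton, Ideal.mem_span_singleton']
    exact ⟨s', by rw [h, map_pow, mul_comm]⟩
  have h1 := (hq n hn).1 (h0.trans (map_zero _).symm)
  rw [Ideal.Quotient.eq_zero_iff_mem, Ideal.mem_span_singleton'] at h1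
  obtain ⟨a, ha⟩ := h1
  exact ⟨a, by rw [← ha, mul_comm]⟩

/-! ### Torsion modules are unchanged by base change -/

section Torsion

variable {P : Type*} [AddCommGroup P] [Module R P]

theorem smul_eq_of_congr (hq : EtGlue.QuotPowBijective R R' f) {n : ℕ} {p : P}
    (hp : f ^ n • p = 0) {r₁ r₂ : R} {s' : R'}
    (h : algebraMap R R' r₁ - algebraMap R R' r₂ = algebraMap R R' f ^ n * s') :
    r₁ • p = r₂ • p := by
  obtain ⟨s, hs⟩ := Qi hq n (r₁ - r₂) s' (by rw [map_sub, h])
  have : (r₁ - r₂) • p = 0 := by rw [hs, mul_comm, mul_smul, hp, smul_zero]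
  rwa [sub_smul, sub_eq_zero] at this

theorem exists_act (hq : EtGlue.QuotPowBijective R R' f) (p : P) (hp : ∃ n, f ^ n • p = 0)
    (r' : R') : ∃ q : P, ∀ (n : ℕ) (r : R) (s' : R'), f ^ n • p = 0 →
      r' = algebraMap R R' r + algebraMap R R' f ^ n * s' → q = r • p := by
  obtain ⟨k, hk⟩ := hp
  obtain ⟨c, t', ht'⟩ := Qs hq k r'
  refine ⟨c • p, fun n r s' hn h => ?_⟩
  rcases le_total k n with hkn | hnk
  · have hpow : algebraMap R R' f ^ n = algebraMap R R' f ^ k * algebraMap R R' f ^ (n - k) := by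
      rw [← pow_add, Nat.add_sub_cancel' hkn]
    refine smul_eq_of_congr hq hk (s' := algebraMap R R' f ^ (n - k) * s' - t') ?_
    linear_combination h - ht' + s' * hpow
  · have hpow : algebraMap R R' f ^ k = algebraMap R R' f ^ n * algebraMap R R' f ^ (k - n) := by
      rw [← pow_add, Nat.add_sub_cancel' hnk]
    refine smul_eq_of_congr hq hn (s' := s' - algebraMap R R' f ^ (k - n) * t') ?_
    linear_combination h - ht' - t' * hpow

/-- the action of `R'` on an `f`-power torsion `R`-module -/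
noncomputable def act (hq : EtGlue.QuotPowBijective R R' f) (htors : ∀ p : P, ∃ n, f ^ n • p = 0)
    (r' : R') (p : P) : P :=
  Classical.choose (exists_act hq p (htors p) r')

theorem act_eq (hq : EtGlue.QuotPowBijective R R' f) (htors : ∀ p : P, ∃ n, f ^ n • p = 0)
    {r' : R'} {p : P} {n : ℕ} (hp : f ^ n • p = 0) {r : R} {s' : R'}
    (h : r' = algebraMap R R' r + algebraMap R R' f ^ n * s') : act hq htors r' p = r • p :=
  Classical.choose_spec (exists_act hq p (htors p) r') n r s' hp h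

theorem pow_smul_eq_zero_of_le {p : P} {k n : ℕ} (hkn : k ≤ n) (hk : f ^ k • p = 0) :
    f ^ n • p = 0 := by
  rw [← Nat.sub_add_cancel hkn, pow_add, mul_smul, hk, smul_zero]

/-- the retraction `R' ⊗ P → P` for an `f`-power torsion module `P` -/
noncomputable def retr (hq : EtGlue.QuotPowBijective R R' f)
    (htors : ∀ p : P, ∃ n, f ^ n • p = 0) : R' ⊗[R] P →ₗ[R] P :=
  TensorProduct.lift (LinearMap.mk₂ R (act hq htors)
    (fun m₁ m₂ p => by
      obtain ⟨k, hk⟩ := htors p
      obtain ⟨r₁, s₁, e₁⟩ := Qs hq k m₁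
      obtain ⟨r₂, s₂, e₂⟩ := Qs hq k m₂
      rw [act_eq hq htors hk e₁, act_eq hq htors hk e₂,
        act_eq hq htors hk (r := r₁ + r₂) (s' := s₁ + s₂)
          (by rw [map_add]; linear_combination e₁ + e₂), add_smul])
    (fun c m p => by
      obtain ⟨k, hk⟩ := htors p
      obtain ⟨r₁, s₁, e₁⟩ := Qs hq k m
      rw [act_eq hq htors hk e₁,
        act_eq hq htors hk (r := c * r₁) (s' := algebraMap R R' c * s₁)
          (by rw [Algebra.smul_def, map_mul]; linear_combination (algebraMap R R' c) * e₁),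
        mul_smul])
    (fun m p₁ p₂ => by
      obtain ⟨k₁, hk₁⟩ := htors p₁
      obtain ⟨k₂, hk₂⟩ := htors p₂
      have h1 := pow_smul_eq_zero_of_le (le_max_left k₁ k₂) hk₁
      have h2 := pow_smul_eq_zero_of_le (le_max_right k₁ k₂) hk₂
      have h3 : f ^ (max k₁ k₂) • (p₁ + p₂) = 0 := by rw [smul_add, h1, h2, add_zero]
      obtain ⟨r₁, s₁, e₁⟩ := Qs hq (max k₁ k₂) m
      rw [act_eq hq htors h1 e₁, act_eq hq htors h2 e₁, act_eq hq htors h3 e₁, smul_add])
    (fun c m p => by
      obtain ⟨k, hk⟩ := htors p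
      have h3 : f ^ k • (c • p) = 0 := by rw [smul_comm, hk, smul_zero]
      obtain ⟨r₁, s₁, e₁⟩ := Qs hq k m
      rw [act_eq hq htors hk e₁, act_eq hq htors h3 e₁, smul_comm]))

theorem retr_one_tmul (hq : EtGlue.QuotPowBijective R R' f)
    (htors : ∀ p : P, ∃ n, f ^ n • p = 0) (p : P) :
    retr hq htors ((1 : R') ⊗ₜ[R] p) = p := by
  obtain ⟨k, hk⟩ := htors p
  rw [retr, TensorProduct.lift.tmul, LinearMap.mk₂_apply,
    act_eq hq htors hk (r := 1) (s' := 0) (by simp), one_smul]

/-- **Injectivity** of `P → R' ⊗ P` for `f`-power torsion `P`. -/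
theorem eq_zero_of_tmul_eq_zero (hq : EtGlue.QuotPowBijective R R' f)
    (htors : ∀ p : P, ∃ n, f ^ n • p = 0) (p : P) (h : (1 : R') ⊗ₜ[R] p = 0) : p = 0 := by
  have := congrArg (retr hq htors) h
  rwa [retr_one_tmul, map_zero] at this

/-- **Surjectivity** of `P → R' ⊗ P` for `f`-power torsion `P`. -/
theorem exists_tmul_eq_of_torsion (hq : EtGlue.QuotPowBijective R R' f)
    (htors : ∀ p : P, ∃ n, f ^ n • p = 0) (x' : R' ⊗[R] P) :
    ∃ p : P, (1 : R') ⊗ₜ[R] p = x' := by
  induction x' using TensorProduct.induction_on with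
  | zero => exact ⟨0, TensorProduct.tmul_zero _ _⟩
  | tmul r' p =>
    obtain ⟨k, hk⟩ := htors p
    obtain ⟨r, s', e⟩ := Qs hq k r'
    refine ⟨r • p, ?_⟩
    have h1 : algebraMap R R' f ^ k * s' = f ^ k • s' := by rw [Algebra.smul_def, map_pow]
    rw [e, TensorProduct.add_tmul, h1, TensorProduct.smul_tmul, hk, TensorProduct.tmul_zero,
      add_zero, Algebra.algebraMap_eq_smul_one, TensorProduct.smul_tmul]
  | add a b ha hb =>
    obtain ⟨p₁, rfl⟩ := ha
    obtain ⟨p₂, rfl⟩ := hb
    exact ⟨p₁ + p₂, TensorProduct.tmul_add _ _ _⟩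

end Torsion

/-! ### `M / fⁿ M ≅ M' / fⁿ M'` -/

section Quot

variable (M : Type*) [AddCommGroup M] [Module R M]

theorem exists_tmul_add_smul (hq : EtGlue.QuotPowBijective R R' f) (n : ℕ) (x' : R' ⊗[R] M) :
    ∃ (m : M) (y' : R' ⊗[R] M), x' = (1 : R') ⊗ₜ[R] m + f ^ n • y' := by
  induction x' using TensorProduct.induction_on with
  | zero => exact ⟨0, 0, by simp⟩
  | tmul r' m₀ =>
    obtain ⟨r, s', e⟩ := Qs hq n r'
    refine ⟨r • m₀, s' ⊗ₜ[R] m₀, ?_⟩
    have h1 : algebraMap R R' f ^ n * s' = f ^ n • s' := by rw [Algebra.smul_def, map_pow]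
    rw [e, TensorProduct.add_tmul, h1, TensorProduct.smul_tmul', Algebra.algebraMap_eq_smul_one,
      TensorProduct.smul_tmul]
  | add a b ha hb =>
    obtain ⟨m₁, y₁, rfl⟩ := ha
    obtain ⟨m₂, y₂, rfl⟩ := hb
    exact ⟨m₁ + m₂, y₁ + y₂, by rw [TensorProduct.tmul_add, smul_add]; abel⟩

variable {M}

theorem exists_eq_smul_of_tmul_eq_smul (hq : EtGlue.QuotPowBijective R R' f) (n : ℕ) (m : M)
    (y' : R' ⊗[R] M) (h : (1 : R') ⊗ₜ[R] m = f ^ n • y') : ∃ m₁ : M, m = f ^ n • m₁ := by
  let N : Submodule R M := LinearMap.range (LinearMap.lsmul R M (f ^ n))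
  have hkill : ∀ p : M ⧸ N, f ^ n • p = 0 := by
    intro p
    obtain ⟨m, rfl⟩ := N.mkQ_surjective p
    rw [← map_smul, Submodule.mkQ_apply, Submodule.Quotient.mk_eq_zero]
    exact ⟨m, rfl⟩
  have htors : ∀ p : M ⧸ N, ∃ k, f ^ k • p = 0 := fun p => ⟨n, hkill p⟩
  have h1 := congrArg (LinearMap.lTensor R' N.mkQ) h
  rw [LinearMap.lTensor_tmul, map_smul] at h1
  have h2 := congrArg (retr hq htors) h1
  rw [retr_one_tmul, map_smul, hkill, Submodule.mkQ_apply, Submodule.Quotient.mk_eq_zero] at h2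
  obtain ⟨m₁, hm₁⟩ := h2
  exact ⟨m₁, hm₁.symm⟩

end Quot


/-! ### Localization helpers -/

section Loc

theorem loc_eq_zero_iff {M : Type*} [AddCommGroup M] [Module R M] (m : M) :
    LocalizedModule.mkLinearMap (Submonoid.powers f) M m = 0 ↔ ∃ k, f ^ k • m = 0 := by
  rw [IsLocalizedModule.eq_zero_iff (Submonoid.powers f)]
  constructor
  · rintro ⟨⟨_, k, rfl⟩, h⟩
    exact ⟨k, h⟩
  · rintro ⟨k, h⟩
    exact ⟨⟨f ^ k, k, rfl⟩, h⟩

end Loc

/-! ### Glueable modules and torsion -/

section Glueable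

theorem isGlueable_iff (hq : EtGlue.QuotPowBijective R R' f) (M : Type u) [AddCommGroup M]
    [Module R M] :
    EtGlue.IsGlueable R R' f M ↔
      ((∀ m : M, (∃ n : ℕ, f ^ n • m = 0) → (1 : R') ⊗ₜ[R] m = 0 → m = 0) ∧
       (∀ x : R' ⊗[R] M, (∃ n : ℕ, f ^ n • x = 0) →
          ∃ m : M, (∃ n : ℕ, f ^ n • m = 0) ∧ (1 : R') ⊗ₜ[R] m = x)) := by
  constructor
  · rintro ⟨hinj, hmid⟩
    refine ⟨fun m hm h1 => ?_, fun x hx => ?_⟩
    · apply hinj
      show ((1 : R') ⊗ₜ[R] m, LocalizedModule.mkLinearMap (Submonoid.powers f) M m) =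
        ((1 : R') ⊗ₜ[R] (0 : M), LocalizedModule.mkLinearMap (Submonoid.powers f) M 0)
      rw [h1, (loc_eq_zero_iff m).2 hm, TensorProduct.tmul_zero, map_zero]
    · obtain ⟨m, hm1, hm2⟩ := hmid x 0 (by
        rw [map_zero]
        exact (loc_eq_zero_iff x).2 hx)
      exact ⟨m, (loc_eq_zero_iff m).1 hm2, hm1⟩
  · rintro ⟨hinj, hsurj⟩
    refine ⟨fun m₁ m₂ h => ?_, fun x' y hxy => ?_⟩
    · have h' : ((1 : R') ⊗ₜ[R] m₁, LocalizedModule.mkLinearMap (Submonoid.powers f) M m₁) =
          ((1 : R') ⊗ₜ[R] m₂, LocalizedModule.mkLinearMap (Submonoid.powers f) M m₂) := h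
      obtain ⟨e1, e2⟩ := Prod.mk.inj h'
      have h1 : (1 : R') ⊗ₜ[R] (m₁ - m₂) = 0 := by
        rw [TensorProduct.tmul_sub, e1, sub_self]
      have h2 : LocalizedModule.mkLinearMap (Submonoid.powers f) M (m₁ - m₂) = 0 := by
        rw [map_sub, e2, sub_self]
      exact sub_eq_zero.1 (hinj _ ((loc_eq_zero_iff _).1 h2) h1)
    · obtain ⟨k, m, hm⟩ := IsLocalizedModule.Away.surj
        (LocalizedModule.mkLinearMap (Submonoid.powers f) M) f y
      have h1 : LocalizedModule.mkLinearMap (Submonoid.powers f) (R' ⊗[R] M)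
          (f ^ k • x' - (1 : R') ⊗ₜ[R] m) = 0 := by
        have e1 : EtGlue.locOfTensor R R' f M x' =
          LocalizedModule.mkLinearMap (Submonoid.powers f) (R' ⊗[R] M) x' := rfl
        have e2 : EtGlue.tensorOfLoc R R' f M
            (LocalizedModule.mkLinearMap (Submonoid.powers f) M m) =
            LocalizedModule.mkLinearMap (Submonoid.powers f) (R' ⊗[R] M) ((1 : R') ⊗ₜ[R] m) := by
          rw [EtGlue.tensorOfLoc, IsLocalizedModule.map_apply, TensorProduct.mk_apply]
        rw [map_sub, map_smul, ← e1, hxy, ← map_smul, hm, e2, sub_self]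
      obtain ⟨j, hj⟩ := (loc_eq_zero_iff _).1 h1
      have h2 : (1 : R') ⊗ₜ[R] (f ^ j • m) = f ^ (j + k) • x' := by
        rw [smul_sub, sub_eq_zero] at hj
        rw [TensorProduct.tmul_smul, ← hj, pow_add, mul_smul]
      obtain ⟨m₁, hm₁⟩ := exists_eq_smul_of_tmul_eq_smul hq (j + k) (f ^ j • m) x' h2
      have hy : y = LocalizedModule.mkLinearMap (Submonoid.powers f) M m₁ := by
        apply IsLocalizedModule.smul_injective
          (LocalizedModule.mkLinearMap (Submonoid.powers f) M)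
          (⟨f ^ (j + k), j + k, rfl⟩ : Submonoid.powers f)
        show f ^ (j + k) • y = f ^ (j + k) • _
        rw [← map_smul, ← hm₁, map_smul, ← hm, pow_add, mul_smul]
      have ht : f ^ (j + k) • (x' - (1 : R') ⊗ₜ[R] m₁) = 0 := by
        rw [smul_sub, ← TensorProduct.tmul_smul, ← hm₁, h2, sub_self]
      obtain ⟨t, ⟨i, hi⟩, ht2⟩ := hsurj _ ⟨j + k, ht⟩
      refine ⟨m₁ + t, ?_, ?_⟩
      · rw [TensorProduct.tmul_add, ht2]
        abel
      · rw [map_add, (loc_eq_zero_iff t).2 ⟨i, hi⟩, add_zero, hy]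

end Glueable

/-! ### Torsion freeness is preserved for glueing pairs -/

section TorsionFree

theorem gp_torsion (h : EtGlue.IsGlueingPair R R' f) (x' : R')
    (hx' : algebraMap R R' f * x' = 0) :
    ∃ x : R, f * x = 0 ∧ algebraMap R R' x = x' := by
  obtain ⟨-, hinj, hmid, -⟩ := h
  have h0 : algebraMap R' (Localization.Away (algebraMap R R' f)) x' =
      Localization.awayMap (algebraMap R R') f 0 := by
    rw [map_zero, IsLocalization.map_eq_zero_iff (Submonoid.powers (algebraMap R R' f))]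
    exact ⟨⟨algebraMap R R' f, 1, pow_one _⟩, hx'⟩
  obtain ⟨r, hr1, hr2⟩ := hmid x' 0 h0
  refine ⟨r, ?_, hr1⟩
  have := @hinj (f * r) 0 (by
    show (algebraMap R R' (f * r), algebraMap R (Localization.Away f) (f * r)) =
      (algebraMap R R' 0, algebraMap R (Localization.Away f) 0)
    rw [map_mul, map_mul, hr1, hr2, hx', mul_zero, map_zero, map_zero])
  exact this

theorem tmul_torsionFree (hq : EtGlue.QuotPowBijective R R' f)
    (hgp : ∀ x' : R', algebraMap R R' f * x' = 0 → ∃ x : R, f * x = 0 ∧ algebraMap R R' x = x')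
    (M : Type*) [AddCommGroup M] [Module R M] (hM : ∀ m : M, f • m = 0 → m = 0)
    (x' : R' ⊗[R] M) (hx' : f • x' = 0) : x' = 0 := by
  classical
  obtain ⟨π, hπs⟩ : ∃ π : (M →₀ R) →ₗ[R] M, Function.Surjective π :=
    ⟨_, Finsupp.linearCombination_id_surjective (R := R) M⟩
  have hex : Function.Exact (LinearMap.ker π).subtype π := LinearMap.exact_subtype_ker_map π
  have hex' := lTensor_exact (M := ↥(LinearMap.ker π)) R' hex hπs
  obtain ⟨y', rfl⟩ := LinearMap.lTensor_surjective R' hπs x'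
  have h1 : LinearMap.lTensor R' π (f • y') = 0 := by rw [map_smul, hx']
  obtain ⟨w, hw⟩ := (hex' (f • y')).1 h1
  obtain ⟨k, w₁, hkw⟩ := exists_tmul_add_smul (LinearMap.ker π) hq 1 w
  obtain ⟨z', hz'⟩ : ∃ z', z' = y' - LinearMap.lTensor R' (LinearMap.ker π).subtype w₁ :=
    ⟨_, rfl⟩
  have hz1 : (1 : R') ⊗ₜ[R] (k : M →₀ R) = f ^ 1 • z' := by
    have h2 := hw
    rw [hkw, map_add, LinearMap.lTensor_tmul, map_smul, Submodule.subtype_apply, pow_one] at h2
    rw [hz', pow_one, smul_sub, ← h2]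
    abel
  obtain ⟨c, hc⟩ := exists_eq_smul_of_tmul_eq_smul hq 1 (k : M →₀ R) z' hz1
  rw [pow_one] at hc hz1
  have hcK : π c = 0 := by
    apply hM
    rw [← map_smul, ← hc]
    exact k.2
  have hu0 : f • (z' - (1 : R') ⊗ₜ[R] c) = 0 := by
    rw [smul_sub, ← hz1, ← TensorProduct.tmul_smul, ← hc, sub_self]
  obtain ⟨u, hu⟩ : ∃ u, u = TensorProduct.finsuppScalarRight R R R' M
      (z' - (1 : R') ⊗ₜ[R] c) := ⟨_, rfl⟩
  have hub : ∀ b, algebraMap R R' f * u b = 0 := by
    intro b
    have h3 : f • u = 0 := by rw [hu, ← map_smul, hu0, map_zero]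
    have h4 := congrArg (fun v : M →₀ R' => v b) h3
    simpa [Algebra.smul_def] using h4
  let g : R' → R := fun x' => if x' = 0 then 0 else
    if h : algebraMap R R' f * x' = 0 then Classical.choose (hgp x' h) else 0
  have hg0 : g 0 = 0 := if_pos rfl
  have hg1 : ∀ x', algebraMap R R' f * x' = 0 →
      f * g x' = 0 ∧ algebraMap R R' (g x') = x' := by
    intro x' h
    by_cases h0 : x' = 0
    · subst h0
      simp [hg0]
    · have : g x' = Classical.choose (hgp x' h) := by simp only [g, if_neg h0, dif_pos h]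
      rw [this]
      exact Classical.choose_spec (hgp x' h)
  obtain ⟨t, ht⟩ : ∃ t : M →₀ R, t = u.mapRange g hg0 := ⟨_, rfl⟩
  have htf : f • t = 0 := by
    ext b
    rw [Finsupp.smul_apply, ht, Finsupp.mapRange_apply, smul_eq_mul]
    exact (hg1 _ (hub b)).1
  have het : TensorProduct.finsuppScalarRight R R R' M ((1 : R') ⊗ₜ[R] t) = u := by
    ext b
    rw [TensorProduct.finsuppScalarRight_apply_tmul_apply, ht, Finsupp.mapRange_apply,
      ← Algebra.algebraMap_eq_smul_one]
    exact (hg1 _ (hub b)).2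
  have htK : π t = 0 := by
    apply hM
    rw [← map_smul, htf, map_zero]
  have hzt : z' = (1 : R') ⊗ₜ[R] (c + t) := by
    have := (TensorProduct.finsuppScalarRight R R R' M).injective (het.trans hu)
    rw [TensorProduct.tmul_add, this]
    abel
  have hy' : y' = LinearMap.lTensor R' (LinearMap.ker π).subtype w₁ +
      (1 : R') ⊗ₜ[R] (c + t) := by
    rw [← hzt, hz']
    abel
  rw [hy', map_add, LinearMap.lTensor_tmul, map_add, hcK, htK, add_zero, TensorProduct.tmul_zero,
    add_zero]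
  exact (hex' _).2 ⟨w₁, rfl⟩

/-- the `f`-power torsion submodule -/
def tors (f : R) (M : Type*) [AddCommGroup M] [Module R M] : Submodule R M where
  carrier := {m | ∃ n : ℕ, f ^ n • m = 0}
  add_mem' := by
    rintro a b ⟨n₁, h₁⟩ ⟨n₂, h₂⟩
    refine ⟨max n₁ n₂, ?_⟩
    rw [smul_add, pow_smul_eq_zero_of_le (le_max_left n₁ n₂) h₁,
      pow_smul_eq_zero_of_le (le_max_right n₁ n₂) h₂, add_zero]
  zero_mem' := ⟨0, smul_zero _⟩
  smul_mem' := by
    rintro c a ⟨n, h⟩
    exact ⟨n, by rw [smul_comm, h, smul_zero]⟩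

theorem mem_tors {M : Type*} [AddCommGroup M] [Module R M] {m : M} :
    m ∈ tors f M ↔ ∃ n : ℕ, f ^ n • m = 0 := Iff.rfl

/-- For a glueing pair, every `f`-power torsion element of `R' ⊗ M` comes from one of `M`. -/
theorem exists_torsion_tmul_eq (h : EtGlue.IsGlueingPair R R' f) (M : Type*) [AddCommGroup M]
    [Module R M] (x : R' ⊗[R] M) (hx : ∃ n : ℕ, f ^ n • x = 0) :
    ∃ m : M, (∃ n : ℕ, f ^ n • m = 0) ∧ (1 : R') ⊗ₜ[R] m = x := by
  have hq := h.1
  have hgp := gp_torsion h
  have hfree : ∀ p : M ⧸ tors f M, f • p = 0 → p = 0 := by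
    intro p hp
    obtain ⟨m, rfl⟩ := (tors f M).mkQ_surjective p
    rw [← map_smul, Submodule.mkQ_apply, Submodule.Quotient.mk_eq_zero] at hp
    obtain ⟨n, hn⟩ := hp
    rw [Submodule.mkQ_apply, Submodule.Quotient.mk_eq_zero]
    exact ⟨n + 1, by rw [pow_succ, mul_smul, hn]⟩
  have hfree' : ∀ (n : ℕ) (z : R' ⊗[R] (M ⧸ tors f M)), f ^ n • z = 0 → z = 0 := by
    intro n
    induction n with
    | zero => intro z hz; simpa using hz
    | succ n ih =>
      intro z hz
      apply ih
      apply tmul_torsionFree hq hgp _ hfree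
      rw [← mul_smul, ← pow_succ']
      exact hz
  obtain ⟨n, hn⟩ := hx
  have h0 : LinearMap.lTensor R' (tors f M).mkQ x = 0 :=
    hfree' n _ (by rw [← map_smul, hn, map_zero])
  have hex := lTensor_exact (M := ↥(tors f M)) R'
    (LinearMap.exact_subtype_mkQ (tors f M)) (tors f M).mkQ_surjective
  obtain ⟨z, hz⟩ := (hex x).1 h0
  obtain ⟨t, ht⟩ := exists_tmul_eq_of_torsion hq
    (fun p : tors f M => by
      obtain ⟨k, hk⟩ := p.2
      exact ⟨k, Subtype.ext (by simpa using hk)⟩) z
  refine ⟨(t : M), t.2, ?_⟩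
  rw [← hz, ← ht, LinearMap.lTensor_tmul, Submodule.subtype_apply]

end TorsionFree


/-! ### Glueing pairs and torsion (ring level) -/

section RingLevel

theorem awayMap_algebraMap (r : R) :
    Localization.awayMap (algebraMap R R') f (algebraMap R (Localization.Away f) r) =
      algebraMap R' (Localization.Away (algebraMap R R' f)) (algebraMap R R' r) :=
  IsLocalization.map_eq _ r

theorem away_eq_zero_iff {A : Type*} [CommRing A] (a x : A) :
    algebraMap A (Localization.Away a) x = 0 ↔ ∃ n : ℕ, a ^ n * x = 0 := by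
  rw [IsLocalization.map_eq_zero_iff (Submonoid.powers a)]
  constructor
  · rintro ⟨⟨_, n, rfl⟩, h⟩
    exact ⟨n, h⟩
  · rintro ⟨n, h⟩
    exact ⟨⟨a ^ n, n, rfl⟩, h⟩

theorem isGlueingPair_iff (hq : EtGlue.QuotPowBijective R R' f) :
    EtGlue.IsGlueingPair R R' f ↔
      ((∀ x : R, (∃ n : ℕ, f ^ n * x = 0) → algebraMap R R' x = 0 → x = 0) ∧
       (∀ x' : R', (∃ n : ℕ, algebraMap R R' f ^ n * x' = 0) →
          ∃ x : R, (∃ n : ℕ, f ^ n * x = 0) ∧ algebraMap R R' x = x')) := by
  constructor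
  · rintro ⟨-, hinj, hmid, -⟩
    refine ⟨fun x hx0 hx => ?_, fun x' hx' => ?_⟩
    · obtain ⟨n, hn⟩ := hx0
      exact @hinj x 0 (by
        show (algebraMap R R' x, algebraMap R (Localization.Away f) x) =
          (algebraMap R R' 0, algebraMap R (Localization.Away f) 0)
        rw [hx, (away_eq_zero_iff f x).2 ⟨n, hn⟩, map_zero, map_zero])
    · obtain ⟨n, hn⟩ := hx'
      obtain ⟨r, hr1, hr2⟩ := hmid x' 0 (by
        rw [map_zero, away_eq_zero_iff]
        exact ⟨n, hn⟩)
      exact ⟨r, (away_eq_zero_iff f r).1 hr2, hr1⟩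
  · rintro ⟨tinj, tsurj⟩
    refine ⟨hq, ?_, ?_, ?_⟩
    · intro r₁ r₂ h
      have h' : (algebraMap R R' r₁, algebraMap R (Localization.Away f) r₁) =
          (algebraMap R R' r₂, algebraMap R (Localization.Away f) r₂) := h
      obtain ⟨e1, e2⟩ := Prod.mk.inj h'
      have := tinj (r₁ - r₂) ((away_eq_zero_iff f _).1 (by rw [map_sub, e2, sub_self]))
        (by rw [map_sub, e1, sub_self])
      exact sub_eq_zero.1 this
    · intro x' y hxy
      obtain ⟨k, r, hr⟩ := IsLocalization.Away.surj f y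
      have h1 : algebraMap R' (Localization.Away (algebraMap R R' f))
          (algebraMap R R' f ^ k * x' - algebraMap R R' r) = 0 := by
        have h2 := congrArg (Localization.awayMap (algebraMap R R') f) hr
        rw [map_mul, map_pow, awayMap_algebraMap, awayMap_algebraMap, ← hxy] at h2
        rw [map_sub, map_mul, map_pow, ← h2]
        ring
      obtain ⟨j, hj⟩ := (away_eq_zero_iff _ _).1 h1
      have h3 : algebraMap R R' (f ^ j * r) = algebraMap R R' f ^ (j + k) * x' := by
        rw [map_mul, map_pow, pow_add]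
        linear_combination (-1 : R') * hj
      obtain ⟨r₁, hr₁⟩ := Qi hq (j + k) (f ^ j * r) x' h3
      have hy : y = algebraMap R (Localization.Away f) r₁ := by
        have hu : IsUnit (algebraMap R (Localization.Away f) f ^ (j + k)) :=
          (IsLocalization.Away.algebraMap_isUnit f).pow _
        apply hu.mul_left_injective
        show y * _ = algebraMap _ _ r₁ * _
        calc y * algebraMap R (Localization.Away f) f ^ (j + k)
            = (y * algebraMap R (Localization.Away f) f ^ k) *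
                algebraMap R (Localization.Away f) f ^ j := by rw [pow_add]; ring
          _ = algebraMap R (Localization.Away f) (f ^ j * r) := by
              rw [hr, map_mul, map_pow]; ring
          _ = algebraMap R (Localization.Away f) r₁ *
                algebraMap R (Localization.Away f) f ^ (j + k) := by
              rw [hr₁, map_mul, map_pow]; ring
      have ht : algebraMap R R' f ^ (j + k) * (x' - algebraMap R R' r₁) = 0 := by
        rw [mul_sub, ← h3, hr₁, map_mul, map_pow, sub_self]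
      obtain ⟨t, ⟨i, hi⟩, ht2⟩ := tsurj _ ⟨j + k, ht⟩
      refine ⟨r₁ + t, ?_, ?_⟩
      · rw [map_add, ht2]
        ring
      · rw [map_add, (away_eq_zero_iff f t).2 ⟨i, hi⟩, add_zero, hy]
    · intro z
      obtain ⟨k, r', hr'⟩ := IsLocalization.Away.surj (algebraMap R R' f) z
      obtain ⟨r, s', e⟩ := Qs hq k r'
      refine ⟨s', -(algebraMap R (Localization.Away f) r *
        (IsLocalization.Away.invSelf f : Localization.Away f) ^ k), ?_⟩
      have hu : IsUnit (algebraMap R' (Localization.Away (algebraMap R R' f))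
          (algebraMap R R' f) ^ k) := (IsLocalization.Away.algebraMap_isUnit _).pow _
      apply hu.mul_left_injective
      show (_ - _) * _ = z * _
      have hinv : Localization.awayMap (algebraMap R R') f
          (IsLocalization.Away.invSelf f : Localization.Away f) *
          algebraMap R' (Localization.Away (algebraMap R R' f)) (algebraMap R R' f) = 1 := by
        rw [← awayMap_algebraMap, ← map_mul, mul_comm, IsLocalization.Away.mul_invSelf, map_one]
      have hk : Localization.awayMap (algebraMap R R') f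
          (IsLocalization.Away.invSelf f : Localization.Away f) ^ k *
          algebraMap R' (Localization.Away (algebraMap R R' f)) (algebraMap R R' f) ^ k = 1 := by
        rw [← mul_pow, hinv, one_pow]
      have he' : algebraMap R' (Localization.Away (algebraMap R R' f)) r' =
          algebraMap R' (Localization.Away (algebraMap R R' f)) (algebraMap R R' r) +
          algebraMap R' (Localization.Away (algebraMap R R' f)) (algebraMap R R' f) ^ k *
            algebraMap R' (Localization.Away (algebraMap R R' f)) s' := by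
        rw [e, map_add, map_mul, map_pow]
      rw [map_neg, map_mul, map_pow, awayMap_algebraMap]
      linear_combination (algebraMap R' (Localization.Away (algebraMap R R' f))
        (algebraMap R R' r)) * hk - hr' - he'

end RingLevel

end Groth.Agent.Lead.Glue
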