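import Mathlib
import Groth.Agent.Lib.Lead.Glue
import Groth.Agent.H10.FlatLemmas

/-!
# Flatness descends along a glueing pair (lead)

`(R → R', f)` a glueing pair, `X` an `R`-module with `R' ⊗ X` flat over `R'` and `R_f ⊗ X` flat over
`R_f`; then `X` is flat over `R`.  The proof is a hand-made `Tor₁` computation: for a presentation
`K → G → X → 0` with `G` flat, "`Tor₁(X, N) = 0`" is expressed as injectivity of `N ⊗ K → N ⊗ G`.
-/

set_option autoImplicit false
set_option linter.style.haveILetI false
universe u
open TensorProduct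

namespace Groth.Agent.Lead.GlueFlat

open Groth.Agent.H10 (sq_rTensor_lTensor)
open Groth.Agent.Lead

section General

variable {R : Type u} [CommRing R]

/-- `Tor₁(M₃, N) = 0` (computed through a presentation of `N`) gives injectivity of `M₁ ⊗ N → M₂ ⊗ N`. -/
theorem rTensor_injective_of_tor {M₁ M₂ M₃ : Type u} [AddCommGroup M₁] [Module R M₁]
    [AddCommGroup M₂] [Module R M₂] [AddCommGroup M₃] [Module R M₃]
    (f : M₁ →ₗ[R] M₂) (g : M₂ →ₗ[R] M₃) (hf : Function.Injective f) (hexact : Function.Exact f g)
    (hg : Function.Surjective g)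
    (N : Type u) [AddCommGroup N] [Module R N]
    (F : Type u) [AddCommGroup F] [Module R F] [Module.Flat R F]
    (K : Type u) [AddCommGroup K] [Module R K]
    (ι : K →ₗ[R] F) (π : F →ₗ[R] N) (hex : Function.Exact ι π)
    (hπs : Function.Surjective π) (hι3 : Function.Injective (ι.lTensor M₃)) :
    Function.Injective (f.rTensor N) := by
  classical
  have hgf : g ∘ₗ f = 0 := by
    ext x
    exact hexact.apply_apply_eq_zero x
  have hπι : π ∘ₗ ι = 0 := by
    ext x
    exact hex.apply_apply_eq_zero x
  have hfF : Function.Injective (f.rTensor F) :=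
    Module.Flat.rTensor_preserves_injective_linearMap f hf
  rw [injective_iff_map_eq_zero]
  intro z hz
  obtain ⟨w, rfl⟩ := LinearMap.lTensor_surjective M₁ hπs z
  have e2 : (π.lTensor M₂) ((f.rTensor F) w) = 0 := by
    rw [sq_rTensor_lTensor, hz]
  obtain ⟨v, hv⟩ := (lTensor_exact M₂ hex hπs _).mp e2
  have e4 : (g.rTensor K) v = 0 := by
    apply hι3
    rw [map_zero, sq_rTensor_lTensor, hv, ← LinearMap.comp_apply, ← LinearMap.rTensor_comp, hgf,
      LinearMap.rTensor_zero, LinearMap.zero_apply]
  obtain ⟨u, hu⟩ := (rTensor_exact K hexact hg _).mp e4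
  have e6 : (ι.lTensor M₁) u = w := by
    apply hfF
    rw [← sq_rTensor_lTensor, hu, hv]
  rw [← e6, ← LinearMap.comp_apply, ← LinearMap.lTensor_comp, hπι, LinearMap.lTensor_zero,
    LinearMap.zero_apply]

/-- the standard free presentation -/
theorem exists_pres (X : Type u) [AddCommGroup X] [Module R X] :
    ∃ (L : Submodule R (X →₀ R)) (π : (X →₀ R) →ₗ[R] X),
      Function.Exact L.subtype π ∧ Function.Surjective π :=
  ⟨LinearMap.ker (Finsupp.linearCombination R (id : X → X)),
    Finsupp.linearCombination R (id : X → X),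
    by rw [LinearMap.exact_iff]; exact (Submodule.range_subtype _).symm,
    Finsupp.linearCombination_id_surjective R X⟩

variable {K G : Type u} [AddCommGroup K] [Module R K] [AddCommGroup G] [Module R G]

/-- `Tor₁(X, -)` vanishing is stable under extensions. -/
theorem lTensor_injective_of_exact [Module.Flat R G] (κ : K →ₗ[R] G)
    {N₁ N₂ N₃ : Type u} [AddCommGroup N₁] [Module R N₁] [AddCommGroup N₂] [Module R N₂]
    [AddCommGroup N₃] [Module R N₃] (a : N₁ →ₗ[R] N₂) (b : N₂ →ₗ[R] N₃)
    (ha : Function.Injective a) (hab : Function.Exact a b) (hb : Function.Surjective b)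
    (h1 : Function.Injective (κ.lTensor N₁)) (h3 : Function.Injective (κ.lTensor N₃)) :
    Function.Injective (κ.lTensor N₂) := by
  have hG : Function.Injective (a.rTensor G) :=
    Module.Flat.rTensor_preserves_injective_linearMap a ha
  rw [injective_iff_map_eq_zero]
  intro z hz
  have e1 : (b.rTensor K) z = 0 := by
    apply h3
    rw [map_zero, sq_rTensor_lTensor, hz, map_zero]
  obtain ⟨x, rfl⟩ := (rTensor_exact K hab hb _).mp e1
  have e2 : (κ.lTensor N₁) x = 0 := by
    apply hG
    rw [map_zero, ← sq_rTensor_lTensor, hz]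
  rw [h1 (e2.trans (map_zero _).symm), map_zero]

/-- `Tor₁(X, -)` vanishing passes to retracts. -/
theorem lTensor_injective_of_retract (κ : K →ₗ[R] G)
    {N N' : Type u} [AddCommGroup N] [Module R N] [AddCommGroup N'] [Module R N']
    (s : N' →ₗ[R] N) (r : N →ₗ[R] N') (hrs : ∀ x, r (s x) = x)
    (h : Function.Injective (κ.lTensor N)) : Function.Injective (κ.lTensor N') := by
  rw [injective_iff_map_eq_zero]
  intro z hz
  have e1 : (s.rTensor K) z = 0 := by
    apply h
    rw [map_zero, sq_rTensor_lTensor, hz, map_zero]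
  have e2 : (r.rTensor K) ((s.rTensor K) z) = z := by
    rw [← LinearMap.comp_apply, ← LinearMap.rTensor_comp]
    have : r ∘ₗ s = LinearMap.id := LinearMap.ext hrs
    rw [this, LinearMap.rTensor_id, LinearMap.id_apply]
  rw [← e2, e1, map_zero]

variable {X : Type u} [AddCommGroup X] [Module R X]

/-- If `Tor₁^R(X, S) = 0` and `S ⊗ X` is `S`-flat then `Tor₁^R(X, C) = 0` for every `S`-module `C`. -/
theorem lTensor_injective_of_baseChange_flat
    (κ : K →ₗ[R] G) (ρ : G →ₗ[R] X) (hex : Function.Exact κ ρ) (hρ : Function.Surjective ρ)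
    (S : Type u) [CommRing S] [Algebra R S] (hS : Function.Injective (κ.lTensor S))
    [Module.Flat S (S ⊗[R] X)]
    (C : Type u) [AddCommGroup C] [Module R C] [Module S C] [IsScalarTower R S C] :
    Function.Injective (κ.lTensor C) := by
  have h1 : Function.Injective (κ.baseChange S) := by
    rw [LinearMap.baseChange_eq_ltensor]; exact hS
  have h2 : Function.Exact (κ.baseChange S) (ρ.baseChange S) := by
    rw [LinearMap.baseChange_eq_ltensor, LinearMap.baseChange_eq_ltensor]
    exact lTensor_exact S hex hρ
  have h3 : Function.Surjective (ρ.baseChange S) := by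
    rw [LinearMap.baseChange_eq_ltensor]; exact LinearMap.lTensor_surjective S hρ
  have h4 : Function.Injective ((κ.baseChange S).rTensor C) :=
    Groth.Agent.H10.rTensor_injective_of_flat_coker (κ.baseChange S) (ρ.baseChange S) h1 h2 h3 C
  have h5 : Function.Injective ((κ.baseChange S).lTensor C) :=
    (LinearMap.lTensor_inj_iff_rTensor_inj C (κ.baseChange S)).2 h4
  have sq : ∀ w : C ⊗[S] (S ⊗[R] K),
      TensorProduct.AlgebraTensorModule.cancelBaseChange R S S C G ((κ.baseChange S).lTensor C w) =
        κ.lTensor C (TensorProduct.AlgebraTensorModule.cancelBaseChange R S S C K w) := by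
    intro w
    induction w using TensorProduct.induction_on with
    | zero => simp
    | tmul c y =>
      induction y using TensorProduct.induction_on with
      | zero => simp
      | tmul s k =>
        rw [LinearMap.lTensor_tmul, LinearMap.baseChange_tmul,
          TensorProduct.AlgebraTensorModule.cancelBaseChange_tmul,
          TensorProduct.AlgebraTensorModule.cancelBaseChange_tmul, LinearMap.lTensor_tmul]
      | add y₁ y₂ h₁ h₂ =>
        rw [TensorProduct.tmul_add, map_add, map_add, map_add, map_add, h₁, h₂]
    | add w₁ w₂ h₁ h₂ => rw [map_add, map_add, map_add, map_add, h₁, h₂]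
  rw [injective_iff_map_eq_zero]
  intro z hz
  obtain ⟨w, rfl⟩ := (TensorProduct.AlgebraTensorModule.cancelBaseChange R S S C K).surjective z
  rw [← sq] at hz
  have h6 : (κ.baseChange S).lTensor C w = 0 :=
    (TensorProduct.AlgebraTensorModule.cancelBaseChange R S S C G).injective
      (hz.trans (map_zero _).symm)
  rw [h5 (h6.trans (map_zero _).symm), map_zero]

/-- The kernel of the presentation inherits flatness of the base change. -/
theorem flat_baseChange_ker [Module.Flat R G]
    (κ : K →ₗ[R] G) (ρ : G →ₗ[R] X) (hex : Function.Exact κ ρ) (hρ : Function.Surjective ρ)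
    (S : Type u) [CommRing S] [Algebra R S] (hS : Function.Injective (κ.lTensor S))
    [Module.Flat S (S ⊗[R] X)] : Module.Flat S (S ⊗[R] K) := by
  have h1 : Function.Injective (κ.baseChange S) := by
    rw [LinearMap.baseChange_eq_ltensor]; exact hS
  have h2 : Function.Exact (κ.baseChange S) (ρ.baseChange S) := by
    rw [LinearMap.baseChange_eq_ltensor, LinearMap.baseChange_eq_ltensor]
    exact lTensor_exact S hex hρ
  have h3 : Function.Surjective (ρ.baseChange S) := by
    rw [LinearMap.baseChange_eq_ltensor]; exact LinearMap.lTensor_surjective S hρ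
  exact Groth.Agent.H10.flat_of_exact_of_flat_flat (κ.baseChange S) (ρ.baseChange S) h1 h2 h3

end General

section Pair

variable {R R' : Type u} [CommRing R] [CommRing R'] [Algebra R R'] {f : R}
variable {K G X : Type u} [AddCommGroup K] [Module R K] [AddCommGroup G] [Module R G]
  [AddCommGroup X] [Module R X]

/-- `Tor₁^R(X, R') = 0`. -/
theorem lTensor_injective_prime (hgp : EtGlue.IsGlueingPair R R' f) [Module.Flat R G]
    (κ : K →ₗ[R] G) (ρ : G →ₗ[R] X) (hκ : Function.Injective κ) (hex : Function.Exact κ ρ)
    (hρ : Function.Surjective ρ)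
    [Module.Flat (Localization.Away f) (Localization.Away f ⊗[R] X)] :
    Function.Injective (κ.lTensor R') := by
  letI : Algebra (Localization.Away f) (Localization.Away (algebraMap R R' f)) :=
    (Localization.awayMap (algebraMap R R') f).toAlgebra
  haveI : IsScalarTower R (Localization.Away f) (Localization.Away (algebraMap R R' f)) :=
    IsScalarTower.of_algebraMap_eq (fun r => by
      rw [RingHom.algebraMap_toAlgebra, Glue.awayMap_algebraMap,
        ← IsScalarTower.algebraMap_apply])
  have h3 : Function.Injective (κ.lTensor (Localization.Away (algebraMap R R' f))) :=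
    lTensor_injective_of_baseChange_flat κ ρ hex hρ (Localization.Away f)
      (Module.Flat.lTensor_preserves_injective_linearMap κ hκ) _
  have h1 : Function.Injective (κ.lTensor R) :=
    Module.Flat.lTensor_preserves_injective_linearMap κ hκ
  let α : R →ₗ[R] R' × Localization.Away f :=
    (Algebra.linearMap R R').prod (Algebra.linearMap R (Localization.Away f))
  let γ : Localization.Away f →ₗ[R] Localization.Away (algebraMap R R' f) :=
    { toFun := Localization.awayMap (algebraMap R R') f
      map_add' := map_add _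
      map_smul' := fun r y => by
        rw [RingHom.id_apply, Algebra.smul_def, map_mul, Glue.awayMap_algebraMap, Algebra.smul_def,
          ← IsScalarTower.algebraMap_apply] }
  let β : R' × Localization.Away f →ₗ[R] Localization.Away (algebraMap R R' f) :=
    ((Algebra.linearMap R' (Localization.Away (algebraMap R R' f))).restrictScalars R) ∘ₗ
        LinearMap.fst R R' (Localization.Away f) - γ ∘ₗ LinearMap.snd R R' (Localization.Away f)
  have hα : Function.Injective α := fun a b h => hgp.2.1 h
  have hαβ : Function.Exact α β := by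
    intro p
    constructor
    · intro hp
      have hp' : algebraMap R' (Localization.Away (algebraMap R R' f)) p.1 -
          Localization.awayMap (algebraMap R R') f p.2 = 0 := hp
      obtain ⟨r, hr1, hr2⟩ := hgp.2.2.1 p.1 p.2 (sub_eq_zero.1 hp')
      exact ⟨r, Prod.ext hr1 hr2⟩
    · rintro ⟨r, rfl⟩
      show algebraMap R' (Localization.Away (algebraMap R R' f)) (algebraMap R R' r) -
        Localization.awayMap (algebraMap R R') f (algebraMap R (Localization.Away f) r) = 0
      rw [Glue.awayMap_algebraMap, sub_self]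
  have hβ : Function.Surjective β := by
    intro z
    obtain ⟨x, y, h⟩ := hgp.2.2.2 z
    exact ⟨(x, y), h⟩
  have h2 : Function.Injective (κ.lTensor (R' × Localization.Away f)) :=
    lTensor_injective_of_exact κ α β hα hαβ hβ h1 h3
  exact lTensor_injective_of_retract κ (LinearMap.inl R R' (Localization.Away f))
    (LinearMap.fst R R' (Localization.Away f)) (fun x => rfl) h2

/-- `Tor₁^R(X, P) = 0` for `f`-power torsion `P`. -/
theorem lTensor_injective_of_torsion (hgp : EtGlue.IsGlueingPair R R' f) [Module.Flat R G]
    (κ : K →ₗ[R] G) (ρ : G →ₗ[R] X) (hκ : Function.Injective κ) (hex : Function.Exact κ ρ)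
    (hρ : Function.Surjective ρ)
    [Module.Flat R' (R' ⊗[R] X)]
    [Module.Flat (Localization.Away f) (Localization.Away f ⊗[R] X)]
    (P : Type u) [AddCommGroup P] [Module R P] (htors : ∀ p : P, ∃ n : ℕ, f ^ n • p = 0) :
    Function.Injective (κ.lTensor P) := by
  have h' : Function.Injective (κ.lTensor R') := lTensor_injective_prime hgp κ ρ hκ hex hρ
  have h1 : Function.Injective (κ.lTensor (R' ⊗[R] P)) :=
    lTensor_injective_of_baseChange_flat κ ρ hex hρ R' h' (R' ⊗[R] P)
  exact lTensor_injective_of_retract κ (TensorProduct.mk R R' P 1) (Glue.retr hgp.1 htors)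
    (fun p => Glue.retr_one_tmul hgp.1 htors p) h1

/-- `Tor₁^R(X, N) = 0` for every `N`. -/
theorem lTensor_injective_all (hgp : EtGlue.IsGlueingPair R R' f) [Module.Flat R G]
    (κ : K →ₗ[R] G) (ρ : G →ₗ[R] X) (hκ : Function.Injective κ) (hex : Function.Exact κ ρ)
    (hρ : Function.Surjective ρ)
    [Module.Flat R' (R' ⊗[R] X)]
    [Module.Flat (Localization.Away f) (Localization.Away f ⊗[R] X)]
    (N : Type u) [AddCommGroup N] [Module R N] :
    Function.Injective (κ.lTensor N) := by
  haveI hK' : Module.Flat R' (R' ⊗[R] K) :=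
    flat_baseChange_ker κ ρ hex hρ R' (lTensor_injective_prime hgp κ ρ hκ hex hρ)
  haveI hKf : Module.Flat (Localization.Away f) (Localization.Away f ⊗[R] K) :=
    flat_baseChange_ker κ ρ hex hρ (Localization.Away f)
      (Module.Flat.lTensor_preserves_injective_linearMap κ hκ)
  obtain ⟨L₂, π₂, hex₂, hπ₂⟩ := exists_pres (R := R) K
  let T : Submodule R N := Glue.tors f N
  have hT : Function.Injective (κ.lTensor T) :=
    lTensor_injective_of_torsion hgp κ ρ hκ hex hρ T (fun p => by
      obtain ⟨k, hk⟩ := p.2
      exact ⟨k, Subtype.ext (by simpa using hk)⟩)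
  have hfree : ∀ (n : ℕ) (p : N ⧸ T), f ^ n • p = 0 → p = 0 := by
    intro n p hp
    obtain ⟨m, rfl⟩ := T.mkQ_surjective p
    rw [← map_smul, Submodule.mkQ_apply, Submodule.Quotient.mk_eq_zero] at hp
    obtain ⟨k, hk⟩ := hp
    rw [Submodule.mkQ_apply, Submodule.Quotient.mk_eq_zero]
    exact ⟨k + n, by rw [pow_add, mul_smul, hk]⟩
  let j : (N ⧸ T) →ₗ[R] LocalizedModule (Submonoid.powers f) (N ⧸ T) :=
    LocalizedModule.mkLinearMap (Submonoid.powers f) (N ⧸ T)
  have hj : Function.Injective j := by
    rw [injective_iff_map_eq_zero]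
    intro p hp
    obtain ⟨n, hn⟩ := (Glue.loc_eq_zero_iff p).1 hp
    exact hfree n p hn
  have hQ : ∀ q : LocalizedModule (Submonoid.powers f) (N ⧸ T) ⧸ LinearMap.range j,
      ∃ n : ℕ, f ^ n • q = 0 := by
    intro q
    obtain ⟨y, rfl⟩ := (LinearMap.range j).mkQ_surjective q
    obtain ⟨⟨m, ⟨_, n, rfl⟩⟩, h⟩ := IsLocalizedModule.surj (Submonoid.powers f) j y
    refine ⟨n, ?_⟩
    rw [← map_smul, Submodule.mkQ_apply, Submodule.Quotient.mk_eq_zero]
    exact LinearMap.mem_range.2 ⟨m, h.symm⟩
  have hNf : Function.Injective (κ.lTensor (LocalizedModule (Submonoid.powers f) (N ⧸ T))) :=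
    lTensor_injective_of_baseChange_flat κ ρ hex hρ (Localization.Away f)
      (Module.Flat.lTensor_preserves_injective_linearMap κ hκ) _
  have hjK : Function.Injective (j.rTensor K) :=
    rTensor_injective_of_tor j (LinearMap.range j).mkQ hj (LinearMap.exact_map_mkQ_range j)
      (Submodule.mkQ_surjective _) K (K →₀ R) L₂ L₂.subtype π₂ hex₂ hπ₂
      (lTensor_injective_of_torsion (K := L₂) (G := K →₀ R) (X := K) hgp L₂.subtype π₂
        (Submodule.injective_subtype _) hex₂ hπ₂ _ hQ)
  have hNbar : Function.Injective (κ.lTensor (N ⧸ T)) := by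
    rw [injective_iff_map_eq_zero]
    intro z hz
    apply hjK
    rw [map_zero]
    apply hNf
    rw [map_zero, sq_rTensor_lTensor, hz, map_zero]
  exact lTensor_injective_of_exact κ T.subtype T.mkQ (Submodule.injective_subtype _)
    (LinearMap.exact_subtype_mkQ T) T.mkQ_surjective hT hNbar

/-- **Flatness descends along a glueing pair.** -/
theorem flat_of_glueingPair (hgp : EtGlue.IsGlueingPair R R' f) (X : Type u) [AddCommGroup X]
    [Module R X] [Module.Flat R' (R' ⊗[R] X)]
    [Module.Flat (Localization.Away f) (Localization.Away f ⊗[R] X)] :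
    Module.Flat R X := by
  obtain ⟨L, π, hex, hπ⟩ := exists_pres (R := R) X
  rw [Module.Flat.iff_rTensor_injective']
  intro I
  exact rTensor_injective_of_tor I.subtype I.mkQ (Submodule.injective_subtype _)
    (LinearMap.exact_subtype_mkQ I) I.mkQ_surjective X (X →₀ R) L L.subtype π hex hπ
    (lTensor_injective_all (K := L) (G := X →₀ R) (X := X) hgp L.subtype π
      (Submodule.injective_subtype _) hex hπ _)

end Pair

end Groth.Agent.Lead.GlueFlat
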