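import Mathlib
import Groth.Agent.Lib.Lead.Glue

/-!
# Finite / finite type ring maps and glueing pairs

Helper lemmas for S12187 (finite) and S10722 (finite type): both properties descend along
`(A → A_f, A → R' ⊗ A)` when `R/f^n ≅ R'/f^n`.
-/

set_option autoImplicit false
universe u
open TensorProduct

namespace Groth.Agent.Lead.Glue4

section loc
variable {A B : Type u} [CommRing A] [CommRing B]

theorem fin_tors (ψ : A →+* B) (r : A) (h : (Localization.awayMap ψ r).Finite) :
    letI := ψ.toAlgebra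
    ∃ T : Finset B, ∀ x : B, ∃ n : ℕ, r ^ n • x ∈ Submodule.span A (T : Set B) := by
  classical
  letI := ψ.toAlgebra
  letI := (Localization.awayMap ψ r).toAlgebra
  have : IsLocalization ((Submonoid.powers r).map (algebraMap A B)) (Localization.Away (ψ r)) := by
    rw [Submonoid.map_powers]; exact Localization.isLocalization
  have : IsScalarTower A (Localization.Away r) (Localization.Away (ψ r)) :=
    IsScalarTower.of_algebraMap_eq'
      (IsLocalization.map_comp (Submonoid.powers r).le_comap_map).symm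
  have h' : Module.Finite (Localization.Away r) (Localization.Away (ψ r)) := h
  obtain ⟨s₁, s₂⟩ := h'.1
  refine ⟨IsLocalization.finsetIntegerMultiple (Submonoid.powers (ψ r)) s₁, fun x => ?_⟩
  obtain ⟨⟨_, n₁, rfl⟩, hn₁⟩ :=
    multiple_mem_span_of_mem_localization_span (Submonoid.powers r)
      (Localization.Away r) (s₁ : Set (Localization.Away (ψ r))) (algebraMap B _ x)
      (by rw [s₂]; trivial)
  dsimp only at hn₁
  rw [Submonoid.smul_def, Algebra.smul_def, IsScalarTower.algebraMap_apply A B, ← map_mul] at hn₁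
  obtain ⟨⟨_, n₂, rfl⟩, hn₂⟩ :=
    IsLocalization.smul_mem_finsetIntegerMultiple_span (Submonoid.powers r)
      (Localization.Away (ψ r)) _ s₁ hn₁
  rw [Submonoid.smul_def, ← Algebra.smul_def, smul_smul, ← pow_add] at hn₂
  simp_rw [Submonoid.map_powers] at hn₂
  exact ⟨n₂ + n₁, hn₂⟩

theorem ft_tors (ψ : A →+* B) (r : A) (h : (Localization.awayMap ψ r).FiniteType) :
    letI := ψ.toAlgebra
    ∃ T : Finset B, ∀ x : B, ∃ n : ℕ, r ^ n • x ∈ Algebra.adjoin A (T : Set B) := by
  classical
  letI := ψ.toAlgebra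
  letI := (Localization.awayMap ψ r).toAlgebra
  have : IsLocalization ((Submonoid.powers r).map (algebraMap A B)) (Localization.Away (ψ r)) := by
    rw [Submonoid.map_powers]; exact Localization.isLocalization
  have : IsScalarTower A (Localization.Away r) (Localization.Away (ψ r)) :=
    IsScalarTower.of_algebraMap_eq'
      (IsLocalization.map_comp (Submonoid.powers r).le_comap_map).symm
  have h' : Algebra.FiniteType (Localization.Away r) (Localization.Away (ψ r)) := h
  obtain ⟨s₁, s₂⟩ := h'.1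
  refine ⟨IsLocalization.finsetIntegerMultiple (Submonoid.powers (ψ r)) s₁, fun x => ?_⟩
  obtain ⟨⟨_, n₁, rfl⟩, hn₁⟩ :=
    multiple_mem_adjoin_of_mem_localization_adjoin (Submonoid.powers r)
      (Localization.Away r) (s₁ : Set (Localization.Away (ψ r))) (algebraMap B _ x)
      (by rw [s₂]; trivial)
  rw [Submonoid.smul_def, Algebra.smul_def, IsScalarTower.algebraMap_apply A B, ← map_mul] at hn₁
  obtain ⟨⟨_, n₂, rfl⟩, hn₂⟩ :=
    IsLocalization.lift_mem_adjoin_finsetIntegerMultiple (Submonoid.powers r) _ s₁ hn₁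
  rw [Submonoid.smul_def, ← Algebra.smul_def, smul_smul, ← pow_add] at hn₂
  simp_rw [Submonoid.map_powers] at hn₂
  exact ⟨n₂ + n₁, hn₂⟩

end loc

section bc
variable {R : Type u} [CommRing R] (R' : Type u) [CommRing R'] [Algebra R R']
  {A B : Type u} [CommRing A] [Algebra R A] [CommRing B] [Algebra R B]

theorem finite_tensor (φ : A →ₐ[R] B) (h : φ.toRingHom.Finite) :
    (Algebra.TensorProduct.map (AlgHom.id R R') φ).toRingHom.Finite := by
  classical
  letI algAB : Algebra A B := φ.toRingHom.toAlgebra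
  letI algT : Algebra (R' ⊗[R] A) (R' ⊗[R] B) :=
    (Algebra.TensorProduct.map (AlgHom.id R R') φ).toRingHom.toAlgebra
  have h' : Module.Finite A B := h
  obtain ⟨T, hT⟩ := h'.1
  show Module.Finite (R' ⊗[R] A) (R' ⊗[R] B)
  refine ⟨⟨T.image (fun b => (1 : R') ⊗ₜ[R] b), ?_⟩⟩
  rw [eq_top_iff]
  rintro z -
  have key : ∀ (b : B), b ∈ Submodule.span A (T : Set B) → ∀ r' : R',
      r' ⊗ₜ[R] b ∈ Submodule.span (R' ⊗[R] A)
        ((T.image (fun b => (1 : R') ⊗ₜ[R] b) : Finset _) : Set (R' ⊗[R] B)) := by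
    intro b hb
    induction hb using Submodule.span_induction with
    | mem x hx =>
      intro r'
      have : r' ⊗ₜ[R] x = (r' ⊗ₜ[R] (1 : A)) • ((1 : R') ⊗ₜ[R] x) := by
        rw [Algebra.smul_def]
        show _ = (Algebra.TensorProduct.map (AlgHom.id R R') φ) (r' ⊗ₜ[R] (1 : A)) * _
        rw [Algebra.TensorProduct.map_tmul, Algebra.TensorProduct.tmul_mul_tmul]
        simp
      rw [this]
      exact Submodule.smul_mem _ _ (Submodule.subset_span (by simpa using ⟨x, hx, rfl⟩))
    | zero => intro r'; rw [TensorProduct.tmul_zero]; exact zero_mem _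
    | add x y _ _ hx hy => intro r'; rw [TensorProduct.tmul_add]; exact add_mem (hx r') (hy r')
    | smul a x _ hx =>
      intro r'
      have : r' ⊗ₜ[R] (a • x) = ((1 : R') ⊗ₜ[R] a) • (r' ⊗ₜ[R] x) := by
        rw [Algebra.smul_def, Algebra.smul_def]
        show r' ⊗ₜ[R] (φ a * x) =
          (Algebra.TensorProduct.map (AlgHom.id R R') φ) ((1 : R') ⊗ₜ[R] a) * _
        rw [Algebra.TensorProduct.map_tmul, Algebra.TensorProduct.tmul_mul_tmul]
        simp
      rw [this]
      exact Submodule.smul_mem _ _ (hx r')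
  induction z using TensorProduct.induction_on with
  | zero => exact zero_mem _
  | tmul r' b => exact key b (by rw [hT]; trivial) r'
  | add x y hx hy => exact add_mem hx hy

theorem finiteType_tensor (φ : A →ₐ[R] B) (h : φ.toRingHom.FiniteType) :
    (Algebra.TensorProduct.map (AlgHom.id R R') φ).toRingHom.FiniteType := by
  classical
  letI algAB : Algebra A B := φ.toRingHom.toAlgebra
  letI algT : Algebra (R' ⊗[R] A) (R' ⊗[R] B) :=
    (Algebra.TensorProduct.map (AlgHom.id R R') φ).toRingHom.toAlgebra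
  have h' : Algebra.FiniteType A B := h
  obtain ⟨T, hT⟩ := h'.1
  show Algebra.FiniteType (R' ⊗[R] A) (R' ⊗[R] B)
  refine ⟨⟨T.image (fun b => (1 : R') ⊗ₜ[R] b), ?_⟩⟩
  rw [eq_top_iff]
  rintro z -
  have key : ∀ (b : B), b ∈ Algebra.adjoin A (T : Set B) → ∀ r' : R',
      r' ⊗ₜ[R] b ∈ Algebra.adjoin (R' ⊗[R] A)
        ((T.image (fun b => (1 : R') ⊗ₜ[R] b) : Finset _) : Set (R' ⊗[R] B)) := by
    intro b hb
    induction hb using Algebra.adjoin_induction with
    | mem x hx =>
      intro r'
      have : r' ⊗ₜ[R] x =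
          algebraMap (R' ⊗[R] A) (R' ⊗[R] B) (r' ⊗ₜ[R] (1 : A)) * ((1 : R') ⊗ₜ[R] x) := by
        show _ = (Algebra.TensorProduct.map (AlgHom.id R R') φ) (r' ⊗ₜ[R] (1 : A)) * _
        rw [Algebra.TensorProduct.map_tmul, Algebra.TensorProduct.tmul_mul_tmul]
        simp
      rw [this]
      exact mul_mem (Subalgebra.algebraMap_mem _ _)
        (Algebra.subset_adjoin (by simpa using ⟨x, hx, rfl⟩))
    | algebraMap a =>
      intro r'
      have : r' ⊗ₜ[R] (algebraMap A B a) =
          algebraMap (R' ⊗[R] A) (R' ⊗[R] B) (r' ⊗ₜ[R] a) := by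
        show r' ⊗ₜ[R] (φ a) = (Algebra.TensorProduct.map (AlgHom.id R R') φ) (r' ⊗ₜ[R] a)
        rw [Algebra.TensorProduct.map_tmul]; rfl
      rw [this]; exact Subalgebra.algebraMap_mem _ _
    | add x y _ _ hx hy => intro r'; rw [TensorProduct.tmul_add]; exact add_mem (hx r') (hy r')
    | mul x y _ _ hx hy =>
      intro r'
      have : r' ⊗ₜ[R] (x * y) = (r' ⊗ₜ[R] x) * ((1 : R') ⊗ₜ[R] y) := by
        rw [Algebra.TensorProduct.tmul_mul_tmul, mul_one]
      rw [this]; exact mul_mem (hx r') (hy 1)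
  induction z using TensorProduct.induction_on with
  | zero => exact zero_mem _
  | tmul r' b => exact key b (by rw [hT]; trivial) r'
  | add x y hx hy => exact add_mem hx hy

end bc

section glue
variable {R : Type u} [CommRing R] {R' : Type u} [CommRing R'] [Algebra R R'] {f : R}
  {A B : Type u} [CommRing A] [Algebra R A] [CommRing B] [Algebra R B]

theorem finite_of_glue (hq : EtGlue.QuotPowBijective R R' f) (φ : A →ₐ[R] B)
    (h1 : (Localization.awayMap φ.toRingHom (algebraMap R A f)).Finite)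
    (h2 : (Algebra.TensorProduct.map (AlgHom.id R R') φ).toRingHom.Finite) :
    φ.toRingHom.Finite := by
  classical
  obtain ⟨T1, hT1⟩ := fin_tors φ.toRingHom (algebraMap R A f) h1
  letI algAB : Algebra A B := φ.toRingHom.toAlgebra
  haveI : IsScalarTower R A B := IsScalarTower.of_algebraMap_eq (fun r => (φ.commutes r).symm)
  letI algT : Algebra (R' ⊗[R] A) (R' ⊗[R] B) :=
    (Algebra.TensorProduct.map (AlgHom.id R R') φ).toRingHom.toAlgebra
  have h2' : Module.Finite (R' ⊗[R] A) (R' ⊗[R] B) := h2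
  obtain ⟨s2, hs2⟩ := h2'.1
  choose S hS using (fun z : R' ⊗[R] B => TensorProduct.exists_finset z)
  let T2 : Finset B := s2.biUnion (fun z => (S z).image Prod.snd)
  let N : Submodule A B := Submodule.span A ((T1 ∪ T2 : Finset B) : Set B)
  let N' : Submodule R B := N.restrictScalars R
  show Module.Finite A B
  refine ⟨⟨T1 ∪ T2, ?_⟩⟩
  rw [eq_top_iff]
  rintro b -
  have htors : ∀ p : B ⧸ N', ∃ k, f ^ k • p = 0 := by
    intro p
    obtain ⟨b, rfl⟩ := N'.mkQ_surjective p
    obtain ⟨k, hk⟩ := hT1 b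
    refine ⟨k, ?_⟩
    rw [← map_smul, Submodule.mkQ_apply, Submodule.Quotient.mk_eq_zero]
    show f ^ k • b ∈ N
    have e : f ^ k • b = (algebraMap R A f) ^ k • b := by rw [← map_pow, algebraMap_smul]
    rw [e]
    exact Submodule.span_mono
      (by intro x hx; simp only [Finset.coe_union]; exact Or.inl hx) hk
  have hK : ∀ (c : R' ⊗[R] A) (s : R') (b : B), b ∈ N →
      LinearMap.lTensor R' N'.mkQ
        ((Algebra.TensorProduct.map (AlgHom.id R R') φ) c * (s ⊗ₜ[R] b)) = 0 := by
    intro c s b hb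
    induction c using TensorProduct.induction_on with
    | zero => simp
    | tmul r' a =>
      rw [Algebra.TensorProduct.map_tmul, Algebra.TensorProduct.tmul_mul_tmul,
        LinearMap.lTensor_tmul]
      have h0 : N'.mkQ (φ a * b) = 0 := by
        rw [Submodule.mkQ_apply, Submodule.Quotient.mk_eq_zero]
        show φ a * b ∈ N
        have := N.smul_mem a hb
        rwa [Algebra.smul_def] at this
      rw [h0, TensorProduct.tmul_zero]
    | add x y hx hy => rw [map_add, add_mul, map_add, hx, hy, add_zero]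
  have hi : ∀ z : R' ⊗[R] B, LinearMap.lTensor R' N'.mkQ z = 0 := by
    intro z
    have hz : z ∈ Submodule.span (R' ⊗[R] A) (s2 : Set (R' ⊗[R] B)) := by rw [hs2]; trivial
    obtain ⟨c, -, rfl⟩ := Submodule.mem_span_finset.mp hz
    rw [map_sum]
    refine Finset.sum_eq_zero (fun x hx => ?_)
    rw [Algebra.smul_def]
    show LinearMap.lTensor R' N'.mkQ
      ((Algebra.TensorProduct.map (AlgHom.id R R') φ) (c x) * x) = 0
    have hx' := hS x
    generalize c x = cx
    rw [hx', Finset.mul_sum, map_sum]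
    refine Finset.sum_eq_zero (fun i hi => hK cx i.1 i.2 (Submodule.subset_span ?_))
    exact Finset.mem_coe.mpr (Finset.mem_union_right _
      (Finset.mem_biUnion.mpr ⟨x, hx, Finset.mem_image_of_mem _ hi⟩))
  have h4 : N'.mkQ b = 0 := Groth.Agent.Lead.Glue.eq_zero_of_tmul_eq_zero hq htors _ (by
    have := hi ((1 : R') ⊗ₜ[R] b)
    rwa [LinearMap.lTensor_tmul] at this)
  rw [Submodule.mkQ_apply, Submodule.Quotient.mk_eq_zero] at h4
  exact h4

theorem finiteType_of_glue (hq : EtGlue.QuotPowBijective R R' f) (φ : A →ₐ[R] B)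
    (h1 : (Localization.awayMap φ.toRingHom (algebraMap R A f)).FiniteType)
    (h2 : (Algebra.TensorProduct.map (AlgHom.id R R') φ).toRingHom.FiniteType) :
    φ.toRingHom.FiniteType := by
  classical
  obtain ⟨T1, hT1⟩ := ft_tors φ.toRingHom (algebraMap R A f) h1
  letI algAB : Algebra A B := φ.toRingHom.toAlgebra
  haveI : IsScalarTower R A B := IsScalarTower.of_algebraMap_eq (fun r => (φ.commutes r).symm)
  letI algT : Algebra (R' ⊗[R] A) (R' ⊗[R] B) :=
    (Algebra.TensorProduct.map (AlgHom.id R R') φ).toRingHom.toAlgebra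
  have h2' : Algebra.FiniteType (R' ⊗[R] A) (R' ⊗[R] B) := h2
  obtain ⟨s2, hs2⟩ := h2'.1
  choose S hS using (fun z : R' ⊗[R] B => TensorProduct.exists_finset z)
  let T2 : Finset B := s2.biUnion (fun z => (S z).image Prod.snd)
  let N : Subalgebra A B := Algebra.adjoin A ((T1 ∪ T2 : Finset B) : Set B)
  let NR : Subalgebra R B := N.restrictScalars R
  let N' : Submodule R B := Subalgebra.toSubmodule NR
  show Algebra.FiniteType A B
  refine ⟨⟨T1 ∪ T2, ?_⟩⟩
  rw [eq_top_iff]
  rintro b -
  have htors : ∀ p : B ⧸ N', ∃ k, f ^ k • p = 0 := by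
    intro p
    obtain ⟨b, rfl⟩ := N'.mkQ_surjective p
    obtain ⟨k, hk⟩ := hT1 b
    refine ⟨k, ?_⟩
    rw [← map_smul, Submodule.mkQ_apply, Submodule.Quotient.mk_eq_zero]
    show f ^ k • b ∈ N
    have e : f ^ k • b = (algebraMap R A f) ^ k • b := by rw [← map_pow, algebraMap_smul]
    rw [e]
    exact Algebra.adjoin_mono
      (by intro x hx; simp only [Finset.coe_union]; exact Or.inl hx) hk
  let K : Subalgebra R (R' ⊗[R] B) :=
    (Algebra.TensorProduct.map (AlgHom.id R R') NR.val).range
  have hK0 : ∀ z ∈ K, LinearMap.lTensor R' N'.mkQ z = 0 := by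
    intro z hz
    obtain ⟨w, rfl⟩ := (AlgHom.mem_range _).mp hz
    induction w using TensorProduct.induction_on with
    | zero => simp
    | tmul r' n =>
      rw [Algebra.TensorProduct.map_tmul, LinearMap.lTensor_tmul]
      have h0 : N'.mkQ (NR.val n) = 0 := by
        rw [Submodule.mkQ_apply, Submodule.Quotient.mk_eq_zero]
        exact n.2
      rw [h0, TensorProduct.tmul_zero]
    | add x y hx hy =>
      rw [map_add, map_add, hx (AlgHom.mem_range_self _ _), hy (AlgHom.mem_range_self _ _),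
        add_zero]
  have hK1 : ∀ z : R' ⊗[R] B, z ∈ K := by
    intro z
    have hz : z ∈ Algebra.adjoin (R' ⊗[R] A) (s2 : Set (R' ⊗[R] B)) := by rw [hs2]; trivial
    induction hz using Algebra.adjoin_induction with
    | mem x hx =>
      rw [hS x]
      refine Subalgebra.sum_mem _ (fun i hi => ?_)
      have hi2 : i.2 ∈ NR := Algebra.subset_adjoin (Finset.mem_coe.mpr
        (Finset.mem_union_right _ (Finset.mem_biUnion.mpr ⟨x, hx, Finset.mem_image_of_mem _ hi⟩)))
      exact (AlgHom.mem_range _).mpr ⟨i.1 ⊗ₜ[R] ⟨i.2, hi2⟩, by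
        rw [Algebra.TensorProduct.map_tmul]; rfl⟩
    | algebraMap c =>
      show (Algebra.TensorProduct.map (AlgHom.id R R') φ) c ∈ K
      induction c using TensorProduct.induction_on with
      | zero => rw [map_zero]; exact zero_mem _
      | tmul r' a =>
        have ha : φ a ∈ NR := N.algebraMap_mem a
        exact (AlgHom.mem_range _).mpr ⟨r' ⊗ₜ[R] ⟨φ a, ha⟩, by
          rw [Algebra.TensorProduct.map_tmul, Algebra.TensorProduct.map_tmul]; rfl⟩
      | add x y hx hy => rw [map_add]; exact add_mem hx hy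
    | add x y _ _ hx hy => exact add_mem hx hy
    | mul x y _ _ hx hy => exact mul_mem hx hy
  have h4 : N'.mkQ b = 0 := Groth.Agent.Lead.Glue.eq_zero_of_tmul_eq_zero hq htors _ (by
    have := hK0 _ (hK1 ((1 : R') ⊗ₜ[R] b))
    rwa [LinearMap.lTensor_tmul] at this)
  rw [Submodule.mkQ_apply, Submodule.Quotient.mk_eq_zero] at h4
  exact h4

end glue

end Groth.Agent.Lead.Glue4
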