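import Mathlib

/-! Degree-zero exactness of the Amitsur complex for a faithfully flat ring map `A → A'`:
`0 → N → A' ⊗ N → (A' ⊗ A') ⊗ N`. -/

namespace Groth.Agent.Lead

open TensorProduct

universe u v w

variable (A : Type u) (A' : Type v) [CommRing A] [CommRing A'] [Algebra A A']
  (N : Type w) [AddCommGroup N] [Module A N]

/-- `ε : N → A' ⊗ N`, `n ↦ 1 ⊗ n`. -/
def amEps : N →ₗ[A] A' ⊗[A] N := TensorProduct.mk A A' N 1

/-- `d : A' ⊗ N → (A' ⊗ A') ⊗ N`, `a ⊗ n ↦ (a ⊗ 1) ⊗ n - (1 ⊗ a) ⊗ n`. -/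
def amD : A' ⊗[A] N →ₗ[A] (A' ⊗[A] A') ⊗[A] N :=
  LinearMap.rTensor N
    ((Algebra.TensorProduct.includeLeft : A' →ₐ[A] A' ⊗[A] A').toLinearMap -
      (Algebra.TensorProduct.includeRight : A' →ₐ[A] A' ⊗[A] A').toLinearMap)

/-- `μ : A' ⊗ (A' ⊗ N) → A' ⊗ N`, `a ⊗ (b ⊗ n) ↦ ab ⊗ n`. -/
def amMu : A' ⊗[A] (A' ⊗[A] N) →ₗ[A] A' ⊗[A] N :=
  (LinearMap.rTensor N (LinearMap.mul' A A')) ∘ₗ (TensorProduct.assoc A A' A' N).symm.toLinearMap

/-- `σ : A' ⊗ ((A' ⊗ A') ⊗ N) → A' ⊗ (A' ⊗ N)`, `a ⊗ ((b ⊗ c) ⊗ n) ↦ ab ⊗ (c ⊗ n)`. -/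
def amSigma : A' ⊗[A] ((A' ⊗[A] A') ⊗[A] N) →ₗ[A] A' ⊗[A] (A' ⊗[A] N) :=
  (TensorProduct.assoc A A' A' N).toLinearMap ∘ₗ
    (LinearMap.rTensor N ((LinearMap.rTensor A' (LinearMap.mul' A A')) ∘ₗ
      (TensorProduct.assoc A A' A' A').symm.toLinearMap)) ∘ₗ
    (TensorProduct.assoc A A' (A' ⊗[A] A') N).symm.toLinearMap

lemma amSigma_tmul (a b c : A') (n : N) :
    amSigma A A' N (a ⊗ₜ ((b ⊗ₜ c) ⊗ₜ n)) = (a * b) ⊗ₜ (c ⊗ₜ n) := by
  simp [amSigma]

lemma amMu_tmul (a b : A') (n : N) : amMu A A' N (a ⊗ₜ (b ⊗ₜ n)) = (a * b) ⊗ₜ n := by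
  simp [amMu]

lemma am_homotopy (x : A' ⊗[A] (A' ⊗[A] N)) :
    amSigma A A' N (LinearMap.lTensor A' (amD A A' N) x) =
      LinearMap.lTensor A' (amEps A A' N) (amMu A A' N x) - x := by
  induction x using TensorProduct.induction_on with
  | zero => simp
  | add x y hx hy => simp only [map_add, hx, hy]; abel
  | tmul a y =>
    induction y using TensorProduct.induction_on with
    | zero => simp
    | add x y hx hy =>
      simp only [TensorProduct.tmul_add, map_add, hx, hy]; abel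
    | tmul b n =>
      simp only [LinearMap.lTensor_tmul, amD, LinearMap.rTensor_tmul, LinearMap.sub_apply,
        AlgHom.toLinearMap_apply, Algebra.TensorProduct.includeLeft_apply,
        Algebra.TensorProduct.includeRight_apply, TensorProduct.sub_tmul, TensorProduct.tmul_sub,
        map_sub, amSigma_tmul, amMu_tmul, amEps, TensorProduct.mk_apply, mul_one]

lemma amD_comp_amEps : (amD A A' N) ∘ₗ (amEps A A' N) = 0 := by
  ext n
  simp [amD, amEps]

variable [Module.FaithfullyFlat A A']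

lemma am_exact : Function.Exact (amEps A A' N) (amD A A' N) := by
  rw [← Module.FaithfullyFlat.lTensor_exact_iff_exact A A']
  intro x
  constructor
  · intro hx
    refine ⟨amMu A A' N x, ?_⟩
    have := am_homotopy A A' N x
    rw [hx, map_zero] at this
    exact (sub_eq_zero.mp this.symm)
  · rintro ⟨y, rfl⟩
    rw [← LinearMap.comp_apply, ← LinearMap.lTensor_comp, amD_comp_amEps, LinearMap.lTensor_zero,
      LinearMap.zero_apply]

lemma amEps_injective : Function.Injective (amEps A A' N) := by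
  rw [injective_iff_map_eq_zero]
  intro n hn
  exact (Module.FaithfullyFlat.one_tmul_eq_zero_iff A N (A := A') n).mp hn

/-- Degree-zero Amitsur exactness: an element of `A' ⊗ N` whose two images in `(A' ⊗ A') ⊗ N`
agree is of the form `1 ⊗ n`. -/
theorem exists_one_tmul_eq (y : A' ⊗[A] N)
    (hy : LinearMap.rTensor N (Algebra.TensorProduct.includeLeft : A' →ₐ[A] A' ⊗[A] A').toLinearMap y =
      LinearMap.rTensor N (Algebra.TensorProduct.includeRight : A' →ₐ[A] A' ⊗[A] A').toLinearMap y) :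
    ∃ n : N, (1 : A') ⊗ₜ[A] n = y := by
  have h0 : amD A A' N y = 0 := by
    rw [amD, LinearMap.rTensor_sub, LinearMap.sub_apply, hy, sub_self]
  obtain ⟨n, hn⟩ := (am_exact A A' N y).mp h0
  exact ⟨n, hn⟩

theorem one_tmul_injective : Function.Injective (fun n : N => (1 : A') ⊗ₜ[A] n) :=
  amEps_injective A A' N

end Groth.Agent.Lead
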