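import Mathlib

/-!
# Topology of schemes locally of finite type over a field (shared lemmas, seat `lead`)
-/

namespace Groth.Agent.Lead

open AlgebraicGeometry CategoryTheory TopologicalSpace

universe u

/-- In a scheme locally of finite type over a Noetherian Jacobson ring (e.g. a field), a closed
point without proper generizations is an open point. -/
theorem isOpen_singleton_of_isClosed_of_forall_specializes {F : Scheme.{u}} (κ : CommRingCat.{u})
    [IsNoetherianRing κ] [IsJacobsonRing κ] (π : F ⟶ Spec κ) [LocallyOfFiniteType π] (z : F)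
    (hc : IsClosed ({z} : Set F)) (hg : ∀ x' : F, x' ⤳ z → x' = z) : IsOpen ({z} : Set F) := by
  obtain ⟨U, hU, hzU, -⟩ := Opens.isBasis_iff_nbhd.mp F.isBasis_affineOpens
    (show z ∈ (⊤ : F.Opens) from trivial)
  have e : U ≤ π ⁻¹ᵁ ⊤ := fun _ _ => trivial
  have hψ : (π.appLE ⊤ U e).hom.FiniteType :=
    HasRingHomProperty.appLE (P := @LocallyOfFiniteType) π inferInstance
      ⟨⊤, isAffineOpen_top _⟩ ⟨U, hU⟩ e
  haveI : IsNoetherianRing Γ(Spec κ, ⊤) :=
    isNoetherianRing_of_ringEquiv κ (Scheme.ΓSpecIso κ).commRingCatIsoToRingEquiv.symm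
  haveI : IsJacobsonRing Γ(Spec κ, ⊤) :=
    (isJacobsonRing_iso (Scheme.ΓSpecIso κ).commRingCatIsoToRingEquiv).mpr inferInstance
  haveI : IsJacobsonRing Γ(F, U) := hψ.isJacobsonRing
  haveI : IsNoetherianRing Γ(F, U) := by
    algebraize [(π.appLE ⊤ U e).hom]
    exact Algebra.FiniteType.isNoetherianRing Γ(Spec κ, ⊤) Γ(F, U)
  have hzr : z ∈ Set.range hU.fromSpec := by rw [hU.range_fromSpec]; exact hzU
  obtain ⟨p, hp⟩ := hzr
  have hinj : Function.Injective hU.fromSpec := hU.fromSpec.isOpenEmbedding.injective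
  have hpre : hU.fromSpec ⁻¹' {z} = {p} := by
    ext q
    constructor
    · intro hq
      exact hinj ((Set.mem_singleton_iff.mp hq).trans hp.symm)
    · intro hq
      rw [Set.mem_singleton_iff] at hq
      subst hq
      exact hp
  have h1 : IsClosed ({p} : Set (PrimeSpectrum Γ(F, U))) := by
    have := hc.preimage hU.fromSpec.continuous
    rw [hpre] at this
    exact this
  have h2 : StableUnderGeneralization ({p} : Set (PrimeSpectrum Γ(F, U))) := by
    intro a b hba ha
    have ha' : a = p := ha
    subst ha'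
    have h3 : hU.fromSpec b ⤳ hU.fromSpec a := hba.map hU.fromSpec.continuous
    rw [hp] at h3
    have h5 : b = a := hinj ((hg _ h3).trans hp.symm)
    exact h5
  have h3 : IsOpen ({p} : Set (PrimeSpectrum Γ(F, U))) :=
    ((PrimeSpectrum.isOpen_singleton_tfae_of_isNoetherian_of_isJacobsonRing
      (R := ↑Γ(F, U)) p).out 2 0).mp (And.intro h1 h2)
  have h4 : ({z} : Set F) = hU.fromSpec '' {p} := by rw [Set.image_singleton, hp]
  rw [h4]
  exact hU.fromSpec.isOpenEmbedding.isOpenMap _ h3

/-- In a tower of fields `K → L → M` with `M` finite over `K`, `L` is finite over `K`. -/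
theorem finite_of_comp_finite_of_field {K L M : Type*} [Field K] [Field L] [Field M]
    (φ : K →+* L) (ψ : L →+* M) (h : (ψ.comp φ).Finite) : φ.Finite := by
  algebraize [φ, ψ, ψ.comp φ]
  exact Module.Finite.of_injective (IsScalarTower.toAlgHom K L M).toLinearMap ψ.injective

end Groth.Agent.Lead
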