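import Mathlib

/-!
# Formal glueing for a general ideal: torsion modules and base change

`R → S` flat, `I ⊆ R` an ideal.  If `R/I → S/IS` is bijective then `M → S ⊗_R M` is bijective for
every `I`-power torsion `R`-module `M`.
-/

set_option autoImplicit false
universe u
open TensorProduct

namespace Groth.Agent.Lead.FormalGlue

variable {R S : Type u} [CommRing R] [CommRing S] [Algebra R S]

lemma quotientMap_eq (I : Ideal R) (x : R ⧸ I) :
    Ideal.quotientMap (I.map (algebraMap R S)) (algebraMap R S) Ideal.le_comap_map x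
      = (Algebra.TensorProduct.quotIdealMapEquivTensorQuot S I).symm
          (TensorProduct.mk R S (R ⧸ I) 1 x) := by
  obtain ⟨r, rfl⟩ := Ideal.Quotient.mk_surjective x
  rw [Ideal.quotientMap_mk]
  show _ = (Algebra.TensorProduct.quotIdealMapEquivTensorQuot S I).symm
    ((1 : S) ⊗ₜ[R] (Ideal.Quotient.mk I r))
  rw [Algebra.TensorProduct.quotIdealMapEquivTensorQuot_symm_tmul, Algebra.smul_def, mul_one]
  rfl

lemma bij_quot_iff (I : Ideal R) :
    Function.Bijective (Ideal.quotientMap (I.map (algebraMap R S)) (algebraMap R S)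
      Ideal.le_comap_map) ↔ Function.Bijective (TensorProduct.mk R S (R ⧸ I) 1) := by
  have : (Ideal.quotientMap (I.map (algebraMap R S)) (algebraMap R S) Ideal.le_comap_map :
      R ⧸ I → _) = (Algebra.TensorProduct.quotIdealMapEquivTensorQuot S I).symm ∘
        (TensorProduct.mk R S (R ⧸ I) 1) := funext (quotientMap_eq I)
  rw [this]
  exact Function.Bijective.of_comp_iff' (AlgEquiv.bijective _) _

section A

variable {I : Ideal R} (hT : Function.Bijective (TensorProduct.mk R S (R ⧸ I) 1))
  {M : Type u} [AddCommGroup M] [Module R M] (hM : ∀ (a : R) (m : M), a ∈ I → a • m = 0)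

/-- The action of `R ⧸ I` on a module killed by `I`, as a linear map. -/
def act : (R ⧸ I) →ₗ[R] (M →ₗ[R] M) :=
  Submodule.liftQ I (LinearMap.lsmul R M) (fun a ha => by
    rw [LinearMap.mem_ker]; ext m; exact hM a m ha)

include hM in
lemma act_mk (a : R) (m : M) : act hM (Ideal.Quotient.mk I a) m = a • m := rfl

lemma act_one (m : M) : act hM (1 : R ⧸ I) m = m := by
  have : (1 : R ⧸ I) = Ideal.Quotient.mk I 1 := rfl
  rw [this, act_mk, one_smul]

noncomputable def beta : S →ₗ[R] (R ⧸ I) :=
  (LinearEquiv.ofBijective _ hT).symm.toLinearMap ∘ₗ (TensorProduct.mk R S (R ⧸ I)).flip 1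

lemma T_beta (s : S) : (1 : S) ⊗ₜ[R] (beta hT s) = s ⊗ₜ[R] (1 : R ⧸ I) :=
  (LinearEquiv.ofBijective _ hT).apply_symm_apply (s ⊗ₜ[R] (1 : R ⧸ I))

lemma beta_one : beta hT (1 : S) = 1 := by
  apply hT.1
  show (1 : S) ⊗ₜ[R] (beta hT 1) = (1 : S) ⊗ₜ[R] (1 : R ⧸ I)
  exact T_beta hT 1

noncomputable def inv : S ⊗[R] M →ₗ[R] M := TensorProduct.lift ((act hM) ∘ₗ (beta hT))

lemma inv_tmul (s : S) (m : M) : inv hT hM (s ⊗ₜ m) = act hM (beta hT s) m := rfl

include hT hM in
theorem bij_of_killed : Function.Bijective (TensorProduct.mk R S M 1) := by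
  constructor
  · intro m m' h
    have := congrArg (inv hT hM) h
    simpa [inv_tmul, beta_one, act_one] using this
  · intro z
    refine ⟨inv hT hM z, ?_⟩
    induction z using TensorProduct.induction_on with
    | zero => simp
    | tmul s m =>
      show (1 : S) ⊗ₜ[R] (act hM (beta hT s) m) = s ⊗ₜ m
      have hg : ∀ (x : S) (q : R ⧸ I),
          ((act hM).flip m).lTensor S (x ⊗ₜ q) = x ⊗ₜ (act hM q m) := fun x q => rfl
      rw [← hg 1 (beta hT s), T_beta, hg, act_one]
    | add a b ha hb => rw [map_add, map_add, ha, hb]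

end A

theorem bij_of_exact [Module.Flat R S] {M' M M'' : Type u} [AddCommGroup M'] [Module R M']
    [AddCommGroup M] [Module R M] [AddCommGroup M''] [Module R M'']
    (f : M' →ₗ[R] M) (g : M →ₗ[R] M'') (hf : Function.Injective f) (hfg : Function.Exact f g)
    (hg : Function.Surjective g)
    (h' : Function.Bijective (TensorProduct.mk R S M' 1))
    (h'' : Function.Bijective (TensorProduct.mk R S M'' 1)) :
    Function.Bijective (TensorProduct.mk R S M 1) := by
  have hfS : Function.Injective (f.lTensor S) :=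
    Module.Flat.lTensor_preserves_injective_linearMap f hf
  have hex : Function.Exact (f.lTensor S) (g.lTensor S) := lTensor_exact S hfg hg
  constructor
  · rw [injective_iff_map_eq_zero]
    intro m hm
    have h1 : TensorProduct.mk R S M'' 1 (g m) = 0 := by
      have := congrArg (g.lTensor S) hm
      simpa using this
    have h2 : g m = 0 := (injective_iff_map_eq_zero _).mp h''.1 _ h1
    obtain ⟨m', rfl⟩ := (hfg m).mp h2
    have h3 : f.lTensor S (TensorProduct.mk R S M' 1 m') = 0 := by
      show f.lTensor S ((1 : S) ⊗ₜ m') = 0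
      rw [LinearMap.lTensor_tmul]; exact hm
    have h4 := (injective_iff_map_eq_zero _).mp hfS _ h3
    have h5 := (injective_iff_map_eq_zero _).mp h'.1 _ h4
    rw [h5, map_zero]
  · intro x
    obtain ⟨m'', hm''⟩ := h''.2 (g.lTensor S x)
    obtain ⟨m, rfl⟩ := hg m''
    have h1 : g.lTensor S (x - (1 : S) ⊗ₜ m) = 0 := by
      rw [map_sub, LinearMap.lTensor_tmul, ← hm'']
      exact sub_self _
    obtain ⟨y, hy⟩ := (hex _).mp h1
    obtain ⟨m', rfl⟩ := h'.2 y
    refine ⟨m + f m', ?_⟩
    show (1 : S) ⊗ₜ[R] (m + f m') = x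
    have h2 : f.lTensor S ((1 : S) ⊗ₜ m') = (1 : S) ⊗ₜ f m' := LinearMap.lTensor_tmul ..
    have h3 : f.lTensor S ((1 : S) ⊗ₜ m') = x - (1 : S) ⊗ₜ m := hy
    rw [tmul_add, ← h2, h3]
    abel

variable (I : Ideal R)

theorem bij_of_pow [Module.Flat R S]
    (hT : Function.Bijective (TensorProduct.mk R S (R ⧸ I) 1)) :
    ∀ (n : ℕ) (M : Type u) [AddCommGroup M] [Module R M],
      (∀ a ∈ I ^ n, ∀ m : M, a • m = 0) → Function.Bijective (TensorProduct.mk R S M 1)
  | 0, M, _, _, h => by
      have h0 : ∀ m : M, m = 0 := fun m => by simpa using h 1 (by simp) m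
      exact bij_of_killed hT (fun a m _ => by rw [h0 m, smul_zero])
  | n + 1, M, _, _, h => by
      let N : Submodule R M := I • ⊤
      have hN : ∀ a ∈ I ^ n, ∀ x : N, a • x = 0 := by
        intro a ha x
        apply Subtype.ext
        show a • (x : M) = 0
        refine Submodule.smul_induction_on x.2 (fun b hb m _ => ?_) (fun x y hx hy => ?_)
        · rw [← mul_smul]
          exact h _ (by rw [pow_succ]; exact Ideal.mul_mem_mul ha hb) m
        · rw [smul_add, hx, hy, add_zero]
      have hQ : ∀ (a : R) (q : M ⧸ N), a ∈ I → a • q = 0 := by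
        intro a q ha
        obtain ⟨m, rfl⟩ := Submodule.Quotient.mk_surjective N q
        rw [← Submodule.Quotient.mk_smul, Submodule.Quotient.mk_eq_zero]
        exact Submodule.smul_mem_smul ha Submodule.mem_top
      exact bij_of_exact N.subtype N.mkQ N.injective_subtype (LinearMap.exact_subtype_mkQ N)
        N.mkQ_surjective (bij_of_pow hT n N hN) (bij_of_killed hT hQ)

theorem bij_of_torsion [Module.Flat R S]
    (hT : Function.Bijective (TensorProduct.mk R S (R ⧸ I) 1))
    (M : Type u) [AddCommGroup M] [Module R M]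
    (hM : ∀ m : M, ∃ n : ℕ, ∀ a ∈ I ^ n, a • m = 0) :
    Function.Bijective (TensorProduct.mk R S M 1) := by
  let N : ℕ → Submodule R M := fun n =>
    { carrier := {m | ∀ a ∈ I ^ n, a • m = 0}
      add_mem' := fun {x y} hx hy a ha => by rw [smul_add, hx a ha, hy a ha, add_zero]
      zero_mem' := fun a _ => smul_zero a
      smul_mem' := fun c x hx a ha => by rw [smul_comm, hx a ha, smul_zero] }
  have hN : ∀ n, Function.Bijective (TensorProduct.mk R S (N n) 1) := fun n =>
    bij_of_pow I hT n (N n) (fun a ha x => Subtype.ext (x.2 a ha))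
  have hNinj : ∀ n, Function.Injective ((N n).subtype.lTensor S) := fun n =>
    Module.Flat.lTensor_preserves_injective_linearMap _ (N n).injective_subtype
  constructor
  · rw [injective_iff_map_eq_zero]
    intro m hm
    obtain ⟨n, hn⟩ := hM m
    have h1 : (N n).subtype.lTensor S ((1 : S) ⊗ₜ (⟨m, hn⟩ : N n)) = 0 := by
      rw [LinearMap.lTensor_tmul]; exact hm
    have h2 := (injective_iff_map_eq_zero _).mp (hNinj n) _ h1
    have h3 := (injective_iff_map_eq_zero _).mp (hN n).1 ⟨m, hn⟩ h2
    exact congrArg Subtype.val h3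
  · intro z
    induction z using TensorProduct.induction_on with
    | zero => exact ⟨0, map_zero _⟩
    | tmul s m =>
      obtain ⟨n, hn⟩ := hM m
      obtain ⟨m', hm'⟩ := (hN n).2 (s ⊗ₜ (⟨m, hn⟩ : N n))
      refine ⟨(m' : M), ?_⟩
      have := congrArg ((N n).subtype.lTensor S) hm'
      simpa using this
    | add a b ha hb =>
      obtain ⟨x, hx⟩ := ha
      obtain ⟨y, hy⟩ := hb
      exact ⟨x + y, by rw [map_add, hx, hy]⟩

end Groth.Agent.Lead.FormalGlue
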