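import Mathlib

/-!
# Finite type points of schemes (shared lemmas, seat `lead`)
-/

namespace Groth.Agent.Lead

open AlgebraicGeometry CategoryTheory TopologicalSpace

universe u

/-- A field which is a finitely generated algebra over a subdomain `D`: some nonzero `y ∈ D` is
contained in every nonzero prime of `D`. -/
theorem exists_ne_zero_forall_prime_eq_bot (D K : Type*) [CommRing D] [IsDomain D] [Field K]
    [Algebra D K] [FaithfulSMul D K] [Algebra.FiniteType D K] :
    ∃ y : D, y ≠ 0 ∧ ∀ p : Ideal D, p.IsPrime → y ∉ p → p = ⊥ := by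
  classical
  letI := FractionRing.liftAlgebra D K
  haveI := FractionRing.isScalarTower_liftAlgebra D K
  haveI : Algebra.FiniteType (FractionRing D) K :=
    Algebra.FiniteType.of_restrictScalars_finiteType D (FractionRing D) K
  haveI : Module.Finite (FractionRing D) K :=
    finite_of_finite_type_of_isJacobsonRing (FractionRing D) K
  haveI : Algebra.IsAlgebraic (FractionRing D) K := Algebra.IsAlgebraic.of_finite _ _
  haveI : Algebra.IsAlgebraic D K :=
    (IsFractionRing.comap_isAlgebraic_iff (A := D) (K := FractionRing D) (C := K)).mpr inferInstance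
  obtain ⟨s, hs⟩ := (Algebra.FiniteType.out : (⊤ : Subalgebra D K).FG)
  obtain ⟨y, hy0, hy⟩ := Algebra.IsAlgebraic.exists_integral_multiples D s
  refine ⟨y, hy0, fun p hp hyp => ?_⟩
  have hinj : Function.Injective (algebraMap D K) := FaithfulSMul.algebraMap_injective D K
  have hu0 : algebraMap D K y ≠ 0 := (map_ne_zero_iff _ hinj).mpr hy0
  let B : Subalgebra D K := Algebra.adjoin D {(algebraMap D K y)⁻¹}
  have hint : Algebra.IsIntegral B K := by
    constructor
    intro x
    have hx : x ∈ Algebra.adjoin D (s : Set K) := by rw [hs]; trivial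
    induction hx using Algebra.adjoin_induction with
    | mem z hz =>
      have h1 : IsIntegral B (y • z) := (hy z hz).tower_top
      have h2 : z = algebraMap B K ⟨(algebraMap D K y)⁻¹, Algebra.subset_adjoin rfl⟩ * (y • z) := by
        rw [Algebra.smul_def]
        show z = (algebraMap D K y)⁻¹ * (algebraMap D K y * z)
        rw [← mul_assoc, inv_mul_cancel₀ hu0, one_mul]
      rw [h2]
      exact isIntegral_algebraMap.mul h1
    | algebraMap r =>
      have h := IsScalarTower.algebraMap_apply D B K r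
      rw [h]
      exact isIntegral_algebraMap
    | add a b _ _ ha hb => exact ha.add hb
    | mul a b _ _ ha hb => exact ha.mul hb
  have hBfield : IsField B :=
    isField_of_isIntegral_of_isField (R := B) (S := K) Subtype.val_injective (Field.toIsField K)
  have key : ∀ c ∈ B, ∃ N : ℕ, ∃ r : D, (algebraMap D K y) ^ N * c = algebraMap D K r := by
    intro c hc
    induction hc using Algebra.adjoin_induction with
    | mem z hz =>
      rw [Set.mem_singleton_iff] at hz
      subst hz
      exact ⟨1, 1, by rw [pow_one, mul_inv_cancel₀ hu0, map_one]⟩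
    | algebraMap r => exact ⟨0, r, by rw [pow_zero, one_mul]⟩
    | add a b _ _ ha hb =>
      obtain ⟨N, r, hr⟩ := ha
      obtain ⟨M, t, ht⟩ := hb
      refine ⟨N + M, y ^ M * r + y ^ N * t, ?_⟩
      rw [map_add, map_mul, map_mul, map_pow, map_pow, ← hr, ← ht]
      ring
    | mul a b _ _ ha hb =>
      obtain ⟨N, r, hr⟩ := ha
      obtain ⟨M, t, ht⟩ := hb
      refine ⟨N + M, r * t, ?_⟩
      rw [map_mul, ← hr, ← ht]
      ring
  rw [eq_bot_iff]
  intro a ha
  rw [Ideal.mem_bot]
  by_contra ha0
  have hne : (algebraMap D B a) ≠ 0 := by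
    intro h0
    apply ha0
    apply hinj
    rw [IsScalarTower.algebraMap_apply D B K a, h0, map_zero, map_zero]
  obtain ⟨c, hc⟩ := hBfield.mul_inv_cancel hne
  obtain ⟨N, r, hr⟩ := key c.1 c.2
  have hK1 : algebraMap D K a * (c : K) = 1 := by
    have := congrArg (algebraMap B K) hc
    rw [map_mul, map_one, ← IsScalarTower.algebraMap_apply D B K] at this
    exact this
  have h2 : algebraMap D K (y ^ N) = algebraMap D K (a * r) := by
    rw [map_pow, map_mul, ← hr]
    calc (algebraMap D K y) ^ N = (algebraMap D K y) ^ N * (algebraMap D K a * (c : K)) := by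
          rw [hK1, mul_one]
      _ = algebraMap D K a * ((algebraMap D K y) ^ N * (c : K)) := by ring
  have h3 : y ^ N = a * r := hinj h2
  have h4 : y ^ N ∈ p := h3 ▸ p.mul_mem_right r ha
  exact hyp (hp.mem_of_pow_mem N h4)

/-- A finite type ring map `ψ : R → K` to a field: the kernel is a "locally closed point":
some `d ∉ ker ψ` is contained in every prime strictly containing `ker ψ`. -/
theorem exists_not_mem_ker_forall_prime_le {R K : Type*} [CommRing R] [CommRing K] (hK : IsField K)
    (ψ : R →+* K) (hψ : ψ.FiniteType) :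
    ∃ d : R, ψ d ≠ 0 ∧
      ∀ p : Ideal R, p.IsPrime → RingHom.ker ψ ≤ p → d ∉ p → p ≤ RingHom.ker ψ := by
  classical
  letI := hK.toField
  algebraize [ψ]
  haveI : (RingHom.ker ψ).IsPrime := RingHom.ker_isPrime ψ
  letI : Algebra (R ⧸ RingHom.ker ψ) K := (RingHom.kerLift ψ).toAlgebra
  haveI : IsScalarTower R (R ⧸ RingHom.ker ψ) K := IsScalarTower.of_algebraMap_eq (fun x => rfl)
  haveI : FaithfulSMul (R ⧸ RingHom.ker ψ) K :=
    (faithfulSMul_iff_algebraMap_injective _ _).mpr (RingHom.kerLift_injective ψ)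
  haveI : Algebra.FiniteType (R ⧸ RingHom.ker ψ) K :=
    Algebra.FiniteType.of_restrictScalars_finiteType R (R ⧸ RingHom.ker ψ) K
  obtain ⟨y, hy0, hy⟩ := exists_ne_zero_forall_prime_eq_bot (R ⧸ RingHom.ker ψ) K
  obtain ⟨d, rfl⟩ := Ideal.Quotient.mk_surjective y
  refine ⟨d, ?_, fun p hp hle hd => ?_⟩
  · intro h0
    apply hy0
    rw [Ideal.Quotient.eq_zero_iff_mem, RingHom.mem_ker]
    exact h0
  · have hp' : (p.map (Ideal.Quotient.mk (RingHom.ker ψ))).IsPrime :=
      Ideal.map_isPrime_of_surjective Ideal.Quotient.mk_surjective (by rwa [Ideal.mk_ker])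
    have hd' : Ideal.Quotient.mk (RingHom.ker ψ) d ∉ p.map (Ideal.Quotient.mk (RingHom.ker ψ)) := by
      rw [Ideal.mem_quotient_iff_mem hle]
      exact hd
    have hbot := hy _ hp' hd'
    intro a ha
    have : Ideal.Quotient.mk (RingHom.ker ψ) a ∈ p.map (Ideal.Quotient.mk (RingHom.ker ψ)) :=
      Ideal.mem_map_of_mem _ ha
    rw [hbot, Ideal.mem_bot, Ideal.Quotient.eq_zero_iff_mem] at this
    exact this

/-- A point of a subspace is closed there as soon as it has no proper specialization inside. -/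
theorem isClosed_singleton_subtype {X : Type*} [TopologicalSpace X] {P : X → Prop} (x : X)
    (hx : P x) (h : ∀ y, P y → x ⤳ y → y = x) : IsClosed ({⟨x, hx⟩} : Set (Subtype P)) := by
  rw [← closure_subset_iff_isClosed]
  intro z hz
  rw [← specializes_iff_mem_closure] at hz
  have h1 : x ⤳ z.1 := (subtype_specializes_iff _ _).mp hz
  exact Subtype.ext (h z.1 z.2 h1)

/-- A point which is closed in some open subscheme is a finite type point. -/
theorem locallyOfFiniteType_fromSpecResidueField_of_isClosed {S : Scheme.{u}} (U : S.Opens)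
    (x : U.toScheme) (hc : IsClosed ({x} : Set U.toScheme)) (s : S) (hxs : U.ι x = s) :
    LocallyOfFiniteType (S.fromSpecResidueField s) := by
  subst hxs
  haveI := isClosed_singleton_iff_isClosedImmersion.mp hc
  have hnat := Scheme.Hom.SpecMap_residueFieldMap_fromSpecResidueField U.ι x
  have : S.fromSpecResidueField (U.ι x) =
      Spec.map (inv (U.ι.residueFieldMap x)) ≫ U.toScheme.fromSpecResidueField x ≫ U.ι := by
    rw [← hnat, ← Category.assoc, ← Spec.map_comp, IsIso.hom_inv_id, Spec.map_id, Category.id_comp]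
  rw [this]
  infer_instance

/-- A point which is closed in some open subset is a finite type point. -/
theorem locallyOfFiniteType_of_isClosed_in_opens {S : Scheme.{u}} (U : S.Opens) (s : S) (hs : s ∈ U)
    (hc : IsClosed ({⟨s, hs⟩} : Set ↥U)) : LocallyOfFiniteType (S.fromSpecResidueField s) :=
  locallyOfFiniteType_fromSpecResidueField_of_isClosed U ⟨s, hs⟩ hc s rfl

/-- The image point of a locally finite type morphism from the spectrum of a field is closed in
some affine open. -/
theorem exists_affine_isClosed_of_locallyOfFiniteType {S : Scheme.{u}} (K : CommRingCat.{u})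
    (hK : IsField K) (f : Spec K ⟶ S) [LocallyOfFiniteType f] (x : Spec K) :
    ∃ U : S.Opens, IsAffineOpen U ∧ ∃ hu : f.base x ∈ U,
      IsClosed ({⟨f.base x, hu⟩} : Set ↥U) := by
  classical
  have hbot : ∀ q : PrimeSpectrum K, q.asIdeal = ⊥ := by
    intro q
    rw [eq_bot_iff]
    intro a ha
    rw [Ideal.mem_bot]
    by_contra ha0
    obtain ⟨b, hb⟩ := hK.mul_inv_cancel ha0
    exact q.isPrime.ne_top ((Ideal.eq_top_iff_one _).mpr (hb ▸ q.asIdeal.mul_mem_right b ha))
  have hpt : ∀ q q' : Spec K, q = q' :=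
    fun q q' => PrimeSpectrum.ext ((hbot q).trans (hbot q').symm)
  obtain ⟨U, hU, huU, -⟩ := Opens.isBasis_iff_nbhd.mp S.isBasis_affineOpens
    (show f.base x ∈ (⊤ : S.Opens) from trivial)
  have e : (⊤ : (Spec K).Opens) ≤ f ⁻¹ᵁ U := by
    intro q _
    show f.base q ∈ U
    rw [hpt q x]; exact huU
  have hψ : (f.appLE U ⊤ e).hom.FiniteType :=
    HasRingHomProperty.appLE (P := @LocallyOfFiniteType) f inferInstance ⟨U, hU⟩
      ⟨⊤, isAffineOpen_top _⟩ e
  have hK' : IsField Γ(Spec K, ⊤) :=
    MulEquiv.isField hK (Scheme.ΓSpecIso K).commRingCatIsoToRingEquiv.toMulEquiv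
  obtain ⟨d, hd, hcl⟩ := exists_not_mem_ker_forall_prime_le hK' (f.appLE U ⊤ e).hom hψ
  haveI := hK'.isDomain
  let q : Spec Γ(Spec K, ⊤) := ⟨⊥, Ideal.isPrime_bot⟩
  let pu : Spec Γ(S, U) := Spec.map (f.appLE U ⊤ e) q
  have hpu : pu.asIdeal = RingHom.ker (f.appLE U ⊤ e).hom := by
    show Ideal.comap (f.appLE U ⊤ e).hom (⊥ : Ideal Γ(Spec K, ⊤)) = _
    rfl
  have hnat := IsAffineOpen.SpecMap_appLE_fromSpec f hU (isAffineOpen_top (Spec K)) e
  have hfp : hU.fromSpec pu = f.base x := by
    have h1 : (Spec.map (f.appLE U ⊤ e) ≫ hU.fromSpec) q =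
        ((isAffineOpen_top (Spec K)).fromSpec ≫ f) q := by rw [hnat]
    rw [Scheme.Hom.comp_apply, Scheme.Hom.comp_apply] at h1
    rw [hpt x ((isAffineOpen_top (Spec K)).fromSpec q)]
    exact h1
  have hmem : ∀ p : Spec Γ(S, U), hU.fromSpec p ∈ S.basicOpen d ↔ d ∉ p.asIdeal := by
    intro p
    constructor
    · intro h
      have h' : p ∈ hU.fromSpec ⁻¹ᵁ S.basicOpen d := h
      rw [hU.fromSpec_preimage_basicOpen d] at h'
      exact h'
    · intro h
      have h' : p ∈ hU.fromSpec ⁻¹ᵁ S.basicOpen d := by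
        rw [hU.fromSpec_preimage_basicOpen d]; exact h
      exact h'
  have hdpu : d ∉ pu.asIdeal := by
    rw [hpu, RingHom.mem_ker]; exact hd
  have huV : f.base x ∈ S.basicOpen d := by
    rw [← hfp]; exact (hmem pu).mpr hdpu
  refine ⟨S.basicOpen d, hU.basicOpen d, huV, ?_⟩
  apply isClosed_singleton_subtype (P := fun y => y ∈ S.basicOpen d)
  intro y hy hspec
  have hyU : y ∈ U := S.basicOpen_le d hy
  have hyr : y ∈ Set.range hU.fromSpec := by rw [hU.range_fromSpec]; exact hyU
  obtain ⟨p, rfl⟩ := hyr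
  have hdp : d ∉ p.asIdeal := (hmem p).mp hy
  rw [← hfp] at hspec
  have hsp : pu ⤳ p := hU.fromSpec.isOpenEmbedding.isInducing.specializes_iff.mp hspec
  have hle : pu.asIdeal ≤ p.asIdeal :=
    (PrimeSpectrum.le_iff_specializes (R := ↑Γ(S, U)) pu p).mpr hsp
  have hle' : RingHom.ker (f.appLE U ⊤ e).hom ≤ p.asIdeal := by rw [← hpu]; exact hle
  have hge := hcl p.asIdeal p.isPrime hle' hdp
  have : p = pu := PrimeSpectrum.ext (le_antisymm (by rw [hpu]; exact hge) hle)
  rw [this, hfp]

theorem exists_affine_isClosed_of_locallyOfFiniteType' {S : Scheme.{u}} (K : CommRingCat.{u})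
    (hK : IsField K) (f : Spec K ⟶ S) [LocallyOfFiniteType f] (x : Spec K) (s : S)
    (hs : f.base x = s) :
    ∃ U : S.Opens, IsAffineOpen U ∧ ∃ hu : s ∈ U, IsClosed ({⟨s, hu⟩} : Set ↥U) := by
  subst hs
  exact exists_affine_isClosed_of_locallyOfFiniteType K hK f x

/-- Finite type points are the points closed in some affine open. -/
theorem ftpt_iff {S : Scheme.{u}} (s : S) :
    LocallyOfFiniteType (S.fromSpecResidueField s) ↔
      ∃ U : S.Opens, IsAffineOpen U ∧ ∃ hs : s ∈ U, IsClosed ({⟨s, hs⟩} : Set ↥U) := by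
  constructor
  · intro h
    exact exists_affine_isClosed_of_locallyOfFiniteType' (S.residueField s) (Field.toIsField _)
      (S.fromSpecResidueField s) (IsLocalRing.closedPoint _) s
      (Scheme.fromSpecResidueField_apply s _)
  · rintro ⟨U, -, hs, hc⟩
    exact locallyOfFiniteType_of_isClosed_in_opens U s hs hc

/-- Morphisms locally of finite type preserve finite type points. -/
theorem ftpt_image {T S : Scheme.{u}} (f : T ⟶ S) [LocallyOfFiniteType f] (t : T)
    (ht : LocallyOfFiniteType (T.fromSpecResidueField t)) :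
    LocallyOfFiniteType (S.fromSpecResidueField (f.base t)) := by
  haveI := ht
  obtain ⟨U, -, hs, hc⟩ := exists_affine_isClosed_of_locallyOfFiniteType' (T.residueField t)
    (Field.toIsField _) (T.fromSpecResidueField t ≫ f) (IsLocalRing.closedPoint _) (f.base t)
    (congrArg f.base (Scheme.fromSpecResidueField_apply t _))
  exact locallyOfFiniteType_of_isClosed_in_opens U _ hs hc

/-- Nonempty locally closed subsets contain finite type points. -/
theorem exists_ftpt_of_isLocallyClosed (S : Scheme.{u}) (Z : Set S) (hZ : IsLocallyClosed Z)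
    (hne : Z.Nonempty) :
    (Z ∩ {s : S | LocallyOfFiniteType (S.fromSpecResidueField s)}).Nonempty := by
  obtain ⟨O, C, hO, hC, rfl⟩ := hZ
  obtain ⟨z, hzO, hzC⟩ := hne
  obtain ⟨W, hW, hzW, hWO⟩ := Opens.isBasis_iff_nbhd.mp S.isBasis_affineOpens
    (show z ∈ (⟨O, hO⟩ : S.Opens) from hzO)
  haveI : CompactSpace ↥W := isCompact_iff_compactSpace.mp hW.isCompact
  have hC' : IsClosed (Subtype.val ⁻¹' C : Set ↥W) := hC.preimage continuous_subtype_val
  obtain ⟨x, hxC, hx⟩ := hC'.exists_closed_singleton ⟨⟨z, hzW⟩, hzC⟩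
  refine ⟨x.1, ⟨hWO x.2, hxC⟩, ?_⟩
  exact locallyOfFiniteType_of_isClosed_in_opens W x.1 x.2 hx

theorem subset_closure_ftpt (S : Scheme.{u}) (Z : Set S) (hZ : IsClosed Z) :
    Z ⊆ closure (Z ∩ {s : S | LocallyOfFiniteType (S.fromSpecResidueField s)}) := by
  intro z hz
  rw [mem_closure_iff]
  intro o ho hzo
  obtain ⟨w, ⟨hwZ, hwo⟩, hw⟩ := exists_ftpt_of_isLocallyClosed S (Z ∩ o)
    (hZ.isLocallyClosed.inter ho.isLocallyClosed) ⟨z, hz, hzo⟩
  exact ⟨w, hwo, hwZ, hw⟩

/-- Surjective morphisms locally of finite type hit every finite type point by a finite type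
point. -/
theorem ftpt_exists_preimage {T S : Scheme.{u}} (f : T ⟶ S) [LocallyOfFiniteType f] [Surjective f]
    (s : S) (hs : LocallyOfFiniteType (S.fromSpecResidueField s)) :
    ∃ t : T, LocallyOfFiniteType (T.fromSpecResidueField t) ∧ f.base t = s := by
  haveI := hs
  obtain ⟨t₀, ht₀⟩ := f.surjective s
  let x₀ : Spec (S.residueField s) := IsLocalRing.closedPoint _
  have hx₀ : (S.fromSpecResidueField s).base x₀ = s := Scheme.fromSpecResidueField_apply s x₀
  obtain ⟨z, hz1, hz2⟩ := Scheme.Pullback.exists_preimage_pullback (f := f)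
    (g := S.fromSpecResidueField s) t₀ x₀ (ht₀.trans hx₀.symm)
  obtain ⟨p, -, hp⟩ := exists_ftpt_of_isLocallyClosed
    (Limits.pullback f (S.fromSpecResidueField s)) Set.univ isOpen_univ.isLocallyClosed
    ⟨z, trivial⟩
  refine ⟨(Limits.pullback.fst f (S.fromSpecResidueField s)).base p, ftpt_image _ p hp, ?_⟩
  have hcond := Limits.pullback.condition (f := f) (g := S.fromSpecResidueField s)
  have h1 : (Limits.pullback.fst f (S.fromSpecResidueField s) ≫ f).base p =
      (Limits.pullback.snd f (S.fromSpecResidueField s) ≫ S.fromSpecResidueField s).base p := by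
    rw [hcond]
  exact h1.trans (Scheme.fromSpecResidueField_apply s _)

end Groth.Agent.Lead
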