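import Mathlib
import Groth.Agent.Lib.Lead.Glue

/-!
# Formal glueing of modules, part 2: finiteness (lead)
-/

set_option autoImplicit false
universe u
open TensorProduct

namespace Groth.Agent.Lead.Glue

variable {R R' : Type u} [CommRing R] [CommRing R'] [Algebra R R'] {f : R}

theorem finite_of_finite (hq : EtGlue.QuotPowBijective R R' f) (M : Type u) [AddCommGroup M]
    [Module R M] (h1 : Module.Finite R' (R' ⊗[R] M))
    (h2 : Module.Finite (Localization.Away f) (LocalizedModule (Submonoid.powers f) M)) :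
    Module.Finite R M := by
  classical
  obtain ⟨s', hs'⟩ := h1.fg_top
  obtain ⟨N₁, hN₁fin, hN₁⟩ := TensorProduct.exists_finite_submodule_right_of_setFinite
    (↑s' : Set (R' ⊗[R] M)) s'.finite_toSet
  obtain ⟨s₂, hs₂⟩ := h2.fg_top
  have hch : ∀ y : LocalizedModule (Submonoid.powers f) M, ∃ (k : ℕ) (m : M),
      f ^ k • y = LocalizedModule.mkLinearMap (Submonoid.powers f) M m :=
    fun y => IsLocalizedModule.Away.surj _ f y
  choose kf mf hkm using hch
  obtain ⟨N₂, hN₂⟩ : ∃ N₂ : Submodule R M, N₂ = Submodule.span R (↑(s₂.image mf) : Set M) :=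
    ⟨_, rfl⟩
  have hN₂fg : N₂.FG := ⟨s₂.image mf, hN₂.symm⟩
  have hNfg : (N₁ ⊔ N₂).FG := (Module.Finite.iff_fg.1 hN₁fin).sup hN₂fg
  suffices hNtop : N₁ ⊔ N₂ = ⊤ by
    rw [hNtop] at hNfg
    exact ⟨hNfg⟩
  rw [← Submodule.Quotient.subsingleton_iff]
  have hbc : ∀ x' : R' ⊗[R] M, x' ∈ LinearMap.range ((N₁ ⊔ N₂).subtype.baseChange R') := by
    intro x'
    have hle : Submodule.span R' (↑s' : Set (R' ⊗[R] M)) ≤
        LinearMap.range ((N₁ ⊔ N₂).subtype.baseChange R') := by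
      rw [Submodule.span_le]
      intro x hx
      obtain ⟨z, hz⟩ := hN₁ hx
      have hle1 : N₁ ≤ N₁ ⊔ N₂ := le_sup_left
      refine ⟨LinearMap.lTensor R' (Submodule.inclusion hle1) z, ?_⟩
      rw [LinearMap.baseChange_eq_ltensor, ← LinearMap.comp_apply, ← LinearMap.lTensor_comp,
        Submodule.subtype_comp_inclusion]
      exact hz
    exact hle (hs' ▸ Submodule.mem_top)
  have hi : ∀ p : M ⧸ (N₁ ⊔ N₂), (1 : R') ⊗ₜ[R] p = 0 := by
    intro p
    obtain ⟨m, rfl⟩ := (N₁ ⊔ N₂).mkQ_surjective p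
    obtain ⟨z, hz⟩ := hbc ((1 : R') ⊗ₜ[R] m)
    have h3 : LinearMap.lTensor R' (N₁ ⊔ N₂).mkQ ((1 : R') ⊗ₜ[R] m) = 0 := by
      rw [← hz, LinearMap.baseChange_eq_ltensor, ← LinearMap.comp_apply, ← LinearMap.lTensor_comp]
      have : (N₁ ⊔ N₂).mkQ ∘ₗ (N₁ ⊔ N₂).subtype = 0 := by
        ext x
        simp
      rw [this, LinearMap.lTensor_zero, LinearMap.zero_apply]
    rwa [LinearMap.lTensor_tmul] at h3
  have hloc : ∀ y : LocalizedModule (Submonoid.powers f) M, ∃ (k : ℕ) (n : M), n ∈ N₂ ∧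
      f ^ k • y = LocalizedModule.mkLinearMap (Submonoid.powers f) M n := by
    intro y
    have hy : y ∈ Submodule.span (Localization.Away f) (↑s₂ : Set _) := hs₂ ▸ Submodule.mem_top
    refine Submodule.span_induction (p := fun y _ => ∃ (k : ℕ) (n : M), n ∈ N₂ ∧
      f ^ k • y = LocalizedModule.mkLinearMap (Submonoid.powers f) M n) ?_ ?_ ?_ ?_ hy
    · intro y hy
      refine ⟨kf y, mf y, ?_, hkm y⟩
      rw [hN₂]
      exact Submodule.subset_span (Finset.mem_coe.2 (Finset.mem_image_of_mem mf hy))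
    · exact ⟨0, 0, N₂.zero_mem, by simp⟩
    · rintro y₁ y₂ _ _ ⟨k₁, n₁, hn₁, e₁⟩ ⟨k₂, n₂, hn₂, e₂⟩
      refine ⟨k₁ + k₂, f ^ k₂ • n₁ + f ^ k₁ • n₂,
        N₂.add_mem (N₂.smul_mem _ hn₁) (N₂.smul_mem _ hn₂), ?_⟩
      have : LocalizedModule.mkLinearMap (Submonoid.powers f) M (f ^ k₂ • n₁ + f ^ k₁ • n₂) =
          f ^ k₂ • (f ^ k₁ • y₁) + f ^ k₁ • (f ^ k₂ • y₂) := by
        rw [map_add, map_smul, map_smul, e₁, e₂]
      rw [this, smul_add, smul_smul, smul_smul, ← pow_add, ← pow_add, add_comm k₂ k₁]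
    · rintro a y _ ⟨k, n, hn, e⟩
      obtain ⟨j, r, hr⟩ := IsLocalization.Away.surj f a
      refine ⟨j + k, r • n, N₂.smul_mem _ hn, ?_⟩
      rw [map_smul, ← e]
      have h5 : f ^ j • (a • y) = r • y := by
        rw [← algebraMap_smul (Localization.Away f) (f ^ j) (a • y), smul_smul, map_pow, mul_comm,
          hr, algebraMap_smul]
      rw [pow_add, mul_comm, mul_smul, h5, smul_comm]
  have htors : ∀ p : M ⧸ (N₁ ⊔ N₂), ∃ k, f ^ k • p = 0 := by
    intro p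
    obtain ⟨m, rfl⟩ := (N₁ ⊔ N₂).mkQ_surjective p
    obtain ⟨k, n, hn, e⟩ := hloc (LocalizedModule.mkLinearMap (Submonoid.powers f) M m)
    have h6 : LocalizedModule.mkLinearMap (Submonoid.powers f) M (f ^ k • m - n) = 0 := by
      rw [map_sub, map_smul, e, sub_self]
    obtain ⟨j, hj⟩ := (loc_eq_zero_iff _).1 h6
    refine ⟨j + k, ?_⟩
    rw [← map_smul, Submodule.mkQ_apply, Submodule.Quotient.mk_eq_zero]
    have h7 : f ^ (j + k) • m = f ^ j • n := by
      rw [smul_sub, sub_eq_zero] at hj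
      rw [pow_add, mul_smul, hj]
    rw [h7]
    exact (N₁ ⊔ N₂).smul_mem _ ((le_sup_right : N₂ ≤ N₁ ⊔ N₂) hn)
  exact ⟨fun p q => by
    rw [eq_zero_of_tmul_eq_zero hq htors p (hi p), eq_zero_of_tmul_eq_zero hq htors q (hi q)]⟩

end Groth.Agent.Lead.Glue
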