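import Mathlib
import Groth.Agent.Lib.Lead.Glue

/-!
# Formal glueing of modules, part 3: Beauville–Laszlo existence (lead)
-/

set_option autoImplicit false
universe u
open TensorProduct

namespace Groth.Agent.Lead.Glue

/-- localization map of an `R'`-module at the powers of the image of `f` -/
noncomputable abbrev locR' (R R' : Type u) [CommRing R] [CommRing R'] [Algebra R R'] (f : R)
    (M' : Type u) [AddCommGroup M'] [Module R' M'] :
    M' →ₗ[R'] LocalizedModule (Submonoid.powers (algebraMap R R' f)) M' :=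
  LocalizedModule.mkLinearMap (Submonoid.powers (algebraMap R R' f)) M'

set_option maxHeartbeats 800000 in
theorem beauville_laszlo (R R' : Type u) [CommRing R] [CommRing R'] [Algebra R R'] (f : R)
    (hRR : EtGlue.IsGlueingPair R R' f) (M' : Type u) [AddCommGroup M'] [Module R' M']
    (M₁ : Type u) [AddCommGroup M₁] [Module R M₁]
    (hf : Function.Bijective fun x : M₁ => f • x)
    (α : LocalizedModule (Submonoid.powers (algebraMap R R' f)) M' ≃ₗ[R'] R' ⊗[R] M₁) :
    ∃ (M : Type u) (_ : AddCommGroup M) (_ : Module R M) (_ : EtGlue.IsGlueable R R' f M)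
      (e' : R' ⊗[R] M ≃ₗ[R'] M') (e₁ : LocalizedModule (Submonoid.powers f) M ≃ₗ[R] M₁),
      ∀ m : M, α (LocalizedModule.mkLinearMap (Submonoid.powers (algebraMap R R' f)) M'
          (e' ((1 : R') ⊗ₜ[R] m))) =
        (1 : R') ⊗ₜ[R] e₁ (LocalizedModule.mkLinearMap (Submonoid.powers f) M m) := by
  classical
  have hq := hRR.1
  letI : Module R M' := Module.compHom M' (algebraMap R R')
  haveI : IsScalarTower R R' M' := IsScalarTower.of_algebraMap_smul fun r x => rfl
  have hA1 : ∀ (n : ℕ) (y : M₁), (algebraMap R R' f) ^ n • ((1 : R') ⊗ₜ[R] y) =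
      (1 : R') ⊗ₜ[R] (f ^ n • y) := by
    intro n y
    rw [TensorProduct.smul_tmul', smul_eq_mul, mul_one, ← map_pow,
      Algebra.algebraMap_eq_smul_one, TensorProduct.smul_tmul]
  have hM₁ : ∀ (n : ℕ) (y : M₁), f ^ n • y = 0 → y = 0 := by
    intro n
    induction n with
    | zero =>
      intro y hy
      simpa using hy
    | succ n ih =>
      intro y hy
      apply ih
      apply hf.1
      show f • (f ^ n • y) = f • 0
      rw [smul_zero, ← mul_smul, ← pow_succ']
      exact hy
  let A : M' →ₗ[R] R' ⊗[R] M₁ := (α.toLinearMap ∘ₗ locR' R R' f M').restrictScalars R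
  have hA : ∀ x', A x' = α (locR' R R' f M' x') := fun x' => rfl
  let D : (M' × M₁) →ₗ[R] R' ⊗[R] M₁ :=
    A ∘ₗ (LinearMap.fst R M' M₁) - (TensorProduct.mk R R' M₁ 1) ∘ₗ (LinearMap.snd R M' M₁)
  have hD : ∀ p : M' × M₁, p ∈ LinearMap.ker D ↔
      α (locR' R R' f M' p.1) = (1 : R') ⊗ₜ[R] p.2 := by
    intro p
    rw [LinearMap.mem_ker]
    show A p.1 - (1 : R') ⊗ₜ[R] p.2 = 0 ↔ _
    rw [sub_eq_zero, hA]
  let pr₁ : LinearMap.ker D →ₗ[R] M' := (LinearMap.fst R M' M₁) ∘ₗ (LinearMap.ker D).subtype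
  let pr₂ : LinearMap.ker D →ₗ[R] M₁ := (LinearMap.snd R M' M₁) ∘ₗ (LinearMap.ker D).subtype
  have hmem : ∀ m : LinearMap.ker D,
      α (locR' R R' f M' (pr₁ m)) = (1 : R') ⊗ₜ[R] (pr₂ m) := fun m => (hD m.1).1 m.2
  have hsmulM' : ∀ (r : R) (x : M'), r • x = algebraMap R R' r • x := fun r x => rfl
  have hsurj₂ : ∀ y : M₁, ∃ (n : ℕ) (m : LinearMap.ker D), f ^ n • y = pr₂ m := by
    intro y
    obtain ⟨n, x, hx⟩ := IsLocalizedModule.Away.surj (locR' R R' f M') (algebraMap R R' f)
      (α.symm ((1 : R') ⊗ₜ[R] y))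
    have hxm : (x, f ^ n • y) ∈ LinearMap.ker D := by
      rw [hD]
      show α (locR' R R' f M' x) = (1 : R') ⊗ₜ[R] (f ^ n • y)
      rw [← hx, map_smul, α.apply_symm_apply, hA1]
    exact ⟨n, ⟨(x, f ^ n • y), hxm⟩, rfl⟩
  have hker₂ : ∀ m : LinearMap.ker D, pr₂ m = 0 → ∃ n : ℕ, f ^ n • m = 0 := by
    intro m hm
    have h1 : locR' R R' f M' (pr₁ m) = 0 := by
      apply α.injective
      rw [hmem m, hm, TensorProduct.tmul_zero, map_zero]
    obtain ⟨n, hn⟩ := (loc_eq_zero_iff (f := algebraMap R R' f) (pr₁ m)).1 h1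
    refine ⟨n, Subtype.ext (Prod.ext ?_ ?_)⟩
    · show f ^ n • (m.1).1 = 0
      rw [hsmulM', map_pow]
      exact hn
    · show f ^ n • (m.1).2 = 0
      have : (m.1).2 = 0 := hm
      rw [this, smul_zero]
  haveI hloc : IsLocalizedModule.Away f pr₂ := by
    refine IsLocalizedModule.Away.mk_of_addCommGroup ?_ hsurj₂ hker₂
    rw [Module.End.isUnit_iff]
    have : ⇑(algebraMap R (Module.End R M₁) f) = fun x : M₁ => f • x := by
      ext x
      simp
    rw [this]
    exact hf
  let G : R' ⊗[R] (LinearMap.ker D) →ₗ[R'] M' := pr₁.liftBaseChange R'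
  have hG : ∀ (r' : R') (m : LinearMap.ker D), G (r' ⊗ₜ[R] m) = r' • pr₁ m := fun r' m => rfl
  have hαG : ∀ ξ : R' ⊗[R] (LinearMap.ker D),
      α (locR' R R' f M' (G ξ)) = LinearMap.lTensor R' pr₂ ξ := by
    intro ξ
    induction ξ using TensorProduct.induction_on with
    | zero => simp
    | tmul r' m =>
      rw [hG, map_smul, map_smul, hmem, LinearMap.lTensor_tmul, TensorProduct.smul_tmul',
        smul_eq_mul, mul_one]
    | add a b ha hb => rw [map_add, map_add, map_add, map_add, ha, hb]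
  have hclaim : ∀ ξ : R' ⊗[R] M₁, ∃ (y : M₁) (z' : M'), z' ∈ LinearMap.range G ∧
      ξ = (1 : R') ⊗ₜ[R] y + α (locR' R R' f M' z') := by
    intro ξ
    induction ξ using TensorProduct.induction_on with
    | zero => exact ⟨0, 0, Submodule.zero_mem _, by simp⟩
    | tmul r' y₀ =>
      obtain ⟨n, m₀, hm₀⟩ := hsurj₂ y₀
      obtain ⟨r, s', e⟩ := Qs hq n r'
      refine ⟨r • y₀, s' • pr₁ m₀, ⟨s' ⊗ₜ[R] m₀, hG s' m₀⟩, ?_⟩
      have h2 : α (locR' R R' f M' (s' • pr₁ m₀)) =
          ((algebraMap R R' f) ^ n * s') ⊗ₜ[R] y₀ := by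
        rw [map_smul, map_smul, hmem, ← hm₀, ← hA1, smul_smul, TensorProduct.smul_tmul',
          smul_eq_mul, mul_one, mul_comm]
      rw [h2, e, TensorProduct.add_tmul, Algebra.algebraMap_eq_smul_one r,
        TensorProduct.smul_tmul]
    | add a b ha hb =>
      obtain ⟨y₁, z₁, hz₁, rfl⟩ := ha
      obtain ⟨y₂, z₂, hz₂, rfl⟩ := hb
      exact ⟨y₁ + y₂, z₁ + z₂, Submodule.add_mem _ hz₁ hz₂, by
        rw [TensorProduct.tmul_add, map_add, map_add]
        abel⟩
  have hGsurj : Function.Surjective G := by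
    intro x'
    obtain ⟨y, z', hz', hξ⟩ := hclaim (α (locR' R R' f M' x'))
    have hxm : (x' - z', y) ∈ LinearMap.ker D := by
      rw [hD]
      show α (locR' R R' f M' (x' - z')) = (1 : R') ⊗ₜ[R] y
      rw [map_sub, map_sub, hξ]
      abel
    obtain ⟨w, hw⟩ := hz'
    refine ⟨(1 : R') ⊗ₜ[R] (⟨(x' - z', y), hxm⟩ : LinearMap.ker D) + w, ?_⟩
    rw [map_add, hG, one_smul, hw]
    show (x' - z') + z' = x'
    abel
  have hGinj : Function.Injective G := by
    rw [injective_iff_map_eq_zero]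
    intro ξ hξ
    have h1 : LinearMap.lTensor R' pr₂ ξ = 0 := by rw [← hαG, hξ, map_zero, map_zero]
    have h2 : ∃ n : ℕ, f ^ n • ξ = 0 := by
      have hcomp : (IsLocalizedModule.iso (Submonoid.powers f) pr₂).symm.toLinearMap ∘ₗ pr₂ =
          LocalizedModule.mkLinearMap (Submonoid.powers f) (LinearMap.ker D) :=
        IsLocalizedModule.iso_symm_comp _ _
      have h3 : LinearMap.lTensor R'
          (LocalizedModule.mkLinearMap (Submonoid.powers f) (LinearMap.ker D)) ξ = 0 := by
        rw [← hcomp, LinearMap.lTensor_comp, LinearMap.comp_apply, h1, map_zero]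
      have hgen : ∀ ζ : R' ⊗[R] (LinearMap.ker D),
          TensorProduct.AlgebraTensorModule.rTensor R R'
            (LocalizedModule.mkLinearMap (Submonoid.powers f) (LinearMap.ker D))
            (TensorProduct.comm R R' _ ζ) =
          TensorProduct.comm R R' _ (LinearMap.lTensor R'
            (LocalizedModule.mkLinearMap (Submonoid.powers f) (LinearMap.ker D)) ζ) := by
        intro ζ
        induction ζ using TensorProduct.induction_on with
        | zero => simp
        | tmul a b => simp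
        | add a b ha hb => simp only [map_add, ha, hb]
      have h4 : TensorProduct.AlgebraTensorModule.rTensor R R'
          (LocalizedModule.mkLinearMap (Submonoid.powers f) (LinearMap.ker D))
          (TensorProduct.comm R R' _ ξ) = 0 := by
        rw [hgen, h3, map_zero]
      obtain ⟨⟨_, n, rfl⟩, hn⟩ := (IsLocalizedModule.eq_zero_iff (Submonoid.powers f)
        (TensorProduct.AlgebraTensorModule.rTensor R R'
          (LocalizedModule.mkLinearMap (Submonoid.powers f) (LinearMap.ker D)))).1 h4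
      refine ⟨n, ?_⟩
      apply (TensorProduct.comm R R' _).injective
      rw [map_smul, map_zero]
      exact hn
    obtain ⟨t, ⟨n, hn⟩, ht⟩ := exists_torsion_tmul_eq hRR _ ξ h2
    have ht1 : pr₁ t = 0 := by
      have := hG 1 t
      rw [ht, hξ, one_smul] at this
      exact this.symm
    have ht2 : pr₂ t = 0 := by
      apply hM₁ n
      rw [← map_smul, hn, map_zero]
    have : t = 0 := Subtype.ext (Prod.ext ht1 ht2)
    rw [← ht, this, TensorProduct.tmul_zero]
  have hglue : EtGlue.IsGlueable R R' f (LinearMap.ker D) := by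
    rw [isGlueable_iff hq]
    refine ⟨fun t htn ht => ?_, fun x hx => exists_torsion_tmul_eq hRR _ x hx⟩
    obtain ⟨n, hn⟩ := htn
    have ht1 : pr₁ t = 0 := by
      have := hG 1 t
      rw [ht, map_zero, one_smul] at this
      exact this.symm
    have ht2 : pr₂ t = 0 := by
      apply hM₁ n
      rw [← map_smul, hn, map_zero]
    exact Subtype.ext (Prod.ext ht1 ht2)
  refine ⟨LinearMap.ker D, inferInstance, inferInstance, hglue,
    LinearEquiv.ofBijective G ⟨hGinj, hGsurj⟩, IsLocalizedModule.iso (Submonoid.powers f) pr₂, ?_⟩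
  intro m
  have h1 : (LinearEquiv.ofBijective G ⟨hGinj, hGsurj⟩) ((1 : R') ⊗ₜ[R] m) = pr₁ m := by
    rw [LinearEquiv.ofBijective_apply, hG, one_smul]
  have h2 : IsLocalizedModule.iso (Submonoid.powers f) pr₂
      (LocalizedModule.mkLinearMap (Submonoid.powers f) _ m) = pr₂ m := by
    rw [LocalizedModule.mkLinearMap_apply]
    exact IsLocalizedModule.iso_mk_one _ _ m
  rw [h1, h2]
  exact hmem m

end Groth.Agent.Lead.Glue
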