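import Mathlib
import Groth.Agent.Lib.Lead.Glue

/-!
# Formal glueing, abstract form of the Beauville–Laszlo construction (lead)

`bl_abstract`: given an `R'`-module `M'`, an `R`-module `M₁` on which `f` is bijective, an
`R'`-linear map `A' : M' → R' ⊗ M₁` which is a localization at the powers of `f`, and an `R`-module
`M` that is the fibre product of `M'` and `M₁` over `R' ⊗ M₁`, then `M` is glueable,
`M → M₁` is the localization at `f` and `R' ⊗ M → M'` is bijective.
-/

set_option autoImplicit false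
universe u
open TensorProduct

namespace Groth.Agent.Lead.Glue

set_option maxHeartbeats 800000 in
theorem bl_abstract {R R' : Type u} [CommRing R] [CommRing R'] [Algebra R R'] {f : R}
    (hRR : EtGlue.IsGlueingPair R R' f)
    {M' : Type u} [AddCommGroup M'] [Module R M'] [Module R' M'] [IsScalarTower R R' M']
    {M₁ : Type u} [AddCommGroup M₁] [Module R M₁]
    (hf : Function.Bijective fun x : M₁ => f • x)
    (A' : M' →ₗ[R'] R' ⊗[R] M₁)
    (hs : ∀ ξ : R' ⊗[R] M₁, ∃ (n : ℕ) (x : M'), A' x = (algebraMap R R' f) ^ n • ξ)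
    (hk : ∀ x : M', A' x = 0 → ∃ n : ℕ, (algebraMap R R' f) ^ n • x = 0)
    {M : Type u} [AddCommGroup M] [Module R M] (pr₁ : M →ₗ[R] M') (pr₂ : M →ₗ[R] M₁)
    (hmem : ∀ m : M, A' (pr₁ m) = (1 : R') ⊗ₜ[R] pr₂ m)
    (hex : ∀ (x : M') (y : M₁), A' x = (1 : R') ⊗ₜ[R] y → ∃ m : M, pr₁ m = x ∧ pr₂ m = y)
    (hinj : ∀ m : M, pr₁ m = 0 → pr₂ m = 0 → m = 0) :
    EtGlue.IsGlueable R R' f M ∧ IsLocalizedModule.Away f pr₂ ∧
      Function.Bijective (pr₁.liftBaseChange R') := by
  classical
  have hq := hRR.1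
  have hA1 : ∀ (n : ℕ) (y : M₁), (algebraMap R R' f) ^ n • ((1 : R') ⊗ₜ[R] y) =
      (1 : R') ⊗ₜ[R] (f ^ n • y) := by
    intro n y
    rw [TensorProduct.smul_tmul', smul_eq_mul, mul_one, ← map_pow,
      Algebra.algebraMap_eq_smul_one, TensorProduct.smul_tmul]
  have hM₁ : ∀ (n : ℕ) (y : M₁), f ^ n • y = 0 → y = 0 := by
    intro n
    induction n with
    | zero =>
      intro y hy
      simpa using hy
    | succ n ih =>
      intro y hy
      apply ih
      apply hf.1
      show f • (f ^ n • y) = f • 0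
      rw [smul_zero, ← mul_smul, ← pow_succ']
      exact hy
  have hsmulM' : ∀ (r : R) (x : M'), r • x = algebraMap R R' r • x :=
    fun r x => (algebraMap_smul R' r x).symm
  have hsurj₂ : ∀ y : M₁, ∃ (n : ℕ) (m : M), f ^ n • y = pr₂ m := by
    intro y
    obtain ⟨n, x, hx⟩ := hs ((1 : R') ⊗ₜ[R] y)
    rw [hA1] at hx
    obtain ⟨m, -, hm⟩ := hex x _ hx
    exact ⟨n, m, hm.symm⟩
  have hker₂ : ∀ m : M, pr₂ m = 0 → ∃ n : ℕ, f ^ n • m = 0 := by
    intro m hm
    have h1 : A' (pr₁ m) = 0 := by rw [hmem m, hm, TensorProduct.tmul_zero]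
    obtain ⟨n, hn⟩ := hk _ h1
    refine ⟨n, hinj _ ?_ ?_⟩
    · rw [map_smul, hsmulM', map_pow]
      exact hn
    · rw [map_smul, hm, smul_zero]
  haveI hloc : IsLocalizedModule.Away f pr₂ := by
    refine IsLocalizedModule.Away.mk_of_addCommGroup ?_ hsurj₂ hker₂
    rw [Module.End.isUnit_iff]
    have : ⇑(algebraMap R (Module.End R M₁) f) = fun x : M₁ => f • x := by
      ext x
      simp
    rw [this]
    exact hf
  let G : R' ⊗[R] M →ₗ[R'] M' := pr₁.liftBaseChange R'
  have hG : ∀ (r' : R') (m : M), G (r' ⊗ₜ[R] m) = r' • pr₁ m := fun r' m => rfl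
  have hαG : ∀ ξ : R' ⊗[R] M, A' (G ξ) = LinearMap.lTensor R' pr₂ ξ := by
    intro ξ
    induction ξ using TensorProduct.induction_on with
    | zero => simp
    | tmul r' m =>
      rw [hG, map_smul, hmem, LinearMap.lTensor_tmul, TensorProduct.smul_tmul',
        smul_eq_mul, mul_one]
    | add a b ha hb => rw [map_add, map_add, map_add, ha, hb]
  have hclaim : ∀ ξ : R' ⊗[R] M₁, ∃ (y : M₁) (z' : M'), z' ∈ LinearMap.range G ∧
      ξ = (1 : R') ⊗ₜ[R] y + A' z' := by
    intro ξ
    induction ξ using TensorProduct.induction_on with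
    | zero => exact ⟨0, 0, Submodule.zero_mem _, by simp⟩
    | tmul r' y₀ =>
      obtain ⟨n, m₀, hm₀⟩ := hsurj₂ y₀
      obtain ⟨r, s', e⟩ := Qs hq n r'
      refine ⟨r • y₀, s' • pr₁ m₀, ⟨s' ⊗ₜ[R] m₀, hG s' m₀⟩, ?_⟩
      have h2 : A' (s' • pr₁ m₀) = ((algebraMap R R' f) ^ n * s') ⊗ₜ[R] y₀ := by
        rw [map_smul, hmem, ← hm₀, ← hA1, smul_smul, TensorProduct.smul_tmul',
          smul_eq_mul, mul_one, mul_comm]
      rw [h2, e, TensorProduct.add_tmul, Algebra.algebraMap_eq_smul_one r,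
        TensorProduct.smul_tmul]
    | add a b ha hb =>
      obtain ⟨y₁, z₁, hz₁, rfl⟩ := ha
      obtain ⟨y₂, z₂, hz₂, rfl⟩ := hb
      exact ⟨y₁ + y₂, z₁ + z₂, Submodule.add_mem _ hz₁ hz₂, by
        rw [TensorProduct.tmul_add, map_add]
        abel⟩
  have hGsurj : Function.Surjective G := by
    intro x'
    obtain ⟨y, z', hz', hξ⟩ := hclaim (A' x')
    have hxm : A' (x' - z') = (1 : R') ⊗ₜ[R] y := by
      rw [map_sub, hξ]
      abel
    obtain ⟨m, hm1, hm2⟩ := hex _ _ hxm
    obtain ⟨w, hw⟩ := hz'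
    refine ⟨(1 : R') ⊗ₜ[R] m + w, ?_⟩
    rw [map_add, hG, one_smul, hw, hm1]
    abel
  have hGinj : Function.Injective G := by
    rw [injective_iff_map_eq_zero]
    intro ξ hξ
    have h1 : LinearMap.lTensor R' pr₂ ξ = 0 := by rw [← hαG, hξ, map_zero]
    have h2 : ∃ n : ℕ, f ^ n • ξ = 0 := by
      have hcomp : (IsLocalizedModule.iso (Submonoid.powers f) pr₂).symm.toLinearMap ∘ₗ pr₂ =
          LocalizedModule.mkLinearMap (Submonoid.powers f) M :=
        IsLocalizedModule.iso_symm_comp _ _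
      have h3 : LinearMap.lTensor R'
          (LocalizedModule.mkLinearMap (Submonoid.powers f) M) ξ = 0 := by
        rw [← hcomp, LinearMap.lTensor_comp, LinearMap.comp_apply, h1, map_zero]
      have hgen : ∀ ζ : R' ⊗[R] M,
          TensorProduct.AlgebraTensorModule.rTensor R R'
            (LocalizedModule.mkLinearMap (Submonoid.powers f) M)
            (TensorProduct.comm R R' _ ζ) =
          TensorProduct.comm R R' _ (LinearMap.lTensor R'
            (LocalizedModule.mkLinearMap (Submonoid.powers f) M) ζ) := by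
        intro ζ
        induction ζ using TensorProduct.induction_on with
        | zero => simp
        | tmul a b => simp
        | add a b ha hb => simp only [map_add, ha, hb]
      have h4 : TensorProduct.AlgebraTensorModule.rTensor R R'
          (LocalizedModule.mkLinearMap (Submonoid.powers f) M)
          (TensorProduct.comm R R' _ ξ) = 0 := by
        rw [hgen, h3, map_zero]
      obtain ⟨⟨_, n, rfl⟩, hn⟩ := (IsLocalizedModule.eq_zero_iff (Submonoid.powers f)
        (TensorProduct.AlgebraTensorModule.rTensor R R'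
          (LocalizedModule.mkLinearMap (Submonoid.powers f) M))).1 h4
      refine ⟨n, ?_⟩
      apply (TensorProduct.comm R R' _).injective
      rw [map_smul, map_zero]
      exact hn
    obtain ⟨t, ⟨n, hn⟩, ht⟩ := exists_torsion_tmul_eq hRR _ ξ h2
    have ht1 : pr₁ t = 0 := by
      have := hG 1 t
      rw [ht, hξ, one_smul] at this
      exact this.symm
    have ht2 : pr₂ t = 0 := by
      apply hM₁ n
      rw [← map_smul, hn, map_zero]
    have : t = 0 := hinj t ht1 ht2
    rw [← ht, this, TensorProduct.tmul_zero]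
  have hglue : EtGlue.IsGlueable R R' f M := by
    rw [isGlueable_iff hq]
    refine ⟨fun t htn ht => ?_, fun x hx => exists_torsion_tmul_eq hRR _ x hx⟩
    obtain ⟨n, hn⟩ := htn
    have ht1 : pr₁ t = 0 := by
      have := hG 1 t
      rw [ht, map_zero, one_smul] at this
      exact this.symm
    have ht2 : pr₂ t = 0 := by
      apply hM₁ n
      rw [← map_smul, hn, map_zero]
    exact hinj t ht1 ht2
  exact ⟨hglue, hloc, hGinj, hGsurj⟩

end Groth.Agent.Lead.Glue
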