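import Mathlib

/-!
# Roots of monic polynomials from idempotents of `R[X]/(f)` over a local ring

* `root_of_idempotent`: an idempotent `e` of `R[X]/(f)` lying over the factor `X - a₀` gives a root of `f`
  congruent to `a₀`.
* `exists_idempotent_of_pi`: idempotents lift modulo `I B` when `B` is a finite product of local rings.
-/

set_option autoImplicit false

namespace Groth.Agent.Lib.Lead.HenselIdem

open Polynomial IsLocalRing

universe u

lemma mk_mem_smul_top {R : Type u} [CommRing R] [IsLocalRing R] (f q : R[X])
    (hq : q.map (residue R) = 0) :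
    AdjoinRoot.mk f q ∈ (maximalIdeal R) • (⊤ : Submodule R (AdjoinRoot f)) := by
  have hsum : AdjoinRoot.mk f q
      = ∑ i ∈ Finset.range (q.natDegree + 1), AdjoinRoot.mk f (monomial i (q.coeff i)) := by
    conv_lhs => rw [q.as_sum_range]
    rw [map_sum]
  rw [hsum]
  refine Submodule.sum_mem _ fun i _ => ?_
  have hc : q.coeff i ∈ maximalIdeal R := by
    have h1 := congrArg (fun p => p.coeff i) hq
    simp only [coeff_map, coeff_zero] at h1
    exact (residue_eq_zero_iff _).mp h1
  have h2 : AdjoinRoot.mk f (monomial i (q.coeff i))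
      = (q.coeff i) • (AdjoinRoot.root f) ^ i := by
    rw [← C_mul_X_pow_eq_monomial, map_mul, map_pow, AdjoinRoot.mk_C, AdjoinRoot.mk_X,
      Algebra.smul_def, AdjoinRoot.algebraMap_eq]
  rw [h2]
  exact Submodule.smul_mem_smul hc Submodule.mem_top

lemma smul_top_mul {R : Type u} [CommRing R] {B : Type u} [CommRing B] [Algebra R B]
    (I : Ideal R) {x : B} (hx : x ∈ I • (⊤ : Submodule R B)) (b : B) :
    x * b ∈ I • (⊤ : Submodule R B) := by
  refine Submodule.smul_induction_on hx (fun r hr n _ => ?_) (fun x y hx hy => ?_)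
  · rw [smul_mul_assoc]
    exact Submodule.smul_mem_smul hr Submodule.mem_top
  · rw [add_mul]
    exact Submodule.add_mem _ hx hy

lemma lift_smul_top_eq_zero {R : Type u} [CommRing R] [IsLocalRing R] (f : R[X])
    (α : ResidueField R) (hα : f.eval₂ (residue R) α = 0) {x : AdjoinRoot f}
    (hx : x ∈ maximalIdeal R • (⊤ : Submodule R (AdjoinRoot f))) :
    AdjoinRoot.lift (residue R) α hα x = 0 := by
  refine Submodule.smul_induction_on hx (fun r hr n _ => ?_) (fun x y hx hy => ?_)
  · rw [Algebra.smul_def, map_mul, AdjoinRoot.algebraMap_eq, AdjoinRoot.lift_of,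
      (residue_eq_zero_iff _).mpr hr, zero_mul]
  · rw [map_add, hx, hy, add_zero]

/-- An idempotent of `R[X]/(f)` over the factor `X - a₀` yields a root of `f` congruent to `a₀`. -/
theorem root_of_idempotent {R : Type u} [CommRing R] [IsLocalRing R] (f : R[X]) (hf : f.Monic)
    (a₀ : R) (hφ0 : f.eval₂ (residue R) (residue R a₀) = 0)
    (e : AdjoinRoot f) (he : e * e = e)
    (hD : e * AdjoinRoot.mk f (X - C a₀) ∈ maximalIdeal R • (⊤ : Submodule R (AdjoinRoot f)))
    (hφe : AdjoinRoot.lift (residue R) (residue R a₀) hφ0 e = 1) :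
    ∃ a : R, f.IsRoot a ∧ a - a₀ ∈ maximalIdeal R := by
  classical
  haveI : Module.Finite R (AdjoinRoot f) := hf.finite_adjoinRoot
  have hJac : maximalIdeal R ≤ Ideal.jacobson ⊥ :=
    (jacobson_eq_maximalIdeal ⊥ bot_ne_top).ge
  have hemul : ∀ x ∈ (maximalIdeal R) • (⊤ : Submodule R (AdjoinRoot f)),
      e * x ∈ (maximalIdeal R) • LinearMap.range (LinearMap.mulLeft R e) := by
    intro x hx
    refine Submodule.smul_induction_on hx (fun r hr n _ => ?_) (fun x y hx hy => ?_)
    · rw [mul_smul_comm]
      exact Submodule.smul_mem_smul hr ⟨n, rfl⟩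
    · rw [mul_add]
      exact Submodule.add_mem _ hx hy
  have hNfg : (LinearMap.range (LinearMap.mulLeft R e)).FG := by
    rw [LinearMap.range_eq_map]
    exact Module.Finite.fg_top.map _
  have hNle : LinearMap.range (LinearMap.mulLeft R e) ≤ Submodule.span R {e} := by
    apply Submodule.le_of_le_smul_of_le_jacobson_bot hNfg hJac
    rintro _ ⟨b, rfl⟩
    rw [LinearMap.mulLeft_apply]
    obtain ⟨p, rfl⟩ := AdjoinRoot.mk_surjective b
    have hp := modByMonic_add_div p (X - C a₀)
    rw [modByMonic_X_sub_C_eq_C_eval] at hp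
    have h8 : e * AdjoinRoot.mk f p = (p.eval a₀) • e
        + e * (e * AdjoinRoot.mk f (X - C a₀) * AdjoinRoot.mk f (p /ₘ (X - C a₀))) := by
      conv_lhs => rw [← hp]
      rw [map_add, map_mul, AdjoinRoot.mk_C, Algebra.smul_def, AdjoinRoot.algebraMap_eq]
      linear_combination (-(AdjoinRoot.mk f (X - C a₀)
        * AdjoinRoot.mk f (p /ₘ (X - C a₀)))) * he
    rw [h8]
    refine Submodule.add_mem _ (Submodule.mem_sup_left
      (Submodule.smul_mem _ _ (Submodule.mem_span_singleton_self e))) (Submodule.mem_sup_right ?_)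
    exact hemul _ (smul_top_mul _ hD _)
  obtain ⟨a, ha⟩ := Submodule.mem_span_singleton.mp (hNle ⟨AdjoinRoot.root f, rfl⟩)
  rw [LinearMap.mulLeft_apply] at ha
  have hpow : ∀ n : ℕ, AdjoinRoot.root f ^ n * e = a ^ n • e := by
    intro n
    induction n with
    | zero => simp
    | succ n ih =>
      calc AdjoinRoot.root f ^ (n + 1) * e
          = AdjoinRoot.root f ^ n * (e * AdjoinRoot.root f) := by ring
        _ = AdjoinRoot.root f ^ n * (a • e) := by rw [ha]
        _ = a • (AdjoinRoot.root f ^ n * e) := by rw [mul_smul_comm]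
        _ = a ^ (n + 1) • e := by rw [ih, smul_smul, pow_succ, mul_comm]
  have hmk : ∀ p : R[X], AdjoinRoot.mk f p * e = p.eval a • e := by
    intro p
    induction p using Polynomial.induction_on' with
    | add p q hp hq => rw [map_add, add_mul, hp, hq, eval_add, add_smul]
    | monomial n c =>
      rw [← C_mul_X_pow_eq_monomial, map_mul, map_pow, AdjoinRoot.mk_C, AdjoinRoot.mk_X,
        mul_assoc, hpow, eval_mul, eval_C, eval_pow, eval_X, ← smul_smul, Algebra.smul_def c,
        AdjoinRoot.algebraMap_eq]
  have hfa : f.eval a • e = 0 := by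
    rw [← hmk f, AdjoinRoot.mk_self, zero_mul]
  obtain ⟨i, hi⟩ : ∃ i, (AdjoinRoot.powerBasis' hf).basis.repr e i ∉ maximalIdeal R := by
    by_contra hall
    push_neg at hall
    have h9 : AdjoinRoot.lift (residue R) (residue R a₀) hφ0 e = 0 := by
      rw [← (AdjoinRoot.powerBasis' hf).basis.sum_repr e, map_sum]
      refine Finset.sum_eq_zero fun i _ => ?_
      rw [Algebra.smul_def, map_mul, AdjoinRoot.algebraMap_eq, AdjoinRoot.lift_of,
        (residue_eq_zero_iff _).mpr (hall i), zero_mul]
    rw [hφe] at h9
    exact one_ne_zero h9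
  have hu : IsUnit ((AdjoinRoot.powerBasis' hf).basis.repr e i) := notMem_maximalIdeal.mp hi
  have hfa0 : f.eval a = 0 := by
    have h10 := congrArg (fun x => (AdjoinRoot.powerBasis' hf).basis.repr x i) hfa
    simp only [map_smul, Finsupp.smul_apply, smul_eq_mul, map_zero, Finsupp.zero_apply] at h10
    exact hu.mul_left_eq_zero.mp h10
  refine ⟨a, hfa0, ?_⟩
  have h11 := congrArg (AdjoinRoot.lift (residue R) (residue R a₀) hφ0) ha
  rw [Algebra.smul_def, map_mul, map_mul, AdjoinRoot.algebraMap_eq, AdjoinRoot.lift_of, hφe,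
    AdjoinRoot.lift_root, mul_one, one_mul] at h11
  rw [← residue_eq_zero_iff, map_sub, h11, sub_self]

/-- Idempotents lift modulo `I B` when `B` is a finite product of local rings. -/
theorem exists_idempotent_of_pi {R : Type u} [CommRing R] {B : Type u} [CommRing B] [Algebra R B]
    (I : Ideal R) {ι : Type u} [Fintype ι] (A : ι → Type u) [∀ i, CommRing (A i)]
    [∀ i, IsLocalRing (A i)] (σ : B ≃+* (∀ i, A i)) (b : B)
    (hb : b * b - b ∈ I • (⊤ : Submodule R B)) :
    ∃ e : B, e * e = e ∧ e - b ∈ I • (⊤ : Submodule R B) := by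
  classical
  have hsum : ∑ i, σ.symm (Pi.single i 1) = 1 := by
    apply σ.injective
    rw [map_sum, map_one]
    simp only [RingEquiv.apply_symm_apply]
    exact Finset.univ_sum_single (1 : ∀ i, A i)
  refine ⟨σ.symm (fun i => if IsUnit (σ b i) then 1 else 0), ?_, ?_⟩
  · apply σ.injective
    rw [map_mul]
    simp only [RingEquiv.apply_symm_apply]
    funext i
    simp only [Pi.mul_apply]
    split_ifs <;> simp
  · have key : ∀ i, σ.symm (Pi.single i 1)
        * (σ.symm (fun i => if IsUnit (σ b i) then 1 else 0) - b) ∈ I • (⊤ : Submodule R B) := by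
      intro i
      by_cases hu : IsUnit (σ b i)
      · obtain ⟨w, hw⟩ := hu.exists_right_inv
        have hid : σ.symm (Pi.single i 1)
            * (σ.symm (fun i => if IsUnit (σ b i) then 1 else 0) - b)
            = (b * b - b) * (-(σ.symm (Pi.single i 1) * σ.symm (Pi.single i w))) := by
          apply σ.injective
          simp only [map_mul, map_sub, map_neg, RingEquiv.apply_symm_apply]
          funext j
          simp only [Pi.mul_apply, Pi.sub_apply, Pi.neg_apply]
          by_cases hj : j = i
          · subst hj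
            simp only [Pi.single_eq_same, if_pos hu]
            linear_combination (σ b j - 1) * hw
          · simp [Pi.single_eq_of_ne hj]
        rw [hid]
        exact smul_top_mul I hb _
      · have hu' : IsUnit (1 - σ b i) := isUnit_one_sub_self_of_mem_nonunits _ hu
        obtain ⟨w, hw⟩ := hu'.exists_right_inv
        have hid : σ.symm (Pi.single i 1)
            * (σ.symm (fun i => if IsUnit (σ b i) then 1 else 0) - b)
            = (b * b - b) * (σ.symm (Pi.single i 1) * σ.symm (Pi.single i w)) := by
          apply σ.injective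
          simp only [map_mul, map_sub, RingEquiv.apply_symm_apply]
          funext j
          simp only [Pi.mul_apply, Pi.sub_apply]
          by_cases hj : j = i
          · subst hj
            simp only [Pi.single_eq_same, if_neg hu]
            linear_combination (σ b j) * hw
          · simp [Pi.single_eq_of_ne hj]
        rw [hid]
        exact smul_top_mul I hb _
    have hdec : σ.symm (fun i => if IsUnit (σ b i) then 1 else 0) - b
        = ∑ i, σ.symm (Pi.single i 1)
          * (σ.symm (fun i => if IsUnit (σ b i) then 1 else 0) - b) := by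
      rw [← Finset.sum_mul, hsum, one_mul]
    rw [hdec]
    exact Submodule.sum_mem _ fun i _ => key i

end Groth.Agent.Lib.Lead.HenselIdem
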