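import Mathlib

/-!
# Skolem–Noether over a local ring (lead)

* `localSN`: every algebra automorphism of `End_R(F)`, `F` finite free over a local ring `R`,
  is conjugation by a linear automorphism of `F`.
* `azumaya_inner`: every algebra automorphism of an Azumaya algebra over a local ring is inner.
-/

set_option autoImplicit false
open scoped TensorProduct

namespace Groth.Agent.Lead.LocalSN

theorem localSN {R : Type*} [CommRing R] [IsLocalRing R] {F : Type*} [AddCommGroup F]
    [Module R F] [Module.Free R F] [Module.Finite R F]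
    (Φ : Module.End R F ≃ₐ[R] Module.End R F) :
    ∃ T : F ≃ₗ[R] F, ∀ g : Module.End R F,
      Φ g = T.toLinearMap ∘ₗ g ∘ₗ T.symm.toLinearMap := by
  classical
  let b := Module.Free.chooseBasis R F
  by_cases hF : IsEmpty (Module.Free.ChooseBasisIndex R F)
  · haveI : Subsingleton F := b.repr.toEquiv.subsingleton
    exact ⟨LinearEquiv.refl R F, fun g => LinearMap.ext fun x => Subsingleton.elim _ _⟩
  rw [not_isEmpty_iff] at hF
  obtain ⟨i₀⟩ := hF
  have hvu : b.coord i₀ (b i₀) = 1 := by simp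
  let E : Module.Free.ChooseBasisIndex R F → Module.Free.ChooseBasisIndex R F → Module.End R F :=
    fun i j => (b.coord j).smulRight (b i)
  have hid : (1 : Module.End R F) = ∑ i, E i i₀ * (E i₀ i₀ * E i₀ i) := by
    ext x
    rw [LinearMap.sum_apply]
    simp only [E, Module.End.mul_apply, LinearMap.smulRight_apply, map_smul, hvu,
      Module.End.one_apply, one_smul]
    simp only [Module.Basis.coord_apply]
    exact (b.sum_repr x).symm
  have h1 : (1 : R) = ∑ i, b.coord i₀ (Φ (E i i₀) (Φ (E i₀ i₀) (Φ (E i₀ i) (b i₀)))) := by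
    have := congrArg (fun g : Module.End R F => b.coord i₀ (Φ g (b i₀))) hid
    simp only [map_one, map_sum, map_mul, Module.End.one_apply, Module.End.mul_apply,
      LinearMap.sum_apply, hvu] at this
    exact this
  obtain ⟨i, hi⟩ : ∃ i, IsUnit (b.coord i₀ (Φ (E i i₀) (Φ (E i₀ i₀) (Φ (E i₀ i) (b i₀))))) := by
    by_contra hcon
    push Not at hcon
    have : (1 : R) ∈ IsLocalRing.maximalIdeal R := by
      rw [h1]
      exact Ideal.sum_mem _ fun i _ => (IsLocalRing.mem_maximalIdeal _).2 (hcon i)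
    exact (IsLocalRing.maximalIdeal.isMaximal R).ne_top ((Ideal.eq_top_iff_one _).2 this)
  set z : F := Φ (E i₀ i) (b i₀) with hz
  let d : F →ₗ[R] R := ((hi.unit⁻¹ : Rˣ) : R) • ((b.coord i₀) ∘ₗ (Φ (E i i₀)))
  have hd : d (Φ (E i₀ i₀) z) = 1 := by
    show ((hi.unit⁻¹ : Rˣ) : R) • (b.coord i₀ (Φ (E i i₀) (Φ (E i₀ i₀) z))) = 1
    rw [smul_eq_mul]
    exact IsUnit.val_inv_mul hi
  obtain ⟨T, hT⟩ : ∃ T : F →ₗ[R] F, ∀ x, T x = Φ ((b.coord i₀).smulRight x) z :=
    ⟨LinearMap.applyₗ z ∘ₗ Φ.toLinearMap ∘ₗ LinearMap.smulRightₗ (b.coord i₀), fun x => rfl⟩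
  have key : ∀ (g : Module.End R F) (x : F), T (g x) = Φ g (T x) := by
    intro g x
    have hcomp : (b.coord i₀).smulRight (g x) = g * (b.coord i₀).smulRight x := by
      ext y
      simp
    rw [hT, hT, hcomp, map_mul, Module.End.mul_apply]
  have surj : Function.Surjective T := fun y => ⟨Φ.symm (d.smulRight y) (b i₀), by
    rw [key, Φ.apply_symm_apply, LinearMap.smulRight_apply, hT]
    show d (Φ (E i₀ i₀) z) • y = y
    rw [hd, one_smul]⟩
  have inj : Function.Injective T := fun x y hxy => by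
    have h2 : (b.coord i₀).smulRight x = (b.coord i₀).smulRight y := by
      apply Φ.injective
      ext z'
      obtain ⟨w', rfl⟩ := surj z'
      rw [← key, ← key, LinearMap.smulRight_apply, LinearMap.smulRight_apply, map_smul,
        map_smul, hxy]
    have := congrArg (fun f : Module.End R F => f (b i₀)) h2
    simpa [hvu] using this
  have hbij : Function.Bijective T := ⟨inj, surj⟩
  refine ⟨LinearEquiv.ofBijective T hbij, fun g => ?_⟩
  apply LinearMap.ext
  intro y
  obtain ⟨x, rfl⟩ := surj y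
  have hx : (LinearEquiv.ofBijective T hbij).symm (T x) = x :=
    (LinearEquiv.ofBijective T hbij).symm_apply_apply x
  simp only [LinearMap.comp_apply, LinearEquiv.coe_coe, hx, LinearEquiv.ofBijective_apply]
  exact (key g x).symm

/-- Automorphisms of Azumaya algebras over local rings are inner. -/
theorem azumaya_inner {R : Type*} [CommRing R] [IsLocalRing R] {A : Type*} [Ring A]
    [Algebra R A] [IsAzumaya R A] (u : A ≃ₐ[R] A) :
    ∃ a : Aˣ, ∀ x : A, u x = (a : A) * x * (a⁻¹ : Aˣ) := by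
  haveI : Module.Free R A := Module.free_of_flat_of_isLocalRing
  let e : A ⊗[R] Aᵐᵒᵖ ≃ₐ[R] Module.End R A :=
    AlgEquiv.ofBijective (AlgHom.mulLeftRight R A) IsAzumaya.bij
  let U : A ⊗[R] Aᵐᵒᵖ ≃ₐ[R] A ⊗[R] Aᵐᵒᵖ := Algebra.TensorProduct.congr u AlgEquiv.refl
  obtain ⟨T, hT⟩ := localSN (e.symm.trans (U.trans e))
  have hΦ : ∀ (t : A ⊗[R] Aᵐᵒᵖ) (x : A), e (U t) (T x) = T (e t x) := by
    intro t x
    have := congrArg (fun g : Module.End R A => g (T x)) (hT (e t))
    simpa using this
  have hl : ∀ a x : A, u a * T x = T (a * x) := by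
    intro a x
    have := hΦ (a ⊗ₜ[R] (1 : Aᵐᵒᵖ)) x
    simpa [e, U, AlgHom.mulLeftRight_apply] using this
  have hr : ∀ b x : A, T x * b = T (x * b) := by
    intro b x
    have := hΦ ((1 : A) ⊗ₜ[R] (MulOpposite.op b)) x
    simpa [e, U, AlgHom.mulLeftRight_apply] using this
  have hTc : ∀ x, T x = T 1 * x := fun x => by rw [hr, one_mul]
  have hTs : ∀ y, T.symm y = T.symm 1 * y := fun y => by
    have := hr y (T.symm 1)
    rw [T.apply_symm_apply, one_mul] at this
    have h := congrArg T.symm this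
    rw [T.symm_apply_apply] at h
    exact h
  have h1 : T 1 * T.symm 1 = 1 := by rw [← hTc, T.apply_symm_apply]
  have h2 : T.symm 1 * T 1 = 1 := by rw [← hTs, T.symm_apply_apply]
  refine ⟨⟨T 1, T.symm 1, h1, h2⟩, fun x => ?_⟩
  show u x = T 1 * x * T.symm 1
  have h3 : u x * T 1 = T 1 * x := by rw [hl, mul_one, ← hTc]
  rw [← h3, mul_assoc, h1, mul_one]

end Groth.Agent.Lead.LocalSN
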