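import Mathlib
import Groth.Prelude.Def_Disc

/-!
# The Noether different commutes with flat base change
-/

set_option autoImplicit false
universe u
open TensorProduct

namespace Groth.Agent.Lead.NDBaseChange

section annih
variable {T T' : Type*} [CommRing T] [CommRing T']

lemma map_annihilator_le (θ : T →+* T') (I : Ideal T) :
    (Submodule.annihilator I).map θ ≤ Submodule.annihilator (I.map θ) := by
  rw [Ideal.map_le_iff_le_comap]
  intro a ha
  rw [Ideal.mem_comap, Submodule.mem_annihilator]
  intro n hn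
  refine Submodule.span_induction (p := fun n _ => θ a • n = 0) ?_ ?_ ?_ ?_ hn
  · rintro _ ⟨x, hx, rfl⟩
    rw [smul_eq_mul, ← map_mul]
    have := (Submodule.mem_annihilator.mp ha) x hx
    rw [smul_eq_mul] at this
    rw [this, map_zero]
  · simp
  · intro x y _ _ hx hy
    rw [smul_add, hx, hy, add_zero]
  · intro r x _ hx
    rw [smul_comm, hx, smul_zero]

lemma annihilator_map_of_bijective (θ : T →+* T') (hθ : Function.Bijective θ) (I : Ideal T) :
    Submodule.annihilator (I.map θ) = (Submodule.annihilator I).map θ := by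
  refine le_antisymm ?_ (map_annihilator_le θ I)
  intro x hx
  obtain ⟨a, rfl⟩ := hθ.2 x
  refine Ideal.mem_map_of_mem θ ?_
  rw [Submodule.mem_annihilator]
  intro i hi
  apply hθ.1
  have := (Submodule.mem_annihilator.mp hx) (θ i) (Ideal.mem_map_of_mem θ hi)
  rw [smul_eq_mul] at this ⊢
  rw [map_mul, this, map_zero]

/-- The annihilator of a finitely generated ideal commutes with flat base change. -/
lemma annihilator_map_of_flat [Algebra T T'] [Module.Flat T T'] (I : Ideal T) (hI : I.FG) :
    Submodule.annihilator (I.map (algebraMap T T')) =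
      (Submodule.annihilator I).map (algebraMap T T') := by
  classical
  refine le_antisymm ?_ (map_annihilator_le (algebraMap T T') I)
  obtain ⟨s, rfl⟩ := hI
  intro t' ht'
  let φ : T →ₗ[T] (s → T) := LinearMap.pi fun i => LinearMap.mulRight T (i : T)
  have hφ : ∀ (t : T) (i : s), φ t i = t * (i : T) := fun t i => rfl
  have hker : ∀ a : T, a ∈ LinearMap.ker φ →
      a ∈ Submodule.annihilator (Ideal.span (s : Set T)) := by
    intro a ha
    show a ∈ Submodule.annihilator (Submodule.span T (s : Set T))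
    rw [Submodule.mem_annihilator_span]
    intro i
    have := congrFun (LinearMap.mem_ker.mp ha) i
    rw [hφ] at this
    rw [smul_eq_mul]
    exact this
  have h1 : (AlgebraTensorModule.lTensor T' T' φ) (t' ⊗ₜ[T] (1:T)) = 0 := by
    rw [AlgebraTensorModule.lTensor_tmul]
    have hφ1 : φ 1 = ∑ i : s, (i : T) • (Pi.single i (1:T) : s → T) := by
      ext j
      rw [hφ, one_mul, Finset.sum_apply]
      simp [Pi.single_apply]
    rw [hφ1, tmul_sum]
    refine Finset.sum_eq_zero fun i _ => ?_
    rw [tmul_smul, smul_tmul']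
    have : (i : T) • t' = 0 := by
      rw [Algebra.smul_def, mul_comm]
      have := (Submodule.mem_annihilator.mp ht') (algebraMap T T' (i : T))
        (Ideal.mem_map_of_mem _ (Ideal.subset_span i.2))
      rw [smul_eq_mul] at this
      exact this
    rw [this, zero_tmul]
  have h2 : t' ⊗ₜ[T] (1:T) ∈ LinearMap.range
      (AlgebraTensorModule.lTensor T' T' (LinearMap.ker φ).subtype) := by
    rw [← Module.Flat.ker_lTensor_eq]
    exact LinearMap.mem_ker.mpr h1
  obtain ⟨w, hw⟩ := h2
  have key : ∀ w : T' ⊗[T] (LinearMap.ker φ),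
      TensorProduct.rid T T' (AlgebraTensorModule.lTensor T' T' (LinearMap.ker φ).subtype w) ∈
        (Submodule.annihilator (Ideal.span (s : Set T))).map (algebraMap T T') := by
    intro w
    induction w using TensorProduct.induction_on with
    | zero => simp
    | tmul x a =>
      rw [AlgebraTensorModule.lTensor_tmul, Submodule.subtype_apply, TensorProduct.rid_tmul,
        Algebra.smul_def]
      exact Ideal.mul_mem_right _ _ (Ideal.mem_map_of_mem _ (hker a a.2))
    | add x y hx hy =>
      rw [map_add, map_add]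
      exact Ideal.add_mem _ hx hy
  have := key w
  rw [hw, TensorProduct.rid_tmul, one_smul] at this
  exact this

/-- Core computation. -/
lemma core {T T' B B' : Type*} [CommRing T] [CommRing T'] [CommRing B] [CommRing B']
    (μ : T →+* B) (μ' : T' →+* B') (θ : T →+* T') (ι : B →+* B')
    (hcomm : μ'.comp θ = ι.comp μ) (hker : RingHom.ker μ' = (RingHom.ker μ).map θ)
    (hann : Submodule.annihilator ((RingHom.ker μ).map θ) =
      (Submodule.annihilator (RingHom.ker μ)).map θ) :
    (Submodule.annihilator (RingHom.ker μ')).map μ' =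
      ((Submodule.annihilator (RingHom.ker μ)).map μ).map ι := by
  rw [hker, hann, Ideal.map_map, Ideal.map_map, hcomm]

end annih

section equiv
variable {R B1 B2 : Type u} [CommRing R] [CommRing B1] [CommRing B2] [Algebra R B1] [Algebra R B2]

lemma nd_equiv (e : B1 ≃ₐ[R] B2) :
    Disc.noetherDifferent R B2 = (Disc.noetherDifferent R B1).map (e : B1 →+* B2) := by
  have hcomm : ∀ t : B1 ⊗[R] B1, Algebra.TensorProduct.lmul' R
      (Algebra.TensorProduct.congr e e t) = e (Algebra.TensorProduct.lmul' R t) := by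
    intro t
    induction t using TensorProduct.induction_on with
    | zero => simp
    | tmul a b => simp
    | add a b ha hb => rw [map_add, map_add, map_add, map_add, ha, hb]
  have hbij : Function.Bijective
      ((Algebra.TensorProduct.congr e e : B1 ⊗[R] B1 ≃ₐ[R] B2 ⊗[R] B2) : _ →+* _) :=
    ⟨fun a b h => (Algebra.TensorProduct.congr e e).injective h,
      fun y => ⟨(Algebra.TensorProduct.congr e e).symm y,
        (Algebra.TensorProduct.congr e e).apply_symm_apply y⟩⟩
  have hker : RingHom.ker (Algebra.TensorProduct.lmul' R (S := B2)).toRingHom =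
      (RingHom.ker (Algebra.TensorProduct.lmul' R (S := B1)).toRingHom).map
        ((Algebra.TensorProduct.congr e e : B1 ⊗[R] B1 ≃ₐ[R] B2 ⊗[R] B2) : _ →+* _) := by
    apply le_antisymm
    · intro x hx
      obtain ⟨t, rfl⟩ := hbij.2 x
      refine Ideal.mem_map_of_mem _ ?_
      rw [RingHom.mem_ker] at hx ⊢
      apply e.injective
      rw [map_zero]
      exact (hcomm t).symm.trans hx
    · rw [Ideal.map_le_iff_le_comap]
      intro t ht
      rw [Ideal.mem_comap, RingHom.mem_ker]
      rw [RingHom.mem_ker] at ht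
      show Algebra.TensorProduct.lmul' R (Algebra.TensorProduct.congr e e t) = 0
      rw [hcomm]
      show e ((Algebra.TensorProduct.lmul' R (S := B1)).toRingHom t) = 0
      rw [ht, map_zero]
  exact core (Algebra.TensorProduct.lmul' R (S := B1)).toRingHom
    (Algebra.TensorProduct.lmul' R (S := B2)).toRingHom _ (e : B1 →+* B2)
    (RingHom.ext hcomm) hker (annihilator_map_of_bijective _ hbij _)

end equiv

section concrete
variable (A A' B : Type u) [CommRing A] [CommRing A'] [CommRing B] [Algebra A A'] [Algebra A B]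

lemma lmul'_eq :
    Algebra.TensorProduct.lmul' A' (S := A' ⊗[A] B) =
      (Algebra.TensorProduct.map (AlgHom.id A' A') (Algebra.TensorProduct.lmul' A (S := B))).comp
        (((Algebra.TensorProduct.cancelBaseChange _ _ A' _ _).trans
          (Algebra.TensorProduct.assoc ..) :
            (A' ⊗[A] B) ⊗[A'] (A' ⊗[A] B) ≃ₐ[A'] A' ⊗[A] (B ⊗[A] B))).toAlgHom := by
  ext <;> simp [Algebra.TensorProduct.one_def]

theorem nd_concrete [Algebra.FiniteType A B] [Module.Flat A A'] :
    Disc.noetherDifferent A' (A' ⊗[A] B) =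
      (Disc.noetherDifferent A B).map
        (Algebra.TensorProduct.includeRight : B →ₐ[A] A' ⊗[A] B).toRingHom := by
  let e : (A' ⊗[A] B) ⊗[A'] (A' ⊗[A] B) ≃ₐ[A'] A' ⊗[A] (B ⊗[A] B) :=
    (Algebra.TensorProduct.cancelBaseChange _ _ A' _ _).trans (Algebra.TensorProduct.assoc ..)
  let μ : B ⊗[A] B →ₐ[A] B := Algebra.TensorProduct.lmul' A
  let M1 : A' ⊗[A] (B ⊗[A] B) →ₐ[A] A' ⊗[A] B := Algebra.TensorProduct.map (AlgHom.id A A') μ
  have hμ'' : ∀ t, Algebra.TensorProduct.lmul' A' (S := A' ⊗[A] B) t = M1 (e t) := by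
    intro t
    have := DFunLike.congr_fun (lmul'_eq A A' B) t
    rw [this]
    rfl
  let incT : B ⊗[A] B →+* A' ⊗[A] (B ⊗[A] B) :=
    (Algebra.TensorProduct.includeRight : B ⊗[A] B →ₐ[A] A' ⊗[A] (B ⊗[A] B)).toRingHom
  let θ : B ⊗[A] B →+* (A' ⊗[A] B) ⊗[A'] (A' ⊗[A] B) :=
    ((e.symm : _ ≃ₐ[A'] _) : _ →+* _).comp incT
  have hθ : ∀ t, θ t = e.symm ((1 : A') ⊗ₜ[A] t) := fun t => rfl
  have hinc : incT = ((Algebra.TensorProduct.comm A (B ⊗[A] B) A' :
      (B ⊗[A] B) ⊗[A] A' ≃ₐ[A] A' ⊗[A] (B ⊗[A] B)) : _ →+* _).comp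
        (algebraMap (B ⊗[A] B) ((B ⊗[A] B) ⊗[A] A')) := by
    refine RingHom.ext fun t => ?_
    show (1 : A') ⊗ₜ[A] t = Algebra.TensorProduct.comm A (B ⊗[A] B) A' (t ⊗ₜ[A] (1 : A'))
    rw [Algebra.TensorProduct.comm_tmul]
  have hflat : θ.Flat := by
    refine RingHom.Flat.comp ?_ (RingHom.Flat.of_bijective e.symm.bijective)
    rw [hinc]
    exact RingHom.Flat.comp (RingHom.flat_algebraMap_iff.mpr inferInstance)
      (RingHom.Flat.of_bijective (AlgEquiv.bijective _))
  have hθμ : ∀ t, Algebra.TensorProduct.lmul' A' (S := A' ⊗[A] B) (θ t) = (1 : A') ⊗ₜ[A] μ t := by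
    intro t
    rw [hμ'', hθ, AlgEquiv.apply_symm_apply]
    simp [M1]
  have hsurj : Function.Surjective μ := fun b => ⟨b ⊗ₜ 1, by simp [μ]⟩
  have hk1 : RingHom.ker M1 = (RingHom.ker μ).map
      (Algebra.TensorProduct.includeRight : B ⊗[A] B →ₐ[A] A' ⊗[A] (B ⊗[A] B)) :=
    Algebra.TensorProduct.lTensor_ker μ hsurj
  have hker : RingHom.ker (Algebra.TensorProduct.lmul' A' (S := A' ⊗[A] B)).toRingHom =
      (RingHom.ker μ.toRingHom).map θ := by
    apply le_antisymm
    · intro x hx
      have hx' : e x ∈ RingHom.ker M1 := by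
        rw [RingHom.mem_ker, ← hμ'']; exact hx
      rw [hk1] at hx'
      have hgen : ∀ y ∈ (RingHom.ker μ).map
          (Algebra.TensorProduct.includeRight : B ⊗[A] B →ₐ[A] A' ⊗[A] (B ⊗[A] B)),
          e.symm y ∈ (RingHom.ker μ.toRingHom).map θ := by
        intro y hy
        refine Submodule.span_induction
          (p := fun y _ => e.symm y ∈ (RingHom.ker μ.toRingHom).map θ) ?_ ?_ ?_ ?_ hy
        · rintro _ ⟨k, hk, rfl⟩
          exact Ideal.mem_map_of_mem θ hk
        · rw [map_zero]; exact Ideal.zero_mem _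
        · intro a b _ _ ha hb
          rw [map_add]; exact Ideal.add_mem _ ha hb
        · intro r a _ ha
          rw [smul_eq_mul, map_mul]; exact Ideal.mul_mem_left _ _ ha
      have := hgen _ hx'
      rwa [AlgEquiv.symm_apply_apply] at this
    · rw [Ideal.map_le_iff_le_comap]
      intro t ht
      rw [Ideal.mem_comap, RingHom.mem_ker]
      show Algebra.TensorProduct.lmul' A' (S := A' ⊗[A] B) (θ t) = 0
      rw [hθμ]
      have : μ t = 0 := ht
      rw [this, tmul_zero]
  have hfg : (RingHom.ker μ.toRingHom).FG := KaehlerDifferential.ideal_fg A B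
  have hann : Submodule.annihilator ((RingHom.ker μ.toRingHom).map θ) =
      (Submodule.annihilator (RingHom.ker μ.toRingHom)).map θ := by
    letI := θ.toAlgebra
    haveI : Module.Flat (B ⊗[A] B) ((A' ⊗[A] B) ⊗[A'] (A' ⊗[A] B)) := hflat
    exact annihilator_map_of_flat (RingHom.ker μ.toRingHom) hfg
  exact core μ.toRingHom (Algebra.TensorProduct.lmul' A' (S := A' ⊗[A] B)).toRingHom θ
    (Algebra.TensorProduct.includeRight : B →ₐ[A] A' ⊗[A] B).toRingHom
    (RingHom.ext hθμ) hker hann

end concrete

end Groth.Agent.Lead.NDBaseChange
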