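import Mathlib
import Groth.Prelude.Def_Disc
import Groth.Agent.Lib.Lead.NDBaseChange

/-!
# The Noether different along a flat epimorphism
-/

set_option autoImplicit false
universe u
open TensorProduct

namespace Groth.Agent.Lead.NDBaseChange

lemma lmul'_map' {R B B' : Type*} [CommRing R] [CommRing B] [CommRing B'] [Algebra R B]
    [Algebra R B'] (φ : B →ₐ[R] B') (t : B ⊗[R] B) :
    Algebra.TensorProduct.lmul' R (Algebra.TensorProduct.map φ φ t)
      = φ (Algebra.TensorProduct.lmul' R t) := by
  induction t using TensorProduct.induction_on with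
  | zero => simp
  | tmul a b => simp
  | add a b ha hb => simp [ha, hb]

theorem nd_flat_epi {A B' B : Type u} [CommRing A] [CommRing B'] [CommRing B] [Algebra A B']
    [Algebra A B] [Algebra B' B] [IsScalarTower A B' B] [Algebra.FiniteType A B']
    [Module.Flat B' B]
    (hepi : ∀ (Q : Type u) [CommRing Q] (g h : B →+* Q),
      g.comp (algebraMap B' B) = h.comp (algebraMap B' B) → g = h) :
    Disc.noetherDifferent A B = (Disc.noetherDifferent A B').map (algebraMap B' B) := by
  let ι : B' →ₐ[A] B := IsScalarTower.toAlgHom A B' B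
  let θ : B' ⊗[A] B' →ₐ[A] B ⊗[A] B := Algebra.TensorProduct.map ι ι
  let μ' : B' ⊗[A] B' →ₐ[A] B' := Algebra.TensorProduct.lmul' A
  let μ : B ⊗[A] B →ₐ[A] B := Algebra.TensorProduct.lmul' A
  have hcomm : ∀ t, μ (θ t) = ι (μ' t) := fun t => lmul'_map' ι t
  have hιflat : ι.toRingHom.Flat := by
    show (algebraMap B' B).Flat
    exact RingHom.flat_algebraMap_iff.mpr inferInstance
  have hflat : θ.toRingHom.Flat := RingHom.Flat.tensorProductMap hιflat hιflat
  have hker : RingHom.ker μ.toRingHom = (RingHom.ker μ'.toRingHom).map θ.toRingHom := by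
    apply le_antisymm
    · have hgen : ∀ b : B, (1 : B) ⊗ₜ[A] b - b ⊗ₜ[A] (1 : B) ∈
          (RingHom.ker μ'.toRingHom).map θ.toRingHom := by
        intro b
        set J : Ideal (B ⊗[A] B) := (RingHom.ker μ'.toRingHom).map θ.toRingHom with hJ
        let g : B →+* (B ⊗[A] B) ⧸ J := (Ideal.Quotient.mk J).comp
          (Algebra.TensorProduct.includeLeft : B →ₐ[A] B ⊗[A] B).toRingHom
        let h : B →+* (B ⊗[A] B) ⧸ J := (Ideal.Quotient.mk J).comp
          (Algebra.TensorProduct.includeRight : B →ₐ[A] B ⊗[A] B).toRingHom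
        have hgh : g = h := by
          apply hepi
          refine RingHom.ext fun b' => ?_
          show Ideal.Quotient.mk J (algebraMap B' B b' ⊗ₜ[A] (1:B)) =
            Ideal.Quotient.mk J ((1:B) ⊗ₜ[A] algebraMap B' B b')
          rw [Ideal.Quotient.eq]
          have h3 : (algebraMap B' B b' ⊗ₜ[A] (1:B) - (1:B) ⊗ₜ[A] algebraMap B' B b' : B ⊗[A] B)
              = θ (b' ⊗ₜ[A] (1:B') - (1:B') ⊗ₜ[A] b') := by
            rw [map_sub]
            show _ = ι b' ⊗ₜ[A] ι 1 - ι 1 ⊗ₜ[A] ι b'
            rw [map_one]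
            rfl
          rw [h3]
          refine Ideal.mem_map_of_mem _ ?_
          rw [RingHom.mem_ker]
          show μ' _ = 0
          simp [μ']
        have h2 : Ideal.Quotient.mk J (b ⊗ₜ[A] (1:B)) = Ideal.Quotient.mk J ((1:B) ⊗ₜ[A] b) :=
          congrArg (fun φ : B →+* (B ⊗[A] B) ⧸ J => φ b) hgh
        rw [Ideal.Quotient.eq] at h2
        have := J.neg_mem h2
        rwa [neg_sub] at this
      show KaehlerDifferential.ideal A B ≤ _
      rw [← KaehlerDifferential.span_range_eq_ideal, Ideal.span_le]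
      rintro _ ⟨b, rfl⟩
      exact hgen b
    · rw [Ideal.map_le_iff_le_comap]
      intro t ht
      rw [Ideal.mem_comap, RingHom.mem_ker]
      show μ (θ t) = 0
      rw [hcomm]
      have : μ' t = 0 := ht
      rw [this, map_zero]
  have hfg : (RingHom.ker μ'.toRingHom).FG := KaehlerDifferential.ideal_fg A B'
  have hann : Submodule.annihilator ((RingHom.ker μ'.toRingHom).map θ.toRingHom) =
      (Submodule.annihilator (RingHom.ker μ'.toRingHom)).map θ.toRingHom := by
    letI := θ.toRingHom.toAlgebra
    haveI : Module.Flat (B' ⊗[A] B') (B ⊗[A] B) := hflat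
    exact annihilator_map_of_flat (RingHom.ker μ'.toRingHom) hfg
  exact core μ'.toRingHom μ.toRingHom θ.toRingHom (algebraMap B' B) (RingHom.ext hcomm) hker hann

end Groth.Agent.Lead.NDBaseChange
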