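import Mathlib
import Groth.Prelude.Def_Disc
import Groth.Agent.Lib.Lead.TraceEtale

/-!
# Noether different in the finite free case
-/

open TensorProduct

namespace Groth.Agent.Lead.NoetherDiff

universe u v

/-! ### rank one identity for invertible modules -/
section rankone
variable {R : Type u} {M : Type v} [CommRing R] [AddCommGroup M] [Module R M]

theorem rank_one [Module.Invertible R M] (f : M →ₗ[R] R) (x y : M) : f x • y = f y • x := by
  classical
  let e := Module.Invertible.linearEquiv R M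
  have he : ∀ (g : Module.Dual R M) (m : M), e (g ⊗ₜ[R] m) = g m := fun g m => rfl
  obtain ⟨S, hS⟩ := TensorProduct.exists_finset (e.symm 1)
  set u := e.symm 1 with hu
  have hsum : ∑ p ∈ S, p.1 p.2 = 1 := by
    have h1 : e u = 1 := by rw [hu, LinearEquiv.apply_symm_apply]
    rw [hS, map_sum] at h1
    simpa [he] using h1
  have hb : ∀ (g : Module.Dual R M) (m : M), g ⊗ₜ[R] m = g m • u := by
    intro g m
    apply e.injective
    rw [he, map_smul, hu, LinearEquiv.apply_symm_apply, smul_eq_mul, mul_one]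
  -- the map `κ_y`
  let κ : M → (Module.Dual R M ⊗[R] M →ₗ[R] M) := fun y =>
    TensorProduct.lift ((LinearMap.lsmul R M).comp (Module.Dual.eval R M y))
  have hκ : ∀ y (g : Module.Dual R M) (m : M), κ y (g ⊗ₜ[R] m) = g y • m := by
    intro y g m; simp [κ]
  let P : M →ₗ[R] M := ∑ p ∈ S, (LinearMap.toSpanSingleton R M p.2).comp p.1
  have hP : ∀ y, P y = ∑ p ∈ S, p.1 y • p.2 := by
    intro y; simp [P, LinearMap.sum_apply]
  have hκu : ∀ y, κ y u = P y := by
    intro y
    rw [hS, map_sum, hP]
    exact Finset.sum_congr rfl fun p _ => hκ y p.1 p.2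
  have star : ∀ (g : Module.Dual R M) (y m : M), g y • m = g m • P y := by
    intro g y m
    have := congrArg (κ y) (hb g m)
    rw [hκ, map_smul, hκu] at this
    exact this
  have star2 : ∀ (g : Module.Dual R M) (y : M), g y • y = g y • P y := fun g y => star g y y
  have hPid : ∀ y, P y = y := by
    intro y
    have hz : ∀ p ∈ S, (p.1 p.2) ^ 2 • (P y - y) = 0 := by
      intro p _
      have h1 : p.1 p.2 • y = p.1 y • P p.2 := star p.1 p.2 y
      have h2 : (p.1 p.2) ^ 2 • y = p.1 y • (p.1 p.2 • p.2) := by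
        rw [pow_two, mul_smul, h1, smul_comm, ← star2 p.1 p.2]
      have h3 : (p.1 p.2) ^ 2 • P y = p.1 y • (p.1 p.2 • p.2) := by
        rw [← map_smul, h2, map_smul, map_smul, ← star2 p.1 p.2]
      rw [smul_sub, h2, h3, sub_self]
    let I : Ideal R := LinearMap.ker (LinearMap.toSpanSingleton R M (P y - y))
    have hI : ∀ a, a ∈ I ↔ a • (P y - y) = 0 := fun a => by
      simp [I, LinearMap.mem_ker]
    have htop : Ideal.span ((fun p : Module.Dual R M × M => p.1 p.2) '' (S : Set _)) = ⊤ := by
      rw [Ideal.eq_top_iff_one, ← hsum]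
      exact Ideal.sum_mem _ fun p hp => Ideal.subset_span ⟨p, hp, rfl⟩
    have htop2 := Ideal.span_pow_eq_top _ htop 2
    have hle : Ideal.span ((fun a : R => a ^ 2) ''
        ((fun p : Module.Dual R M × M => p.1 p.2) '' (S : Set _))) ≤ I := by
      rw [Ideal.span_le]
      rintro _ ⟨_, ⟨p, hp, rfl⟩, rfl⟩
      exact (hI _).mpr (hz p hp)
    rw [htop2, top_le_iff] at hle
    have h1 : (1 : R) ∈ I := by rw [hle]; trivial
    have := (hI 1).mp h1
    rwa [one_smul, sub_eq_zero] at this
  have := star f y x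
  rw [hPid] at this
  exact this.symm

end rankone

variable {A : Type u} {B : Type v} [CommRing A] [CommRing B] [Algebra A B]

/-- the pairing `B ⊗ B → B`, `u ⊗ v ↦ l u • v` -/
noncomputable def pair (l : B →ₗ[A] A) : B ⊗[A] B →ₗ[A] B :=
  TensorProduct.lift ((LinearMap.lsmul A B).comp l)

@[simp] lemma pair_tmul (l : B →ₗ[A] A) (u v : B) : pair l (u ⊗ₜ[A] v) = l u • v := by
  simp [pair]

lemma pair_mul_left (l : B →ₗ[A] A) (s : B) (η : B ⊗[A] B) :
    pair l ((s ⊗ₜ[A] (1 : B)) * η) = pair (l.comp (LinearMap.mulLeft A s)) η := by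
  induction η using TensorProduct.induction_on with
  | zero => simp
  | tmul u v => simp [Algebra.TensorProduct.tmul_mul_tmul]
  | add a b ha hb => simp only [mul_add, map_add, ha, hb]

lemma pair_mul_right (l : B →ₗ[A] A) (s : B) (η : B ⊗[A] B) :
    pair l (((1 : B) ⊗ₜ[A] s) * η) = s * pair l η := by
  induction η using TensorProduct.induction_on with
  | zero => simp
  | tmul u v => simp [Algebra.TensorProduct.tmul_mul_tmul, mul_smul_comm]
  | add a b ha hb => simp only [mul_add, map_add, ha, hb]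

lemma pair_add (l l' : B →ₗ[A] A) (η : B ⊗[A] B) :
    pair (l + l') η = pair l η + pair l' η := by
  induction η using TensorProduct.induction_on with
  | zero => simp
  | tmul u v => simp [add_smul]
  | add a b ha hb => simp only [map_add, ha, hb]; abel

section basis
variable {ι : Type*} [Fintype ι] [DecidableEq ι] (e : Module.Basis ι A B)

lemma recon (η : B ⊗[A] B) : η = ∑ i, e i ⊗ₜ[A] pair (e.coord i) η := by
  induction η using TensorProduct.induction_on with
  | zero => simp
  | tmul u v =>
    symm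
    simp only [pair_tmul, Module.Basis.coord_apply, TensorProduct.tmul_smul,
      TensorProduct.smul_tmul']
    rw [← TensorProduct.sum_tmul, e.sum_repr]
  | add a b ha hb =>
    conv_lhs => rw [ha, hb]
    rw [← Finset.sum_add_distrib]
    simp only [map_add, TensorProduct.tmul_add]

include e in
lemma ext_pair {η η' : B ⊗[A] B} (h : ∀ l : B →ₗ[A] A, pair l η = pair l η') : η = η' := by
  rw [recon e η, recon e η']
  simp_rw [h]

end basis

lemma mem_annihilator_iff (ξ : B ⊗[A] B) :
    ξ ∈ Submodule.annihilator (RingHom.ker (Algebra.TensorProduct.lmul' (S := B) A)) ↔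
      ∀ s : B, (s ⊗ₜ[A] (1 : B)) * ξ = ((1 : B) ⊗ₜ[A] s) * ξ := by
  have hker : RingHom.ker (Algebra.TensorProduct.lmul' (S := B) A) =
      Ideal.span (Set.range fun s : B => (1 : B) ⊗ₜ[A] s - s ⊗ₜ[A] (1 : B)) :=
    (KaehlerDifferential.span_range_eq_ideal A B).symm
  rw [hker, Ideal.span, Submodule.mem_annihilator_span]
  constructor
  · intro h s
    have := h ⟨_, ⟨s, rfl⟩⟩
    simp only [smul_eq_mul, mul_sub] at this
    rw [sub_eq_zero] at this
    rw [mul_comm _ ξ, mul_comm _ ξ]
    exact this.symm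
  · rintro h ⟨_, ⟨s, rfl⟩⟩
    simp only [smul_eq_mul, mul_sub, sub_eq_zero]
    rw [mul_comm ξ, mul_comm ξ]
    exact (h s).symm

/-- `toLinearMap` as an additive hom -/
def toLinHom : Disc.Omega A B →+ (B →ₗ[A] A) where
  toFun := Disc.Omega.toLinearMap
  map_zero' := rfl
  map_add' _ _ := rfl

lemma toLinearMap_sum {κ : Type*} (s : Finset κ) (f : κ → Disc.Omega A B) :
    (∑ i ∈ s, f i).toLinearMap = ∑ i ∈ s, (f i).toLinearMap :=
  map_sum (toLinHom (A := A) (B := B)) f s

lemma exists_xi [Module.Finite A B] [Module.Free A B] (Φ : Disc.Omega A B →ₗ[B] B) :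
    ∃ ξ : B ⊗[A] B,
      ξ ∈ Submodule.annihilator (RingHom.ker (Algebra.TensorProduct.lmul' (S := B) A)) ∧
        ∀ l : Disc.Omega A B, Φ l = pair l.toLinearMap ξ := by
  classical
  let e := Module.Free.chooseBasis A B
  have hpair : ∀ l : Disc.Omega A B,
      pair l.toLinearMap (∑ i, e i ⊗ₜ[A] Φ ⟨e.coord i⟩) = Φ l := by
    intro l
    simp only [map_sum, pair_tmul]
    have hl : l = ∑ i, (algebraMap A B (l.toLinearMap (e i))) • (⟨e.coord i⟩ : Disc.Omega A B) := by
      apply Disc.Omega.toLinearMap_injective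
      rw [toLinearMap_sum]
      ext x
      conv_lhs => rw [← e.sum_repr x]
      simp only [map_sum, map_smul, LinearMap.sum_apply, Disc.Omega.smul_toLinearMap_apply,
        Module.Basis.coord_apply, ← Algebra.smul_def, smul_eq_mul, Finsupp.smul_apply]
      exact Finset.sum_congr rfl fun i _ => mul_comm _ _
    conv_rhs => rw [hl]
    rw [map_sum]
    refine Finset.sum_congr rfl fun i _ => ?_
    rw [map_smul, smul_eq_mul, Algebra.smul_def]
  refine ⟨∑ i, e i ⊗ₜ[A] Φ ⟨e.coord i⟩, ?_, fun l => (hpair l).symm⟩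
  rw [mem_annihilator_iff]
  intro s
  apply ext_pair e
  intro l
  rw [pair_mul_left, pair_mul_right]
  have h1 := hpair ⟨l.comp (LinearMap.mulLeft A s)⟩
  have h2 := hpair ⟨l⟩
  simp only at h1 h2
  rw [h1, h2, ← smul_eq_mul, ← map_smul]
  rfl

lemma xi_unique [Module.Finite A B] [Module.Free A B] (Φ : Disc.Omega A B →ₗ[B] B)
    {ξ ξ' : B ⊗[A] B} (h : ∀ l : Disc.Omega A B, Φ l = pair l.toLinearMap ξ)
    (h' : ∀ l : Disc.Omega A B, Φ l = pair l.toLinearMap ξ') : ξ = ξ' := by
  classical
  exact ext_pair (Module.Free.chooseBasis A B) fun l => by rw [← h ⟨l⟩, ← h' ⟨l⟩]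

lemma pair_trace [Module.Finite A B] [Module.Free A B] {ξ : B ⊗[A] B}
    (hξ : ξ ∈ Submodule.annihilator (RingHom.ker (Algebra.TensorProduct.lmul' (S := B) A))) :
    pair (Algebra.trace A B) ξ = Algebra.TensorProduct.lmul' A ξ := by
  classical
  let e := Module.Free.chooseBasis A B
  have h1 : Algebra.traceForm A B 1 = Algebra.trace A B := by
    ext u; simp
  have h2 : pair (Algebra.trace A B) = TraceEtale.theta (A := A) (1 : B) := by
    rw [pair, TraceEtale.theta, h1]
  rw [h2, TraceEtale.theta_eq_sum e]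
  have h3 := (mem_annihilator_iff ξ).mp hξ
  simp_rw [h3]
  rw [TraceEtale.sum_chi_eq, one_mul]

/-- the `B`-linear map attached to an element of the annihilator -/
noncomputable def ofXi (ξ : B ⊗[A] B)
    (hξ : ξ ∈ Submodule.annihilator (RingHom.ker (Algebra.TensorProduct.lmul' (S := B) A))) :
    Disc.Omega A B →ₗ[B] B where
  toFun l := pair l.toLinearMap ξ
  map_add' l l' := by
    show pair (l.toLinearMap + l'.toLinearMap) ξ = _
    rw [pair_add]
  map_smul' s l := by
    show pair (l.toLinearMap ∘ₗ LinearMap.mulLeft A s) ξ = s • pair l.toLinearMap ξ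
    rw [← pair_mul_left, (mem_annihilator_iff ξ).mp hξ s, pair_mul_right, smul_eq_mul]

lemma lmul'_surjective : Function.Surjective (Algebra.TensorProduct.lmul' (S := B) A) :=
  fun b => ⟨b ⊗ₜ 1, by simp⟩

theorem noetherDifferent_eq_range [Module.Finite A B] [Module.Free A B] :
    (Disc.noetherDifferent A B : Set B) =
      Set.range (fun φ : Disc.Omega A B →ₗ[B] B => φ (Disc.Omega.trace A B)) := by
  ext b
  rw [SetLike.mem_coe, Disc.noetherDifferent, Ideal.mem_map_iff_of_surjective _ lmul'_surjective]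
  constructor
  · rintro ⟨ξ, hξ, rfl⟩
    exact ⟨ofXi ξ hξ, pair_trace hξ⟩
  · rintro ⟨Φ, rfl⟩
    obtain ⟨ξ, hξ, h⟩ := exists_xi Φ
    refine ⟨ξ, hξ, ?_⟩
    show _ = Φ (Disc.Omega.trace A B)
    rw [h, ← pair_trace hξ]
    rfl

theorem norm_mem_span_discr {ι : Type*} [Fintype ι] [DecidableEq ι]
    (b : Module.Basis ι A B) (x : B) (hx : x ∈ Disc.differentSet A B) :
    Algebra.norm A x ∈ Ideal.span {Algebra.discr A b} := by
  choose c hc using fun i => hx (b.coord i)
  have hM : Algebra.leftMulMatrix b x =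
      (Matrix.of fun i k => b.repr (c i) k) * Algebra.traceMatrix A b := by
    ext i j
    rw [Algebra.leftMulMatrix_eq_repr_mul, Matrix.mul_apply]
    have := hc i (b j)
    rw [Module.Basis.coord_apply] at this
    rw [this]
    conv_lhs => rw [← b.sum_repr (c i)]
    rw [Finset.sum_mul, map_sum]
    refine Finset.sum_congr rfl fun k _ => ?_
    rw [smul_mul_assoc, map_smul, smul_eq_mul, Matrix.of_apply, Algebra.traceMatrix_apply,
      Algebra.traceForm_apply]
  rw [Algebra.norm_eq_matrix_det b, hM, Matrix.det_mul, Algebra.discr_def]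
  exact Ideal.mem_span_singleton'.mpr ⟨_, rfl⟩

theorem differentSet_eq_noetherDifferent [Module.Finite A B] [Module.Free A B]
    [Module.Invertible B (Disc.Omega A B)] :
    Disc.differentSet A B = (Disc.noetherDifferent A B : Set B) := by
  classical
  rw [noetherDifferent_eq_range]
  ext b
  constructor
  · intro hb
    choose c hc using fun l : Disc.Omega A B => hb l.toLinearMap
    have hc' : ∀ l : Disc.Omega A B, b • l = c l • Disc.Omega.trace A B := by
      intro l
      apply Disc.Omega.ext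
      ext x
      simpa [Disc.Omega.trace] using hc l x
    let e := Module.Invertible.linearEquiv B (Disc.Omega A B)
    have he : ∀ (g : Module.Dual B (Disc.Omega A B)) (m : Disc.Omega A B),
        e (g ⊗ₜ[B] m) = g m := fun g m => rfl
    obtain ⟨S, hS⟩ := TensorProduct.exists_finset (e.symm 1)
    have hsum : ∑ p ∈ S, p.1 p.2 = 1 := by
      have h1 : e (e.symm 1) = 1 := LinearEquiv.apply_symm_apply _ _
      rw [hS, map_sum] at h1
      simpa [he] using h1
    refine ⟨∑ p ∈ S, c p.2 • p.1, ?_⟩
    show (∑ p ∈ S, c p.2 • p.1) (Disc.Omega.trace A B) = b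
    rw [LinearMap.sum_apply]
    calc ∑ p ∈ S, (c p.2 • p.1) (Disc.Omega.trace A B)
        = ∑ p ∈ S, p.1 (c p.2 • Disc.Omega.trace A B) := by
          refine Finset.sum_congr rfl fun p _ => ?_
          rw [LinearMap.smul_apply, map_smul]
      _ = ∑ p ∈ S, b * p.1 p.2 := by
          refine Finset.sum_congr rfl fun p _ => ?_
          rw [← hc', map_smul, smul_eq_mul]
      _ = b := by rw [← Finset.mul_sum, hsum, mul_one]
  · rintro ⟨Φ, rfl⟩
    intro φ
    refine ⟨Φ ⟨φ⟩, fun x => ?_⟩
    have h := rank_one Φ (Disc.Omega.trace A B) (⟨φ⟩ : Disc.Omega A B)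
    have h' := congrArg (fun l : Disc.Omega A B => l.toLinearMap x) h
    simpa [Disc.Omega.trace] using h'

end Groth.Agent.Lead.NoetherDiff
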