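import Mathlib

/-! For a quasi-compact morphism of schemes, every point in the closure of the image is a
specialization of a point of the image (Stacks 01K9-like). -/

namespace Groth.Agent.Lead

open AlgebraicGeometry CategoryTheory

universe u

theorem exists_comap_specializes {A B : Type u} [CommRing A] [CommRing B] (φ : A →+* B)
    (p : PrimeSpectrum A) (hp : p ∈ closure (Set.range (PrimeSpectrum.comap φ))) :
    ∃ q : PrimeSpectrum B, PrimeSpectrum.comap φ q ⤳ p := by
  rw [PrimeSpectrum.closure_range_comap, PrimeSpectrum.mem_zeroLocus] at hp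
  obtain ⟨p₀, hp₀, hle⟩ := Ideal.exists_minimalPrimes_le (I := RingHom.ker φ) (J := p.asIdeal) hp
  have hmin : p₀ ∈ ((⊥ : Ideal B).comap φ).minimalPrimes := by
    rwa [← RingHom.ker_eq_comap_bot]
  obtain ⟨q, hq, -, hqc⟩ := Ideal.exists_comap_eq_of_mem_minimalPrimes φ p₀ hmin
  refine ⟨⟨q, hq⟩, ?_⟩
  rw [← PrimeSpectrum.le_iff_specializes, ← PrimeSpectrum.asIdeal_le_asIdeal]
  show q.comap φ ≤ p.asIdeal
  rw [hqc]
  exact hle

theorem exists_specializes_of_mem_closure_range {X S : Scheme.{u}} (f : X ⟶ S) [QuasiCompact f]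
    (s : S) (hs : s ∈ closure (Set.range f.base)) : ∃ x : X, f.base x ⤳ s := by
  obtain ⟨U, hU, hsU, -⟩ := TopologicalSpace.Opens.isBasis_iff_nbhd.mp S.isBasis_affineOpens
    (show s ∈ (⊤ : S.Opens) from trivial)
  have hU' : IsAffineOpen U := hU
  have hcpt : IsCompact ((f ⁻¹ᵁ U : X.Opens) : Set X) := f.isCompact_preimage hU'.isCompact
  obtain ⟨R, g, hg⟩ := isCompact_iff_exists.mp hcpt
  have hrange : Set.range (g ≫ f).base = Set.range f.base ∩ (U : Set S) := by
    ext y
    simp only [Scheme.Hom.comp_base, TopCat.coe_comp, Set.mem_range, Function.comp_apply,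
      Set.mem_inter_iff, SetLike.mem_coe]
    constructor
    · rintro ⟨z, rfl⟩
      refine ⟨⟨g.base z, rfl⟩, ?_⟩
      have : g.base z ∈ Set.range g.base := ⟨z, rfl⟩
      rw [hg] at this
      exact this
    · rintro ⟨⟨x, rfl⟩, hxU⟩
      have : x ∈ Set.range g.base := by rw [hg]; exact hxU
      obtain ⟨z, rfl⟩ := this
      exact ⟨z, rfl⟩
  have hsub : Set.range (g ≫ f).base ⊆ Set.range hU'.fromSpec.base := by
    rw [hU'.range_fromSpec, hrange]
    exact Set.inter_subset_right
  set l := IsOpenImmersion.lift hU'.fromSpec (g ≫ f) hsub with hl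
  have hfac : l ≫ hU'.fromSpec = g ≫ f := IsOpenImmersion.lift_fac _ _ _
  obtain ⟨φ, hφ⟩ := Spec.map_surjective l
  -- the point of Spec Γ(S, U) corresponding to s
  have hsr : s ∈ Set.range hU'.fromSpec.base := by rw [hU'.range_fromSpec]; exact hsU
  obtain ⟨p, rfl⟩ := hsr
  have hemb : Topology.IsOpenEmbedding hU'.fromSpec.base := hU'.fromSpec.isOpenEmbedding
  -- p is in the closure of range of l
  have hp : p ∈ closure (Set.range l.base) := by
    rw [hemb.isEmbedding.closure_eq_preimage_closure_image]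
    show hU'.fromSpec.base p ∈ closure (hU'.fromSpec.base '' Set.range l.base)
    have e : hU'.fromSpec.base '' Set.range l.base = Set.range (g ≫ f).base := by
      rw [← Set.range_comp, ← hfac]
      rfl
    rw [e, hrange]
    -- closure A ∩ U ⊆ closure (A ∩ U)
    rw [mem_closure_iff] at hs ⊢
    intro o ho hpo
    obtain ⟨y, hy1, hy2⟩ := hs (o ∩ (U : Set S)) (ho.inter U.2) ⟨hpo, hsU⟩
    exact ⟨y, hy1.1, hy2, hy1.2⟩
  rw [← hφ] at hp
  obtain ⟨q, hq⟩ := exists_comap_specializes φ.hom p hp
  refine ⟨g.base q, ?_⟩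
  have h1 : f.base (g.base q) = hU'.fromSpec.base (l.base q) := by
    have := congrArg (fun h => h.base q) hfac
    exact this.symm
  rw [h1, ← hφ]
  exact hq.map hU'.fromSpec.base.hom.continuous

end Groth.Agent.Lead
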