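import Mathlib

/-!
# A hand-made `Tor₁` calculus (lead), universe polymorphic

For a presentation `K → G → X → 0` with `G` flat, "`Tor₁(X, N) = 0`" is expressed as injectivity of
`N ⊗ K → N ⊗ G`.
-/

set_option autoImplicit false
open TensorProduct

namespace Groth.Agent.Lead.TorFree

variable {R : Type*} [CommRing R]

/-- commutation of `rTensor` and `lTensor`. -/
theorem sq {A B A' B' : Type*} [AddCommGroup A] [Module R A] [AddCommGroup B] [Module R B]
    [AddCommGroup A'] [Module R A'] [AddCommGroup B'] [Module R B']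
    (a : A →ₗ[R] A') (b : B →ₗ[R] B') (t : A ⊗[R] B) :
    (b.lTensor A') ((a.rTensor B) t) = (a.rTensor B') ((b.lTensor A) t) := by
  rw [← LinearMap.comp_apply, ← LinearMap.comp_apply, LinearMap.lTensor_comp_rTensor,
    LinearMap.rTensor_comp_lTensor]

/-- `Tor₁(M₃, N) = 0` (computed through a presentation of `N`) gives injectivity of `M₁ ⊗ N → M₂ ⊗ N`. -/
theorem rTensor_injective_of_tor {M₁ M₂ M₃ : Type*} [AddCommGroup M₁] [Module R M₁]
    [AddCommGroup M₂] [Module R M₂] [AddCommGroup M₃] [Module R M₃]
    (f : M₁ →ₗ[R] M₂) (g : M₂ →ₗ[R] M₃) (hf : Function.Injective f) (hexact : Function.Exact f g)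
    (hg : Function.Surjective g)
    (N : Type*) [AddCommGroup N] [Module R N]
    (F : Type*) [AddCommGroup F] [Module R F] [Module.Flat R F]
    (K : Type*) [AddCommGroup K] [Module R K]
    (ι : K →ₗ[R] F) (π : F →ₗ[R] N) (hex : Function.Exact ι π)
    (hπs : Function.Surjective π) (hι3 : Function.Injective (ι.lTensor M₃)) :
    Function.Injective (f.rTensor N) := by
  classical
  have hgf : g ∘ₗ f = 0 := by
    ext x
    exact hexact.apply_apply_eq_zero x
  have hπι : π ∘ₗ ι = 0 := by
    ext x
    exact hex.apply_apply_eq_zero x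
  have hfF : Function.Injective (f.rTensor F) :=
    Module.Flat.rTensor_preserves_injective_linearMap f hf
  rw [injective_iff_map_eq_zero]
  intro z hz
  obtain ⟨w, rfl⟩ := LinearMap.lTensor_surjective M₁ hπs z
  have e2 : (π.lTensor M₂) ((f.rTensor F) w) = 0 := by
    rw [sq, hz]
  obtain ⟨v, hv⟩ := (lTensor_exact M₂ hex hπs _).mp e2
  have e4 : (g.rTensor K) v = 0 := by
    apply hι3
    rw [map_zero, sq, hv, ← LinearMap.comp_apply, ← LinearMap.rTensor_comp, hgf,
      LinearMap.rTensor_zero, LinearMap.zero_apply]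
  obtain ⟨u, hu⟩ := (rTensor_exact K hexact hg _).mp e4
  have e6 : (ι.lTensor M₁) u = w := by
    apply hfF
    rw [← sq, hu, hv]
  rw [← e6, ← LinearMap.comp_apply, ← LinearMap.lTensor_comp, hπι, LinearMap.lTensor_zero,
    LinearMap.zero_apply]

/-- the standard free presentation -/
theorem exists_pres (X : Type*) [AddCommGroup X] [Module R X] :
    ∃ (L : Submodule R (X →₀ R)) (π : (X →₀ R) →ₗ[R] X),
      Function.Exact L.subtype π ∧ Function.Surjective π :=
  ⟨LinearMap.ker (Finsupp.linearCombination R (id : X → X)),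
    Finsupp.linearCombination R (id : X → X),
    by rw [LinearMap.exact_iff]; exact (Submodule.range_subtype _).symm,
    Finsupp.linearCombination_id_surjective R X⟩

/-- If `0 → M₁ → M₂ → M₃ → 0` is exact with `M₃` flat, then `M₁ ⊗ N → M₂ ⊗ N` is injective. -/
theorem rTensor_injective_of_flat_coker {M₁ M₂ M₃ : Type*} [AddCommGroup M₁] [Module R M₁]
    [AddCommGroup M₂] [Module R M₂] [AddCommGroup M₃] [Module R M₃]
    (f : M₁ →ₗ[R] M₂) (g : M₂ →ₗ[R] M₃) (hf : Function.Injective f) (hexact : Function.Exact f g)
    (hg : Function.Surjective g) [Module.Flat R M₃]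
    (N : Type*) [AddCommGroup N] [Module R N] : Function.Injective (f.rTensor N) := by
  obtain ⟨L, π, hex, hπ⟩ := exists_pres (R := R) N
  exact rTensor_injective_of_tor f g hf hexact hg N (N →₀ R) L L.subtype π hex hπ
    (Module.Flat.lTensor_preserves_injective_linearMap L.subtype (Submodule.injective_subtype L))

variable {K G : Type*} [AddCommGroup K] [Module R K] [AddCommGroup G] [Module R G]

/-- `Tor₁(X, -)` vanishing is stable under extensions. -/
theorem lTensor_injective_of_exact [Module.Flat R G] (κ : K →ₗ[R] G)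
    {N₁ N₂ N₃ : Type*} [AddCommGroup N₁] [Module R N₁] [AddCommGroup N₂] [Module R N₂]
    [AddCommGroup N₃] [Module R N₃] (a : N₁ →ₗ[R] N₂) (b : N₂ →ₗ[R] N₃)
    (ha : Function.Injective a) (hab : Function.Exact a b) (hb : Function.Surjective b)
    (h1 : Function.Injective (κ.lTensor N₁)) (h3 : Function.Injective (κ.lTensor N₃)) :
    Function.Injective (κ.lTensor N₂) := by
  have hG : Function.Injective (a.rTensor G) :=
    Module.Flat.rTensor_preserves_injective_linearMap a ha
  rw [injective_iff_map_eq_zero]
  intro z hz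
  have e1 : (b.rTensor K) z = 0 := by
    apply h3
    rw [map_zero, sq, hz, map_zero]
  obtain ⟨x, rfl⟩ := (rTensor_exact K hab hb _).mp e1
  have e2 : (κ.lTensor N₁) x = 0 := by
    apply hG
    rw [map_zero, ← sq, hz]
  rw [h1 (e2.trans (map_zero _).symm), map_zero]

/-- `Tor₁(X, -)` vanishing passes to retracts. -/
theorem lTensor_injective_of_retract (κ : K →ₗ[R] G)
    {N N' : Type*} [AddCommGroup N] [Module R N] [AddCommGroup N'] [Module R N']
    (s : N' →ₗ[R] N) (r : N →ₗ[R] N') (hrs : ∀ x, r (s x) = x)
    (h : Function.Injective (κ.lTensor N)) : Function.Injective (κ.lTensor N') := by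
  rw [injective_iff_map_eq_zero]
  intro z hz
  have e1 : (s.rTensor K) z = 0 := by
    apply h
    rw [map_zero, sq, hz, map_zero]
  have e2 : (r.rTensor K) ((s.rTensor K) z) = z := by
    rw [← LinearMap.comp_apply, ← LinearMap.rTensor_comp]
    have : r ∘ₗ s = LinearMap.id := LinearMap.ext hrs
    rw [this, LinearMap.rTensor_id, LinearMap.id_apply]
  rw [← e2, e1, map_zero]

variable {X : Type*} [AddCommGroup X] [Module R X]

/-- If `Tor₁^R(X, S) = 0` and `S ⊗ X` is `S`-flat then `Tor₁^R(X, C) = 0` for every `S`-module `C`. -/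
theorem lTensor_injective_of_baseChange_flat
    (κ : K →ₗ[R] G) (ρ : G →ₗ[R] X) (hex : Function.Exact κ ρ) (hρ : Function.Surjective ρ)
    (S : Type*) [CommRing S] [Algebra R S] (hS : Function.Injective (κ.lTensor S))
    [Module.Flat S (S ⊗[R] X)]
    (C : Type*) [AddCommGroup C] [Module R C] [Module S C] [IsScalarTower R S C] :
    Function.Injective (κ.lTensor C) := by
  have h1 : Function.Injective (κ.baseChange S) := by
    rw [LinearMap.baseChange_eq_ltensor]; exact hS
  have h2 : Function.Exact (κ.baseChange S) (ρ.baseChange S) := by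
    rw [LinearMap.baseChange_eq_ltensor, LinearMap.baseChange_eq_ltensor]
    exact lTensor_exact S hex hρ
  have h3 : Function.Surjective (ρ.baseChange S) := by
    rw [LinearMap.baseChange_eq_ltensor]; exact LinearMap.lTensor_surjective S hρ
  have h4 : Function.Injective ((κ.baseChange S).rTensor C) :=
    rTensor_injective_of_flat_coker (κ.baseChange S) (ρ.baseChange S) h1 h2 h3 C
  have h5 : Function.Injective ((κ.baseChange S).lTensor C) :=
    (LinearMap.lTensor_inj_iff_rTensor_inj C (κ.baseChange S)).2 h4
  have sq' : ∀ w : C ⊗[S] (S ⊗[R] K),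
      TensorProduct.AlgebraTensorModule.cancelBaseChange R S S C G ((κ.baseChange S).lTensor C w) =
        κ.lTensor C (TensorProduct.AlgebraTensorModule.cancelBaseChange R S S C K w) := by
    intro w
    induction w using TensorProduct.induction_on with
    | zero => simp
    | tmul c y =>
      induction y using TensorProduct.induction_on with
      | zero => simp
      | tmul s k =>
        rw [LinearMap.lTensor_tmul, LinearMap.baseChange_tmul,
          TensorProduct.AlgebraTensorModule.cancelBaseChange_tmul,
          TensorProduct.AlgebraTensorModule.cancelBaseChange_tmul, LinearMap.lTensor_tmul]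
      | add y₁ y₂ h₁ h₂ =>
        rw [TensorProduct.tmul_add, map_add, map_add, map_add, map_add, h₁, h₂]
    | add w₁ w₂ h₁ h₂ => rw [map_add, map_add, map_add, map_add, h₁, h₂]
  rw [injective_iff_map_eq_zero]
  intro z hz
  obtain ⟨w, rfl⟩ := (TensorProduct.AlgebraTensorModule.cancelBaseChange R S S C K).surjective z
  rw [← sq'] at hz
  have h6 : (κ.baseChange S).lTensor C w = 0 :=
    (TensorProduct.AlgebraTensorModule.cancelBaseChange R S S C G).injective
      (hz.trans (map_zero _).symm)
  rw [h5 (h6.trans (map_zero _).symm), map_zero]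

/-- Flatness from vanishing of `Tor₁(X, R ⧸ I)` for all ideals `I`. -/
theorem flat_of_lTensor_injective [Module.Flat R G]
    (κ : K →ₗ[R] G) (ρ : G →ₗ[R] X) (hex : Function.Exact κ ρ) (hρ : Function.Surjective ρ)
    (h : ∀ I : Ideal R, Function.Injective (κ.lTensor (R ⧸ I))) : Module.Flat R X := by
  rw [Module.Flat.iff_rTensor_injective']
  intro I
  exact rTensor_injective_of_tor I.subtype I.mkQ (Submodule.injective_subtype _)
    (LinearMap.exact_subtype_mkQ I) I.mkQ_surjective X G K κ ρ hex hρ (h I)

end Groth.Agent.Lead.TorFree
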