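import Mathlib
import Groth.Agent.Lib.Lead.IndEt
import Groth.Prelude.Def_EtAlgD

/-!
# Weakly étale algebras over a field

Elementwise purity of the diagonal ideal (`DiagPure`) and its consequences over a field:
integrality, reducedness, separability of residue fields, étaleness of finitely generated
subalgebras.
-/

set_option autoImplicit false
universe u
open TensorProduct

namespace Groth.Agent.Lead.WEField

section pure
variable {R S : Type*} [CommRing R] [CommRing S]

lemma pure_of_elementwise (I : Ideal R) (h : ∀ x ∈ I, ∃ y ∈ I, x = x * y) : I.Pure := by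
  apply Ideal.Pure.of_inf_eq_mul
  intro J _
  refine le_antisymm ?_ Ideal.mul_le_inf
  rintro x ⟨hxI, hxJ⟩
  obtain ⟨y, hy, hxy⟩ := h x hxI
  rw [hxy, mul_comm x y]
  exact Ideal.mul_mem_mul hy hxJ

lemma pure_ker_iff_flat [Algebra R S] (hs : Function.Surjective (algebraMap R S)) :
    (RingHom.ker (algebraMap R S)).Pure ↔ Module.Flat R S := by
  have hk : RingHom.ker (Algebra.ofId R S) = RingHom.ker (algebraMap R S) := by
    ext x; simp [RingHom.mem_ker]
  have e : (R ⧸ RingHom.ker (Algebra.ofId R S)) ≃ₐ[R] S :=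
    Ideal.quotientKerAlgEquivOfSurjective (f := Algebra.ofId R S) hs
  rw [← hk]
  constructor
  · intro h
    haveI : Module.Flat R (R ⧸ RingHom.ker (Algebra.ofId R S)) := h
    exact Module.Flat.of_linearEquiv e.toLinearEquiv.symm
  · intro h
    exact Module.Flat.of_linearEquiv e.toLinearEquiv

/-- Descent of flatness of a "multiplication map" along a flat map with a linear retraction. -/
lemma flat_descent {TE TL E L : Type*} [CommRing TE] [CommRing TL] [CommRing E] [CommRing L]
    (φ : TE →+* TL) (μL : TL →+* L) (μE : TE →+* E) (ι : E →+* L)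
    (hcomm : μL.comp φ = ι.comp μE) (hφ : φ.Flat) (hμ : μL.Flat)
    (r : L →+ E) (hr1 : ∀ e l, r (ι e * l) = e * r l) (hr2 : ∀ e, r (ι e) = e) : μE.Flat := by
  have h1 : (μL.comp φ).Flat := RingHom.Flat.comp hφ hμ
  rw [hcomm] at h1
  letI := μE.toAlgebra
  letI := (ι.comp μE).toAlgebra
  have hL : Module.Flat TE L := h1
  show Module.Flat TE E
  let i : E →ₗ[TE] L :=
    { toFun := ι, map_add' := map_add ι, map_smul' := fun t e => by
        show ι (μE t * e) = ι (μE t) * ι e
        exact map_mul ι _ _ }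
  let r' : L →ₗ[TE] E :=
    { toFun := r, map_add' := map_add r, map_smul' := fun t l => by
        show r (ι (μE t) * l) = μE t * r l
        exact hr1 _ _ }
  exact Module.Flat.of_retract i r' (by ext e; exact hr2 e)

end pure

section diag
variable {R B B' : Type*} [CommRing R] [CommRing B] [CommRing B'] [Algebra R B] [Algebra R B']

/-- Elementwise purity of the kernel of the multiplication map. -/
def DiagPure (R B : Type*) [CommRing R] [CommRing B] [Algebra R B] : Prop :=
  ∀ x : B ⊗[R] B, Algebra.TensorProduct.lmul' R x = 0 →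
    ∃ y : B ⊗[R] B, Algebra.TensorProduct.lmul' R y = 0 ∧ x = x * y

lemma lmul'_map (φ : B →ₐ[R] B') (t : B ⊗[R] B) :
    Algebra.TensorProduct.lmul' R (Algebra.TensorProduct.map φ φ t)
      = φ (Algebra.TensorProduct.lmul' R t) := by
  induction t using TensorProduct.induction_on with
  | zero => simp
  | tmul a b => simp
  | add a b ha hb => simp [ha, hb]

variable (R B) in
theorem weaklyEtale_iff_diagPure [Module.Flat R B] :
    Algebra.WeaklyEtale R B ↔ DiagPure R B := by
  letI : Algebra (B ⊗[R] B) B := (Algebra.TensorProduct.lmul' R (S := B)).toRingHom.toAlgebra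
  have hs : Function.Surjective (algebraMap (B ⊗[R] B) B) := fun b => ⟨b ⊗ₜ 1, by
    show Algebra.TensorProduct.lmul' R (b ⊗ₜ[R] (1:B)) = b
    simp⟩
  have hmem : ∀ x : B ⊗[R] B, x ∈ RingHom.ker (algebraMap (B ⊗[R] B) B) ↔
      Algebra.TensorProduct.lmul' R x = 0 := fun x => Iff.rfl
  constructor
  · intro h
    have hf : Module.Flat (B ⊗[R] B) B := Algebra.WeaklyEtale.flat_lmul' R B
    haveI : (RingHom.ker (algebraMap (B ⊗[R] B) B)).Pure := (pure_ker_iff_flat hs).mpr hf
    intro x hx
    obtain ⟨y, hy, hxy⟩ := Ideal.exists_eq_mul_of_pure ((hmem x).mpr hx)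
    exact ⟨y, (hmem y).mp hy, hxy⟩
  · intro h
    refine ⟨inferInstance, ?_⟩
    show Module.Flat (B ⊗[R] B) B
    rw [← pure_ker_iff_flat hs]
    apply pure_of_elementwise
    intro x hx
    obtain ⟨y, hy, hxy⟩ := h x ((hmem x).mp hx)
    exact ⟨y, (hmem y).mpr hy, hxy⟩

lemma DiagPure.of_surjective (φ : B →ₐ[R] B') (hφ : Function.Surjective φ) (h : DiagPure R B) :
    DiagPure R B' := by
  intro x' hx'
  have hsurj : Function.Surjective (Algebra.TensorProduct.map φ φ) := by
    intro t
    obtain ⟨s, hs⟩ := TensorProduct.map_surjective (g := φ.toLinearMap) (g' := φ.toLinearMap)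
      hφ hφ t
    exact ⟨s, hs⟩
  obtain ⟨x, rfl⟩ := hsurj x'
  have h1 : φ (Algebra.TensorProduct.lmul' R x) = 0 := by rw [← lmul'_map]; exact hx'
  have hx0 : Algebra.TensorProduct.lmul' R (x - (Algebra.TensorProduct.lmul' R x) ⊗ₜ[R] (1:B)) = 0 := by
    simp
  have hmap : Algebra.TensorProduct.map φ φ (x - (Algebra.TensorProduct.lmul' R x) ⊗ₜ[R] (1:B))
      = Algebra.TensorProduct.map φ φ x := by
    rw [map_sub, Algebra.TensorProduct.map_tmul, h1, zero_tmul, sub_zero]
  obtain ⟨y, hy, hxy⟩ := h _ hx0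
  refine ⟨Algebra.TensorProduct.map φ φ y, ?_, ?_⟩
  · rw [lmul'_map, hy, map_zero]
  · rw [← hmap, ← map_mul, ← hxy]

lemma DiagPure.formallyUnramified (h : DiagPure R B) : Algebra.FormallyUnramified R B := by
  refine ⟨?_⟩
  show Subsingleton (KaehlerDifferential.ideal R B).Cotangent
  rw [Ideal.cotangent_subsingleton_iff]
  refine le_antisymm Ideal.mul_le_right ?_
  intro x hx
  obtain ⟨y, hy, hxy⟩ := h x hx
  rw [hxy]
  exact Ideal.mul_mem_mul hx hy

end diag

section field
variable {K B : Type*} [Field K] [CommRing B] [Algebra K B]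

/-- `D lam (a ⊗ a') = lam a' • a`. -/
noncomputable def D (lam : B →ₗ[K] K) : B ⊗[K] B →ₗ[K] B :=
  (TensorProduct.rid K B).toLinearMap ∘ₗ LinearMap.lTensor B lam

lemma D_tmul (lam : B →ₗ[K] K) (a a' : B) : D lam (a ⊗ₜ[K] a') = lam a' • a := by
  simp [D]

lemma D_mul_left (lam : B →ₗ[K] K) (a : B) (t : B ⊗[K] B) :
    D lam ((a ⊗ₜ[K] (1:B)) * t) = a * D lam t := by
  induction t using TensorProduct.induction_on with
  | zero => simp
  | tmul x y =>
    rw [Algebra.TensorProduct.tmul_mul_tmul, one_mul, D_tmul, D_tmul, mul_smul_comm]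
  | add x y hx hy => rw [mul_add, map_add, map_add, hx, hy, mul_add]

lemma D_mul_right (lam : B →ₗ[K] K) (b : B) (t : B ⊗[K] B) :
    D lam (((1:B) ⊗ₜ[K] b) * t) = D (lam ∘ₗ LinearMap.mulLeft K b) t := by
  induction t using TensorProduct.induction_on with
  | zero => simp
  | tmul x y =>
    rw [Algebra.TensorProduct.tmul_mul_tmul, one_mul, D_tmul, D_tmul]
    rfl
  | add x y hx hy => rw [mul_add, map_add, map_add, hx, hy]

theorem DiagPure.isIntegral (h : DiagPure K B) (b : B) : IsIntegral K b := by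
  classical
  obtain ⟨y, hy, hxy⟩ := h (b ⊗ₜ[K] (1:B) - (1:B) ⊗ₜ[K] b) (by simp)
  have hμs : Algebra.TensorProduct.lmul' K (1 - y) = 1 := by rw [map_sub, map_one, hy, sub_zero]
  have hxs : (b ⊗ₜ[K] (1:B)) * (1 - y) = ((1:B) ⊗ₜ[K] b) * (1 - y) := by
    have : (b ⊗ₜ[K] (1:B) - (1:B) ⊗ₜ[K] b) * (1 - y) = 0 := by
      rw [mul_sub, mul_one, ← hxy, sub_self]
    rwa [sub_mul, sub_eq_zero] at this
  generalize (1 - y) = s at hμs hxs
  let 𝔟 := Module.Basis.ofVectorSpace K B
  let e := TensorProduct.equivFinsuppOfBasisRight (M := B) 𝔟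
  let c := e s
  have hsc : s = c.sum fun i m => m ⊗ₜ[K] 𝔟 i := by
    rw [← TensorProduct.equivFinsuppOfBasisRight_symm_apply]
    exact (e.symm_apply_apply s).symm
  let N : Submodule K B := Submodule.span K (c '' (c.support : Set _))
  let V : Submodule K B := Submodule.span K (𝔟 '' (c.support : Set _))
  have hD : ∀ lam : B →ₗ[K] K, D lam s ∈ N := by
    intro lam
    have : D lam s = D lam (c.sum fun i m => m ⊗ₜ[K] 𝔟 i) := by rw [← hsc]
    rw [this, Finsupp.sum, map_sum]
    refine Submodule.sum_mem _ fun i hi => ?_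
    rw [D_tmul]
    exact Submodule.smul_mem _ _ (Submodule.subset_span ⟨i, hi, rfl⟩)
  have hc : ∀ i, c i = D (𝔟.coord i) s := fun i =>
    TensorProduct.equivFinsuppOfBasisRight_apply 𝔟 s i
  have hstab : ∀ n ∈ N, b * n ∈ N := by
    intro n hn
    induction hn using Submodule.span_induction with
    | mem n hn =>
      obtain ⟨i, _, rfl⟩ := hn
      rw [hc i, ← D_mul_left, hxs, D_mul_right]
      exact hD _
    | zero => simp
    | add x y _ _ hx hy => rw [mul_add]; exact N.add_mem hx hy
    | smul r x _ hx => rw [mul_smul_comm]; exact N.smul_mem r hx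
  have hadj : ∀ g ∈ Algebra.adjoin K {b}, ∀ n ∈ N, g * n ∈ N := by
    intro g hg
    induction hg using Algebra.adjoin_induction with
    | mem x hx =>
      rw [Set.mem_singleton_iff.mp hx]; exact hstab
    | algebraMap r => intro n hn; rw [← Algebra.smul_def]; exact N.smul_mem r hn
    | add x y _ _ hx hy => intro n hn; rw [add_mul]; exact N.add_mem (hx n hn) (hy n hn)
    | mul x y _ _ hx hy => intro n hn; rw [mul_assoc]; exact hx _ (hy n hn)
  have h1 : (1 : B) = ∑ i ∈ c.support, c i * 𝔟 i := by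
    have : Algebra.TensorProduct.lmul' K s
        = Algebra.TensorProduct.lmul' K (c.sum fun i m => m ⊗ₜ[K] 𝔟 i) := by rw [← hsc]
    rw [← hμs, this, Finsupp.sum, map_sum]
    exact Finset.sum_congr rfl fun i _ => Algebra.TensorProduct.lmul'_apply_tmul _ _
  have hle : Subalgebra.toSubmodule (Algebra.adjoin K {b}) ≤ N * V := by
    intro g hg
    have hg' : g = ∑ i ∈ c.support, (g * c i) * 𝔟 i := by
      calc g = g * 1 := (mul_one g).symm
        _ = g * ∑ i ∈ c.support, c i * 𝔟 i := congrArg (g * ·) h1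
        _ = ∑ i ∈ c.support, (g * c i) * 𝔟 i := by
          rw [Finset.mul_sum]
          exact Finset.sum_congr rfl fun i _ => (mul_assoc _ _ _).symm
    rw [hg']
    refine Submodule.sum_mem _ fun i hi => Submodule.mul_mem_mul
      (hadj g hg _ (Submodule.subset_span ⟨i, hi, rfl⟩)) (Submodule.subset_span ⟨i, hi, rfl⟩)
  have hNV : (N * V).FG :=
    Submodule.FG.mul (Submodule.fg_span ((Finset.finite_toSet _).image _))
      (Submodule.fg_span ((Finset.finite_toSet _).image _))
  have hfg : (Subalgebra.toSubmodule (Algebra.adjoin K {b})).FG := by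
    haveI : Module.Finite K ↥(N * V) := Module.Finite.iff_fg.mpr hNV
    haveI : FiniteDimensional K ↥(Subalgebra.toSubmodule (Algebra.adjoin K {b})) :=
      Submodule.finiteDimensional_of_le hle
    exact Module.Finite.iff_fg.mp inferInstance
  exact IsIntegral.of_mem_of_fg _ hfg b (Algebra.subset_adjoin rfl)

theorem DiagPure.isReduced (h : DiagPure K B) : IsReduced B := by
  rw [isReduced_iff_pow_one_lt 2 one_lt_two]
  intro n hn
  obtain ⟨y, hy, hxy⟩ := h (n ⊗ₜ[K] (1:B) - (1:B) ⊗ₜ[K] n) (by simp)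
  have hμs : Algebra.TensorProduct.lmul' K (1 - y) = 1 := by rw [map_sub, map_one, hy, sub_zero]
  have hxs : (n ⊗ₜ[K] (1:B)) * (1 - y) = ((1:B) ⊗ₜ[K] n) * (1 - y) := by
    have : (n ⊗ₜ[K] (1:B) - (1:B) ⊗ₜ[K] n) * (1 - y) = 0 := by
      rw [mul_sub, mul_one, ← hxy, sub_self]
    rwa [sub_mul, sub_eq_zero] at this
  generalize (1 - y) = s at hμs hxs
  have hnn : (n ⊗ₜ[K] n) * s = 0 := by
    have e1 : (n ⊗ₜ[K] n) = (n ⊗ₜ[K] (1:B)) * ((1:B) ⊗ₜ[K] n) := by
      rw [Algebra.TensorProduct.tmul_mul_tmul, mul_one, one_mul]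
    rw [e1, mul_assoc, ← hxs, ← mul_assoc, Algebra.TensorProduct.tmul_mul_tmul, ← sq, hn,
      zero_tmul, zero_mul]
  let m : B →ₗ[K] B := LinearMap.mulLeft K n
  have hmm : ∀ t : B ⊗[K] B, TensorProduct.map m m t = (n ⊗ₜ[K] n) * t := by
    intro t
    induction t using TensorProduct.induction_on with
    | zero => simp
    | tmul a b => simp [m, Algebra.TensorProduct.tmul_mul_tmul]
    | add a b ha hb => rw [map_add, ha, hb, mul_add]
  have hinj : Function.Injective
      (TensorProduct.map (LinearMap.range m).subtype (LinearMap.range m).subtype) :=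
    TensorProduct.map_injective_of_flat_flat _ _ (Submodule.subtype_injective _)
      (Submodule.subtype_injective _)
  have hker : TensorProduct.map m.rangeRestrict m.rangeRestrict s = 0 := by
    apply hinj
    rw [map_zero, ← LinearMap.comp_apply, ← TensorProduct.map_comp,
      LinearMap.subtype_comp_codRestrict, hmm, hnn]
  have hmem := (TensorProduct.map_ker (LinearMap.exact_subtype_ker_map m.rangeRestrict)
    m.surjective_rangeRestrict (LinearMap.exact_subtype_ker_map m.rangeRestrict)
    m.surjective_rangeRestrict).le (LinearMap.mem_ker.mpr hker)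
  have hz : ∀ z : LinearMap.ker m.rangeRestrict, n * (z : B) = 0 := by
    intro z
    have h1 := LinearMap.mem_ker.mp z.2
    have h2 := congrArg Subtype.val h1
    exact h2
  have h1 : ∀ u1, n * Algebra.TensorProduct.lmul' K
      (LinearMap.lTensor B (LinearMap.ker m.rangeRestrict).subtype u1) = 0 := by
    intro u1
    induction u1 using TensorProduct.induction_on with
    | zero => simp
    | tmul a z =>
      rw [LinearMap.lTensor_tmul, Submodule.subtype_apply,
        Algebra.TensorProduct.lmul'_apply_tmul, mul_left_comm, hz z, mul_zero]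
    | add a b ha hb => rw [map_add, map_add, mul_add, ha, hb, add_zero]
  have h2 : ∀ u2, n * Algebra.TensorProduct.lmul' K
      (LinearMap.rTensor B (LinearMap.ker m.rangeRestrict).subtype u2) = 0 := by
    intro u2
    induction u2 using TensorProduct.induction_on with
    | zero => simp
    | tmul z a =>
      rw [LinearMap.rTensor_tmul, Submodule.subtype_apply,
        Algebra.TensorProduct.lmul'_apply_tmul, ← mul_assoc, hz z, zero_mul]
    | add a b ha hb => rw [map_add, map_add, mul_add, ha, hb, add_zero]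
  have hkey : ∀ t ∈ (LinearMap.range (LinearMap.lTensor B (LinearMap.ker m.rangeRestrict).subtype) ⊔
      LinearMap.range (LinearMap.rTensor B (LinearMap.ker m.rangeRestrict).subtype)),
      n * Algebra.TensorProduct.lmul' K t = 0 := by
    intro t ht
    obtain ⟨t1, ⟨u1, rfl⟩, t2, ⟨u2, rfl⟩, rfl⟩ := Submodule.mem_sup.mp ht
    rw [map_add, mul_add, h1, h2, add_zero]
  have := hkey s hmem
  rw [hμs, mul_one] at this
  exact this

end field

section tower
open IntermediateField

/-- Weak étaleness descends to subfields. -/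
theorem weaklyEtale_of_tower (K E L : Type*) [Field K] [Field E] [Field L] [Algebra K E]
    [Algebra K L] [Algebra E L] [IsScalarTower K E L] [Algebra.WeaklyEtale K L] :
    Algebra.WeaklyEtale K E := by
  refine ⟨inferInstance, ?_⟩
  let ι : E →ₐ[K] L := IsScalarTower.toAlgHom K E L
  obtain ⟨r, hr⟩ := LinearMap.exists_leftInverse_of_injective (Algebra.linearMap E L)
    (LinearMap.ker_eq_bot.mpr (algebraMap E L).injective)
  refine flat_descent (Algebra.TensorProduct.map ι ι).toRingHom
    (Algebra.TensorProduct.lmul' K (S := L)).toRingHom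
    (Algebra.TensorProduct.lmul' K (S := E)).toRingHom (algebraMap E L) ?_ ?_
    (Algebra.WeaklyEtale.flat_lmul' K L) r.toAddMonoidHom ?_ ?_
  · refine RingHom.ext fun t => ?_
    exact lmul'_map ι t
  · exact RingHom.Flat.tensorProductMap (RingHom.Flat.of_isField (Field.toIsField E) _)
      (RingHom.Flat.of_isField (Field.toIsField E) _)
  · intro e l
    show r (algebraMap E L e * l) = e * r l
    rw [← Algebra.smul_def, map_smul, smul_eq_mul]
  · intro e
    exact LinearMap.congr_fun hr e

theorem DiagPure.isSeparable {K L : Type*} [Field K] [Field L] [Algebra K L] (h : DiagPure K L) :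
    Algebra.IsSeparable K L := by
  haveI : Algebra.WeaklyEtale K L := (weaklyEtale_iff_diagPure K L).mpr h
  refine ⟨fun a => ?_⟩
  have hint : IsIntegral K a := h.isIntegral a
  haveI : FiniteDimensional K K⟮a⟯ := IntermediateField.adjoin.finiteDimensional hint
  haveI : Algebra.WeaklyEtale K K⟮a⟯ := weaklyEtale_of_tower K K⟮a⟯ L
  haveI : Algebra.FormallyUnramified K K⟮a⟯ :=
    ((weaklyEtale_iff_diagPure K K⟮a⟯).mp inferInstance).formallyUnramified
  haveI : Algebra.IsSeparable K K⟮a⟯ := Algebra.FormallyUnramified.isSeparable K K⟮a⟯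
  have h1 : IsSeparable K (⟨a, IntermediateField.mem_adjoin_simple_self K a⟩ : K⟮a⟯) :=
    Algebra.IsSeparable.isSeparable K _
  have h2 := minpoly.algHom_eq (K⟮a⟯).val (K⟮a⟯).val.injective
    (⟨a, IntermediateField.mem_adjoin_simple_self K a⟩ : K⟮a⟯)
  unfold IsSeparable at h1 ⊢
  rw [← h2] at h1
  exact h1

theorem DiagPure.isSeparable_of_isDomain {K B : Type*} [Field K] [CommRing B] [IsDomain B]
    [Algebra K B] (h : DiagPure K B) : Algebra.IsSeparable K B := by
  haveI : Algebra.IsIntegral K B := ⟨h.isIntegral⟩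
  have hf : IsField B := isField_of_isIntegral_of_isField' (Field.toIsField K)
  letI := hf.toField
  exact h.isSeparable

end tower

section sub
variable {K B : Type u} [Field K] [CommRing B] [Algebra K B]

theorem DiagPure.etale_of_fg (h : DiagPure K B) (S : Subalgebra K B) (hS : S.FG) :
    Algebra.Etale K S := by
  haveI : Algebra.FiniteType K S := (Subalgebra.fg_iff_finiteType S).mp hS
  haveI : Algebra.IsIntegral K B := ⟨h.isIntegral⟩
  haveI : Algebra.IsIntegral K S := ⟨fun x => by
    have := h.isIntegral (x : B)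
    exact (isIntegral_algHom_iff S.val Subtype.val_injective).mp this⟩
  haveI : Module.Finite K S := Algebra.IsIntegral.finite
  haveI : IsReduced B := h.isReduced
  haveI : IsReduced S := isReduced_of_injective S.val Subtype.val_injective
  haveI : IsArtinianRing S := IsArtinianRing.of_finite K S
  haveI : Algebra.IsIntegral S B := Algebra.IsIntegral.tower_top (R := K)
  have hsep : ∀ 𝔪 : MaximalSpectrum S, Algebra.FormallyEtale K (S ⧸ 𝔪.asIdeal) := by
    intro 𝔪
    letI := Ideal.Quotient.field 𝔪.asIdeal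
    obtain ⟨𝔭, h𝔭max, h𝔭⟩ := Ideal.exists_ideal_over_maximal_of_isIntegral (S := B) 𝔪.asIdeal
      (by rw [(RingHom.injective_iff_ker_eq_bot (algebraMap S B)).mp Subtype.val_injective]
          exact bot_le)
    letI := Ideal.Quotient.field 𝔭
    let f : S ⧸ 𝔪.asIdeal →ₐ[K] B ⧸ 𝔭 := Ideal.quotientMapₐ 𝔭 S.val
      (fun x hx => by rw [← h𝔭] at hx; exact hx)
    letI : Algebra (S ⧸ 𝔪.asIdeal) (B ⧸ 𝔭) := f.toRingHom.toAlgebra
    haveI : IsScalarTower K (S ⧸ 𝔪.asIdeal) (B ⧸ 𝔭) :=
      IsScalarTower.of_algebraMap_eq fun k => (f.commutes k).symm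
    have hL : DiagPure K (B ⧸ 𝔭) :=
      h.of_surjective (Ideal.Quotient.mkₐ K 𝔭) Ideal.Quotient.mk_surjective
    haveI : Algebra.WeaklyEtale K (B ⧸ 𝔭) := (weaklyEtale_iff_diagPure K _).mpr hL
    haveI : Algebra.WeaklyEtale K (S ⧸ 𝔪.asIdeal) :=
      weaklyEtale_of_tower K (S ⧸ 𝔪.asIdeal) (B ⧸ 𝔭)
    haveI : Algebra.FormallyUnramified K (S ⧸ 𝔪.asIdeal) :=
      ((weaklyEtale_iff_diagPure K _).mp inferInstance).formallyUnramified
    haveI : Module.Finite K (S ⧸ 𝔪.asIdeal) :=
      Module.Finite.of_surjective (Ideal.Quotient.mkₐ K 𝔪.asIdeal).toLinearMap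
        Ideal.Quotient.mk_surjective
    haveI : Algebra.IsSeparable K (S ⧸ 𝔪.asIdeal) :=
      Algebra.FormallyUnramified.isSeparable K (S ⧸ 𝔪.asIdeal)
    exact Algebra.FormallyEtale.of_isSeparable K _
  haveI : Algebra.FormallyEtale K (Π 𝔪 : MaximalSpectrum S, S ⧸ 𝔪.asIdeal) := by
    rw [Algebra.FormallyEtale.pi_iff]; exact hsep
  haveI : Algebra.FormallyEtale K S :=
    Algebra.FormallyEtale.of_equiv ((IsArtinianRing.equivPi S).restrictScalars K).symm
  exact ⟨inferInstance, Algebra.FinitePresentation.of_finiteType.mp inferInstance⟩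

end sub

section pres
variable (K B : Type u) [CommRing K] [CommRing B] [Algebra K B]

/-- Finitely generated subalgebras. -/
abbrev FGSub := {S : Subalgebra K B // S.FG}

instance : Nonempty (FGSub K B) := ⟨⟨⊥, Subalgebra.fg_bot⟩⟩
instance : IsDirected (FGSub K B) (· ≤ ·) :=
  ⟨fun S T => ⟨⟨S.1 ⊔ T.1, S.2.sup T.2⟩, (le_sup_left : S.1 ≤ S.1 ⊔ T.1),
    (le_sup_right : T.1 ≤ S.1 ⊔ T.1)⟩⟩

open CategoryTheory in
/-- The presentation of `B` as the directed union of its finitely generated subalgebras. -/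
noncomputable def fgPres : IndEt.Pres K B where
  J := FGSub K B
  obj := fun S => S.1
  map := fun {S T} f => Subalgebra.inclusion (leOfHom f)
  ι := fun S => S.1.val
  map_id := fun _ _ => rfl
  map_comp := fun _ _ _ => rfl
  ι_map := fun _ _ => rfl
  surj := fun b => ⟨⟨Algebra.adjoin K {b}, ⟨{b}, by rw [Finset.coe_singleton]⟩⟩,
    ⟨b, Algebra.subset_adjoin rfl⟩, rfl⟩
  inj := fun j x y hxy => ⟨j, 𝟙 j, by rw [Subtype.ext hxy]⟩

theorem isIndEtale_of_fg_etale (h : ∀ S : Subalgebra K B, S.FG → Algebra.Etale K S) :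
    EtPBC.IsIndEtale K B :=
  IndEt.isIndEtale_of_pres (fgPres K B) (fun j => h j.1 j.2)

end pres

section max
variable {K : Type u} [Field K]

lemma weaklyEtale_of_surjective {B B' : Type u} [CommRing B] [CommRing B'] [Algebra K B]
    [Algebra K B'] (φ : B →ₐ[K] B') (hφ : Function.Surjective φ) [Algebra.WeaklyEtale K B] :
    Algebra.WeaklyEtale K B' :=
  (weaklyEtale_iff_diagPure K B').mpr
    (((weaklyEtale_iff_diagPure K B).mp inferInstance).of_surjective φ hφ)

lemma weaklyEtale_subalgebra {B : Type u} [CommRing B] [Algebra K B] [Algebra.WeaklyEtale K B]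
    (S : Subalgebra K B) : Algebra.WeaklyEtale K S := by
  have hd := (weaklyEtale_iff_diagPure K B).mp inferInstance
  apply IndEt.weaklyEtale
  apply isIndEtale_of_fg_etale
  intro T hT
  have hT' : (T.map S.val).FG := hT.map _
  haveI := hd.etale_of_fg _ hT'
  exact Algebra.Etale.of_equiv (Subalgebra.equivMapOfInjective T S.val Subtype.val_injective).symm

lemma etale_of_finiteType {B : Type u} [CommRing B] [Algebra K B] [Algebra.WeaklyEtale K B]
    [Algebra.FiniteType K B] : Algebra.Etale K B := by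
  have hd := (weaklyEtale_iff_diagPure K B).mp inferInstance
  haveI := hd.etale_of_fg ⊤ Algebra.FiniteType.out
  exact Algebra.Etale.of_equiv (Subalgebra.topEquiv : (⊤ : Subalgebra K B) ≃ₐ[K] B)

theorem DiagPure.vnr {B : Type u} [CommRing B] [Algebra K B] (h : DiagPure K B) (b : B) :
    ∃ c, b = b * b * c := by
  haveI : Algebra.Etale K (Algebra.adjoin K {b}) :=
    h.etale_of_fg _ ⟨{b}, by rw [Finset.coe_singleton]⟩
  obtain ⟨I, _, Ai, _, _, e, _⟩ :=
    (Algebra.Etale.iff_exists_algEquiv_prod K (Algebra.adjoin K {b})).mp inferInstance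
  let b' : Algebra.adjoin K {b} := ⟨b, Algebra.subset_adjoin rfl⟩
  refine ⟨(e.symm (fun i => (e b' i)⁻¹) : Algebra.adjoin K {b}), ?_⟩
  have : b' = b' * b' * e.symm (fun i => (e b' i)⁻¹) := by
    apply e.injective
    rw [map_mul, map_mul, e.apply_symm_apply]
    funext i
    simp only [Pi.mul_apply]
    by_cases h0 : e b' i = 0
    · rw [h0]; simp
    · rw [mul_assoc, mul_inv_cancel₀ h0, mul_one]
  exact congrArg Subtype.val this

variable {A : Type u} [CommRing A] [Algebra K A]

lemma weaklyEtale_range {B : Type u} [CommRing B] [Algebra K B] [Algebra.WeaklyEtale K B]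
    (φ : B →ₐ[K] A) : Algebra.WeaklyEtale K φ.range :=
  weaklyEtale_of_surjective φ.rangeRestrict φ.rangeRestrict_surjective

lemma weaklyEtale_of_le {S T : Subalgebra K A} (hTS : T ≤ S) [Algebra.WeaklyEtale K S] :
    Algebra.WeaklyEtale K T := by
  haveI : Algebra.WeaklyEtale K (Subalgebra.inclusion hTS).range := weaklyEtale_subalgebra _
  exact weaklyEtale_of_surjective
    (AlgEquiv.ofInjective (Subalgebra.inclusion hTS)
      (Subalgebra.inclusion_injective hTS)).symm.toAlgHom (AlgEquiv.surjective _)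

lemma weaklyEtale_map {A' : Type u} [CommRing A'] [Algebra K A'] (f : A →ₐ[K] A')
    (S : Subalgebra K A) [Algebra.WeaklyEtale K S] : Algebra.WeaklyEtale K (S.map f) := by
  have := weaklyEtale_range (f.comp S.val)
  have heq : (f.comp S.val).range = S.map f := by rw [AlgHom.range_comp, Subalgebra.range_val]
  rwa [heq] at this

lemma weaklyEtale_sup (S1 S2 : Subalgebra K A) [Algebra.WeaklyEtale K S1]
    [Algebra.WeaklyEtale K S2] : Algebra.WeaklyEtale K ↥(S1 ⊔ S2) := by
  haveI : Algebra.WeaklyEtale K (S1 ⊗[K] S2) := Algebra.WeaklyEtale.trans K S1 (S1 ⊗[K] S2)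
  have h := weaklyEtale_range (Algebra.TensorProduct.productMap S1.val S2.val)
  have heq : (Algebra.TensorProduct.productMap S1.val S2.val).range = S1 ⊔ S2 := by
    rw [Algebra.TensorProduct.productMap_range, Subalgebra.range_val, Subalgebra.range_val]
  rwa [heq] at h

lemma weaklyEtale_bot : Algebra.WeaklyEtale K (⊥ : Subalgebra K A) := by
  have := weaklyEtale_range (Algebra.ofId K A)
  rwa [Algebra.range_ofId] at this

lemma le_max {S : Subalgebra K A} [h : Algebra.WeaklyEtale K S] :
    S ≤ EtAlgD.maxWeaklyEtale K A :=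
  le_sSup (show S ∈ {S : Subalgebra K A | Algebra.WeaklyEtale K S} from h)

theorem weaklyEtale_max : Algebra.WeaklyEtale K (EtAlgD.maxWeaklyEtale K A) := by
  classical
  let 𝒮 : Set (Subalgebra K A) := {S | Algebra.WeaklyEtale K S}
  have hdir : Directed (· ≤ ·) (fun S : 𝒮 => (S : Subalgebra K A)) := by
    intro S T
    haveI : Algebra.WeaklyEtale K (S : Subalgebra K A) := S.2
    haveI : Algebra.WeaklyEtale K (T : Subalgebra K A) := T.2
    exact ⟨⟨S.1 ⊔ T.1, weaklyEtale_sup S.1 T.1⟩, le_sup_left, le_sup_right⟩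
  haveI : Nonempty 𝒮 := ⟨⟨⊥, weaklyEtale_bot⟩⟩
  have hmem : ∀ x ∈ EtAlgD.maxWeaklyEtale K A, ∃ S : 𝒮, x ∈ (S : Subalgebra K A) := by
    intro x hx
    have h1 : EtAlgD.maxWeaklyEtale K A = ⨆ S : 𝒮, (S : Subalgebra K A) := sSup_eq_iSup' _
    rw [h1, ← SetLike.mem_coe, Subalgebra.coe_iSup_of_directed hdir] at hx
    simpa using hx
  have hfin : ∀ t : Finset A, (∀ x ∈ t, x ∈ EtAlgD.maxWeaklyEtale K A) →
      ∃ S : 𝒮, (t : Set A) ⊆ (S : Subalgebra K A) := by
    intro t
    induction t using Finset.induction_on with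
    | empty => intro _; exact ⟨⟨⊥, weaklyEtale_bot⟩, by simp⟩
    | insert a t _ ih =>
      intro h
      obtain ⟨S1, h1⟩ := ih (fun x hx => h x (Finset.mem_insert_of_mem hx))
      obtain ⟨S2, h2⟩ := hmem a (h a (Finset.mem_insert_self a t))
      obtain ⟨S3, h13, h23⟩ := hdir S1 S2
      refine ⟨S3, ?_⟩
      rw [Finset.coe_insert]
      exact Set.insert_subset (h23 h2) (h1.trans h13)
  apply IndEt.weaklyEtale
  apply isIndEtale_of_fg_etale
  intro T' hT'
  obtain ⟨t, ht⟩ := hT'.map (EtAlgD.maxWeaklyEtale K A).val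
  have htmem : ∀ x ∈ t, x ∈ EtAlgD.maxWeaklyEtale K A := by
    intro x hx
    have : x ∈ T'.map (EtAlgD.maxWeaklyEtale K A).val := ht ▸ Algebra.subset_adjoin hx
    obtain ⟨y, _, rfl⟩ := this
    exact y.2
  obtain ⟨S, hS⟩ := hfin t htmem
  have hle : T'.map (EtAlgD.maxWeaklyEtale K A).val ≤ S := by
    rw [← ht]; exact Algebra.adjoin_le hS
  haveI : Algebra.WeaklyEtale K (S : Subalgebra K A) := S.2
  haveI : Algebra.WeaklyEtale K (T'.map (EtAlgD.maxWeaklyEtale K A).val) := weaklyEtale_of_le hle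
  haveI : Algebra.WeaklyEtale K T' :=
    weaklyEtale_of_surjective
      (Subalgebra.equivMapOfInjective T' (EtAlgD.maxWeaklyEtale K A).val
        Subtype.val_injective).symm.toAlgHom
      (AlgEquiv.surjective _)
  haveI : Algebra.FiniteType K T' := (Subalgebra.fg_iff_finiteType T').mp hT'
  exact etale_of_finiteType

theorem max_map_val (A' : Subalgebra K A) :
    (EtAlgD.maxWeaklyEtale K A').map A'.val = EtAlgD.maxWeaklyEtale K A ⊓ A' := by
  haveI := weaklyEtale_max (K := K) (A := A)
  haveI := weaklyEtale_max (K := K) (A := A')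
  apply le_antisymm
  · refine le_inf ?_ ?_
    · haveI := weaklyEtale_map A'.val (EtAlgD.maxWeaklyEtale K A')
      exact le_max
    · rintro x ⟨y, _, rfl⟩
      exact y.2
  · haveI : Algebra.WeaklyEtale K ↥(EtAlgD.maxWeaklyEtale K A ⊓ A') :=
      weaklyEtale_of_le (inf_le_left : EtAlgD.maxWeaklyEtale K A ⊓ A' ≤ EtAlgD.maxWeaklyEtale K A)
    have h1 : ((EtAlgD.maxWeaklyEtale K A ⊓ A').comap A'.val).map A'.val
        = EtAlgD.maxWeaklyEtale K A ⊓ A' := by
      rw [Subalgebra.map_comap_eq, Subalgebra.range_val]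
      exact inf_eq_left.mpr inf_le_right
    haveI : Algebra.WeaklyEtale K ↥(((EtAlgD.maxWeaklyEtale K A ⊓ A').comap A'.val).map A'.val) := by
      rw [h1]; infer_instance
    haveI : Algebra.WeaklyEtale K ↥((EtAlgD.maxWeaklyEtale K A ⊓ A').comap A'.val) :=
      weaklyEtale_of_surjective
        (Subalgebra.equivMapOfInjective ((EtAlgD.maxWeaklyEtale K A ⊓ A').comap A'.val) A'.val
          Subtype.val_injective).symm.toAlgHom (AlgEquiv.surjective _)
    calc EtAlgD.maxWeaklyEtale K A ⊓ A'
        = ((EtAlgD.maxWeaklyEtale K A ⊓ A').comap A'.val).map A'.val := h1.symm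
      _ ≤ (EtAlgD.maxWeaklyEtale K A').map A'.val := Subalgebra.map_mono le_max

theorem max_bijOn_red :
    Set.BijOn (Ideal.Quotient.mkₐ K (nilradical A)) (EtAlgD.maxWeaklyEtale K A)
      (EtAlgD.maxWeaklyEtale K (A ⧸ nilradical A)) := by
  haveI := weaklyEtale_max (K := K) (A := A)
  refine ⟨?_, ?_, ?_⟩
  · intro x hx
    haveI := weaklyEtale_map (Ideal.Quotient.mkₐ K (nilradical A)) (EtAlgD.maxWeaklyEtale K A)
    exact le_max (S := (EtAlgD.maxWeaklyEtale K A).map (Ideal.Quotient.mkₐ K (nilradical A)))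
      ⟨x, hx, rfl⟩
  · intro x hx y hy hxy
    have hd := (weaklyEtale_iff_diagPure K (EtAlgD.maxWeaklyEtale K A)).mp inferInstance
    haveI := hd.isReduced
    have hnil : IsNilpotent (x - y) := by
      have : Ideal.Quotient.mk (nilradical A) (x - y) = 0 := by
        rw [map_sub]; exact sub_eq_zero.mpr hxy
      exact Ideal.Quotient.eq_zero_iff_mem.mp this
    have h2 : IsNilpotent (⟨x - y, sub_mem hx hy⟩ : EtAlgD.maxWeaklyEtale K A) := by
      obtain ⟨n, hn⟩ := hnil
      exact ⟨n, Subtype.ext (by simpa using hn)⟩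
    have h3 := h2.eq_zero
    exact sub_eq_zero.mp (congrArg Subtype.val h3)
  · intro z hz
    obtain ⟨b, rfl⟩ := Ideal.Quotient.mk_surjective z
    let π₀ : Algebra.adjoin K {b} →ₐ[K] A ⧸ nilradical A :=
      (Ideal.Quotient.mkₐ K (nilradical A)).comp (Algebra.adjoin K {b}).val
    have hrange : π₀.range ≤ EtAlgD.maxWeaklyEtale K (A ⧸ nilradical A) := by
      rw [AlgHom.range_comp, Subalgebra.range_val, AlgHom.map_adjoin, Set.image_singleton]
      exact Algebra.adjoin_le (Set.singleton_subset_iff.mpr hz)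
    haveI := weaklyEtale_max (K := K) (A := A ⧸ nilradical A)
    haveI : Algebra.WeaklyEtale K π₀.range := weaklyEtale_of_le hrange
    haveI : Algebra.FiniteType K (Algebra.adjoin K {b}) :=
      (Subalgebra.fg_iff_finiteType _).mp ⟨{b}, by rw [Finset.coe_singleton]⟩
    haveI : Algebra.FiniteType K π₀.range :=
      Algebra.FiniteType.of_surjective π₀.rangeRestrict π₀.rangeRestrict_surjective
    haveI : Algebra.Etale K π₀.range := etale_of_finiteType
    haveI : IsNoetherianRing (Algebra.adjoin K {b}) :=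
      Algebra.FiniteType.isNoetherianRing K _
    have hker : RingHom.ker π₀.rangeRestrict ≤ nilradical (Algebra.adjoin K {b}) := by
      intro a ha
      have h1 : π₀ a = 0 := congrArg Subtype.val (RingHom.mem_ker.mp ha)
      have h2 : (a : A) ∈ nilradical A := Ideal.Quotient.eq_zero_iff_mem.mp h1
      obtain ⟨n, hn⟩ := h2
      exact ⟨n, Subtype.ext (by simpa using hn)⟩
    have hnil : IsNilpotent (RingHom.ker π₀.rangeRestrict) := by
      obtain ⟨n, hn⟩ := IsNoetherianRing.isNilpotent_nilradical (Algebra.adjoin K {b})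
      refine ⟨n, ?_⟩
      rw [Ideal.zero_eq_bot] at hn ⊢
      exact le_bot_iff.mp (hn ▸ Ideal.pow_right_mono hker n)
    obtain ⟨σ, hσ⟩ := Algebra.FormallySmooth.exists_lift (RingHom.ker π₀.rangeRestrict) hnil
      (Ideal.quotientKerAlgEquivOfSurjective π₀.rangeRestrict_surjective).symm.toAlgHom
    let w : π₀.range := ⟨Ideal.Quotient.mk _ b, ⟨⟨b, Algebra.subset_adjoin rfl⟩, rfl⟩⟩
    have hπσ : π₀ (σ w) = Ideal.Quotient.mk _ b := by
      have h1 : Ideal.Quotient.mk _ (σ w)
          = (Ideal.quotientKerAlgEquivOfSurjective π₀.rangeRestrict_surjective).symm w :=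
        AlgHom.congr_fun hσ w
      have h2 := congrArg (Ideal.quotientKerAlgEquivOfSurjective π₀.rangeRestrict_surjective) h1
      rw [AlgEquiv.apply_symm_apply, Ideal.quotientKerAlgEquivOfSurjective_mk] at h2
      exact congrArg Subtype.val h2
    refine ⟨((σ w : Algebra.adjoin K {b}) : A), ?_, hπσ⟩
    haveI := weaklyEtale_range ((Algebra.adjoin K {b}).val.comp σ)
    exact le_max (S := ((Algebra.adjoin K {b}).val.comp σ).range) ⟨w, rfl⟩

theorem max_isField (hidem : ∀ e : A, IsIdempotentElem e → e = 0 ∨ e = 1) [Nontrivial A] :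
    IsField (EtAlgD.maxWeaklyEtale K A) ∧ Algebra.IsSeparable K (EtAlgD.maxWeaklyEtale K A) := by
  haveI := weaklyEtale_max (K := K) (A := A)
  have hd := (weaklyEtale_iff_diagPure K (EtAlgD.maxWeaklyEtale K A)).mp inferInstance
  have hfield : IsField (EtAlgD.maxWeaklyEtale K A) := by
    refine ⟨⟨0, 1, zero_ne_one⟩, mul_comm, ?_⟩
    intro b hb
    obtain ⟨c, hc⟩ := hd.vnr b
    have hbc : (b * c) * (b * c) = b * c := by
      calc (b * c) * (b * c) = (b * b * c) * c := by ring
        _ = b * c := by rw [← hc]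
    have hidm : IsIdempotentElem ((b * c : EtAlgD.maxWeaklyEtale K A) : A) := by
      show ((b * c : EtAlgD.maxWeaklyEtale K A) : A) * ((b * c : EtAlgD.maxWeaklyEtale K A) : A) = _
      rw [← Subalgebra.coe_mul, hbc]
    rcases hidem _ hidm with h0 | h1
    · exfalso
      apply hb
      have h0' : b * c = 0 := Subtype.ext h0
      rw [hc, mul_assoc, h0', mul_zero]
    · exact ⟨c, Subtype.ext h1⟩
  haveI : IsDomain (EtAlgD.maxWeaklyEtale K A) := hfield.isDomain
  exact ⟨hfield, hd.isSeparable_of_isDomain⟩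

end max

end Groth.Agent.Lead.WEField
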